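import Cfsg.Agent.Lib.Invol.RankOneInter.Basic
import Cfsg.Agent.Lib.Invol.CentralMeet.Basic
import Cfsg.Agent.Lib.Invol.AschCrit.Wrapper
import Cfsg.Agent.Lib.Bender.Gen.Final
import Cfsg.Agent.Lib.OddLocal.Final.OddOrder

/-!
Owner: helper16. S3185: simple groups whose central Sylow 2-intersections have 2-rank at most one.

* `Cen S z`: `z` is an involution in the centre of `S`.
* `Herz.eq_of_pair`: a four group with a 2-central involution lies in one Sylow subgroup.
* `Herz.cen_of_mem`: a 2-central involution of `S` is central in `S`; `Herz.exists_two_cen`: there are two of them.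
* `Herz.fusion`: their fusion is controlled by `N(S)`.
* `Herz.family_of_single`: if none lies in two Sylow subgroups, the group is of rank one (given S1175), and
  `Herz.stronglyEmbedded_of_single`: the normaliser of a Sylow subgroup is strongly embedded.
-/

set_option autoImplicit false
set_option linter.style.haveILetI false
set_option linter.unusedSectionVars false

namespace CfsgLib.CentralInter

open Subgroup
open CfsgLib.Signalizer (involution_sq involution_inv involution_ne_one orderOf_eq_two_of orderOf_conj)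
open CfsgLib.CentralMeet (mem_smul_sylow conj_mem_smul)

universe u

/-- An involution in the centre of `S`. -/
def Cen {G : Type u} [Group G] (S : Sylow 2 G) (z : G) : Prop :=
  z ∈ (S : Subgroup G) ∧ orderOf z = 2 ∧ ∀ s ∈ (S : Subgroup G), s * z = z * s

/-- The hypotheses of S3185. -/
structure Herz (G : Type u) [Group G] : Prop where
  simple : IsSimpleGroup G
  nonabelian : ¬ IsMulCommutative G
  inter : ∀ S T : Sylow 2 G, S ≠ T →
    ((S : Subgroup G) ⊓ (T : Subgroup G) = ⊥ ∨
      ∃ z ∈ (S : Subgroup G) ⊓ (T : Subgroup G), orderOf z = 2 ∧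
        ∃ U : Sylow 2 G, z ∈ (Subgroup.center ↥(U : Subgroup G)).map (U : Subgroup G).subtype) →
    Cfsg.PRankLE 2 1 ↥((S : Subgroup G) ⊓ (T : Subgroup G))

variable {G : Type u} [Group G]

theorem Cen.conj {S : Sylow 2 G} {z : G} (h : Cen S z) (g : G) : Cen (g • S) (g * z * g⁻¹) := by
  refine ⟨conj_mem_smul h.1, (orderOf_conj g z).trans h.2.1, fun s hs => ?_⟩
  have h1 := congrArg (fun w => g * w * g⁻¹) (h.2.2 _ (mem_smul_sylow.1 hs))
  simpa [mul_assoc] using h1

theorem Cen.mem_center {S : Sylow 2 G} {z : G} (h : Cen S z) :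
    z ∈ (Subgroup.center ↥(S : Subgroup G)).map (S : Subgroup G).subtype :=
  ⟨⟨z, h.1⟩, Subgroup.mem_center_iff.2 fun s => Subtype.ext (h.2.2 _ s.2), rfl⟩

theorem Cen.isTwoCentral {S : Sylow 2 G} {z : G} (h : Cen S z) : Cfsg.IsTwoCentralInvolution z :=
  ⟨h.2.1, S, h.1, h.2.2⟩

theorem Cen.le_centralizer {S : Sylow 2 G} {z : G} (h : Cen S z) :
    (S : Subgroup G) ≤ centralizer ({z} : Set G) :=
  fun s hs => mem_centralizer_singleton_iff.2 (h.2.2 s hs)

variable [Finite G]

namespace Herz

variable (hG : Herz G)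
include hG

/-- A four group with a 2-central involution lies in one Sylow subgroup. -/
theorem eq_of_pair {U S T : Sylow 2 G} {z x : G} (hz : Cen U z) (hx : orderOf x = 2) (hne : x ≠ z)
    (hc : x * z = z * x) (hzS : z ∈ (S : Subgroup G)) (hxS : x ∈ (S : Subgroup G))
    (hzT : z ∈ (T : Subgroup G)) (hxT : x ∈ (T : Subgroup G)) : S = T := by
  by_contra hST
  set D := (S : Subgroup G) ⊓ (T : Subgroup G) with hD
  have h := hG.inter S T hST (Or.inr ⟨z, ⟨hzS, hzT⟩, hz.2.1, U, hz.mem_center⟩)
  let a : D := ⟨x, hxS, hxT⟩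
  let b : D := ⟨z, hzS, hzT⟩
  have hab : Commute a b := Subtype.ext hc
  have ha : orderOf a = 2 := by rw [← Subgroup.orderOf_coe]; exact hx
  have hb : orderOf b = 2 := by rw [← Subgroup.orderOf_coe]; exact hz.2.1
  have hne' : a ≠ b := fun e => hne (congrArg Subtype.val e)
  have hcl : ∀ u ∈ closure ({a, b} : Set D), u = 1 ∨ u = a ∨ u = b ∨ u = a * b := fun u hu =>
    CfsgLib.TwoFusion.DihedralProduct.mem_closure_pair_cases (involution_sq ha) (involution_sq hb) hab hu
  have h2 := h (closure ({a, b} : Set D)) (Subgroup.isMulCommutative_closure (by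
      rintro u (rfl | rfl) v (rfl | rfl)
      exacts [rfl, hab.eq, hab.eq.symm, rfl])) (fun u hu => by
    rcases hcl u hu with rfl | rfl | rfl | rfl
    · exact one_pow 2
    · rw [pow_two]; exact involution_sq ha
    · rw [pow_two]; exact involution_sq hb
    · rw [hab.mul_pow, pow_two, pow_two, involution_sq ha, involution_sq hb, one_mul])
  rw [CfsgLib.TwoFusion.DihedralProduct.card_closure_pair ha hb hab hne'] at h2
  omega

theorem not_solvable : ¬ Group.IsSolvable G := by
  intro hs
  haveI := hG.simple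
  haveI := hs
  exact hG.nonabelian ⟨⟨IsSimpleGroup.comm_iff_isSolvable.2 hs⟩⟩

theorem even : Even (Nat.card G) := by
  by_contra h
  exact hG.not_solvable (CfsgLib.OddLocal.FTFinal.odd_order_solvable (Nat.not_even_iff_odd.1 h))

theorem normal_eq_bot {N : Subgroup G} (hN : N.Normal) (hne : N ≠ ⊤) : N = ⊥ := by
  haveI := hG.simple
  exact hN.eq_bot_or_eq_top.resolve_right hne

theorem oddCore_eq_bot : Cfsg.oddCore G = ⊥ := by
  refine hG.normal_eq_bot inferInstance fun e => ?_
  have h := CfsgLib.ZStar.odd_card_oddCore G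
  rw [e, Subgroup.card_top] at h
  exact absurd hG.even (Nat.not_even_iff_odd.2 h)

theorem centralizer_ne_top {z : G} (hz : z ≠ 1) : centralizer ({z} : Set G) ≠ ⊤ := by
  haveI := hG.simple
  intro h
  have hc : center G = ⊥ := hG.normal_eq_bot inferInstance fun e => hG.nonabelian
    ⟨⟨fun a b => Subgroup.mem_center_iff.1 (e ▸ Subgroup.mem_top b) a⟩⟩
  have h1 : z ∈ center G := Subgroup.mem_center_iff.2 fun g =>
    mem_centralizer_singleton_iff.1 (h ▸ Subgroup.mem_top g)
  rw [hc, mem_bot] at h1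
  exact hz h1

theorem exists_cen (S : Sylow 2 G) : ∃ z, Cen S z := by
  haveI := Fact.mk Nat.prime_two
  have hne : (S : Subgroup G) ≠ ⊥ := S.ne_bot_of_dvd_card (even_iff_two_dvd.1 hG.even)
  haveI : Nontrivial (S : Subgroup G) := (S : Subgroup G).nontrivial_iff_ne_bot.2 hne
  haveI : Nontrivial (Subgroup.center (S : Subgroup G)) := S.isPGroup'.center_nontrivial
  obtain ⟨w, hw⟩ := exists_prime_orderOf_dvd_card' (G := Subgroup.center (S : Subgroup G)) 2 (by
    obtain ⟨k, hk0, hk⟩ := (S.isPGroup'.to_subgroup _).nontrivial_iff_card.1 ‹_›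
    exact hk ▸ dvd_pow_self 2 hk0.ne')
  refine ⟨((w : (S : Subgroup G)) : G), (w : (S : Subgroup G)).2, ?_, fun s hs => ?_⟩
  · rw [Subgroup.orderOf_coe, Subgroup.orderOf_coe, hw]
  · exact congrArg Subtype.val (Subgroup.mem_center_iff.1 w.2 ⟨s, hs⟩)

/-- A 2-central involution of `S` is central in `S`. -/
theorem cen_of_mem {U S : Sylow 2 G} {w : G} (hw : Cen U w) (hwS : w ∈ (S : Subgroup G)) : Cen S w := by
  haveI := Fact.mk Nat.prime_two
  obtain ⟨e, he⟩ := hG.exists_cen S
  by_cases hew : w = e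
  · exact hew ▸ he
  set C := centralizer ({w} : Set G) with hC
  have hUC : (U : Subgroup G) ≤ C := hw.le_centralizer
  have heC : e ∈ C := mem_centralizer_singleton_iff.2 (he.2.2 w hwS).symm
  obtain ⟨P, hP⟩ := (IsPGroup.of_card (p := 2) (n := 1) (G := zpowers (⟨e, heC⟩ : C))
    (by rw [Nat.card_zpowers, ← Subgroup.orderOf_coe, pow_one]; exact he.2.1)).exists_le_sylow
  obtain ⟨c, hc⟩ := MulAction.exists_smul_eq C (U.subtype hUC) P
  have heP : e ∈ (((c : G) • U : Sylow 2 G) : Subgroup G) := by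
    have h := hP (mem_zpowers _)
    rw [← hc] at h
    rw [mem_smul_sylow]
    rw [Sylow.coe_subgroup_smul, Subgroup.mem_pointwise_smul_iff_inv_smul_mem] at h
    simpa [MulAut.smul_def, Subgroup.mem_subgroupOf] using h
  have hwc : Cen ((c : G) • U) w := by
    have h := hw.conj (c : G)
    rwa [mem_centralizer_singleton_iff.1 c.2, mul_inv_cancel_right] at h
  have hUS : (c : G) • U = S :=
    hG.eq_of_pair he hw.2.1 hew (he.2.2 w hwS).symm.symm heP hwc.1 he.1 hwS
  exact hUS ▸ hwc

theorem conj_cen {U S : Sylow 2 G} {z g : G} (hz : Cen U z) (h : g * z * g⁻¹ ∈ (S : Subgroup G)) :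
    Cen S (g * z * g⁻¹) :=
  hG.cen_of_mem (hz.conj g) h

/-- `S` has two central involutions. -/
theorem exists_two_cen (S : Sylow 2 G) : ∃ z e, Cen S z ∧ Cen S e ∧ e ≠ z := by
  haveI := Fact.mk Nat.prime_two
  obtain ⟨z, hz⟩ := hG.exists_cen S
  by_contra hno
  push Not at hno
  have hiso : ∀ g : G, g * z * g⁻¹ ∈ (S : Subgroup G) → g * z * g⁻¹ = z := fun g hg =>
    hno z _ hz (hG.conj_cen hz hg)
  have h1 := CfsgLib.ZStar.mem_oddCore_of_sylow S hz.2.1 hz.1 hiso
  refine hG.centralizer_ne_top (involution_ne_one hz.2.1) (eq_top_iff.2 fun g _ => ?_)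
  have h := h1 g
  rw [hG.oddCore_eq_bot, mem_bot, mul_inv_eq_one, mul_inv_eq_iff_eq_mul] at h
  exact mem_centralizer_singleton_iff.2 h.symm

/-- The product of two central involutions. -/
theorem cen_mul {S : Sylow 2 G} {a b : G} (ha : Cen S a) (hb : Cen S b) (hne : a ≠ b) : Cen S (a * b) := by
  refine ⟨mul_mem ha.1 hb.1, orderOf_eq_two_of ?_ ?_, fun s hs => ?_⟩
  · intro e
    exact hne (eq_inv_of_mul_eq_one_left e |>.trans (involution_inv hb.2.1))
  · rw [show a * b * (a * b) = a * (b * a) * b by group, ← ha.2.2 b hb.1 |>.symm,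
      show a * (a * b) * b = (a * a) * (b * b) by group, involution_sq ha.2.1, involution_sq hb.2.1, one_mul]
  · rw [← mul_assoc, ha.2.2 s hs, mul_assoc, hb.2.2 s hs, mul_assoc]

omit hG in
theorem fusion {S : Sylow 2 G} {a g : G} (ha : Cen S a) (hb : Cen S (g * a * g⁻¹)) :
    ∃ n ∈ normalizer ((S : Subgroup G) : Set G), g * a * g⁻¹ = n * a * n⁻¹ := by
  haveI := Fact.mk Nat.prime_two
  obtain ⟨n, hn, he⟩ := S.conj_eq_normalizer_conj_of_mem_centralizer a g⁻¹
    (mem_centralizer_iff.2 ha.2.2) (by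
      refine mem_centralizer_iff.2 fun s hs => ?_
      simpa using hb.2.2 s hs)
  exact ⟨n⁻¹, inv_mem hn, by simpa using he⟩

theorem not_normal (S : Sylow 2 G) : normalizer ((S : Subgroup G) : Set G) ≠ ⊤ := by
  intro h
  haveI hn : (S : Subgroup G).Normal := normalizer_eq_top_iff.1 h
  haveI := hG.simple
  have hne : (S : Subgroup G) ≠ ⊥ := fun e => by
    obtain ⟨z, hz⟩ := hG.exists_cen S
    have h1 := hz.1
    rw [e, mem_bot] at h1
    exact involution_ne_one hz.2.1 h1
  have htop : (S : Subgroup G) = ⊤ := hn.eq_bot_or_eq_top.resolve_left hne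
  haveI := Fact.mk Nat.prime_two
  have hp : IsPGroup 2 G := fun g => by
    obtain ⟨k, hk⟩ := S.isPGroup' ⟨g, htop ▸ mem_top g⟩
    exact ⟨k, congrArg Subtype.val hk⟩
  haveI := hp.isNilpotent
  exact hG.not_solvable inferInstance

/-- If no 2-central involution lies in two Sylow subgroups, the normaliser of one is strongly embedded. -/
theorem stronglyEmbedded_of_single (hmain : CfsgLib.AschCrit.Main.{u})
    (hs : ∀ (S T : Sylow 2 G) (z : G), Cen S z → z ∈ (T : Subgroup G) → T = S)
    (S : Sylow 2 G) : Cfsg.IsStronglyEmbedded (normalizer ((S : Subgroup G) : Set G)) := by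
  haveI := Fact.mk Nat.prime_two
  haveI := hG.simple
  obtain ⟨z, e, hz, he, hez⟩ := hG.exists_two_cen S
  set H := normalizer ((S : Subgroup G) : Set G) with hH
  -- the centraliser of a 2-central involution of `S`
  have hcent : ∀ {w : G}, Cen S w → centralizer ({w} : Set G) ≤ H := by
    intro w hw c hc
    refine Sylow.smul_eq_iff_mem_normalizer.1 (hs S _ w hw (mem_smul_sylow.2 ?_))
    rw [mul_assoc, ← mem_centralizer_singleton_iff.1 hc, inv_mul_cancel_left]
    exact hw.1
  have hmem : ∀ {x : G}, orderOf x = 2 → x ∈ H → x ∈ (S : Subgroup G) := by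
    intro x hx hxH
    have hp : IsPGroup 2 (zpowers x) := IsPGroup.of_card (n := 1) (by rw [Nat.card_zpowers, hx, pow_one])
    have h' : x ∈ zpowers x ⊓ normalizer (S : Set G) := ⟨mem_zpowers x, hxH⟩
    rw [hp.inf_normalizer_sylow S] at h'
    exact h'.2
  have h2 : ∀ g : G, g * z * g⁻¹ ∈ H → g ∈ H := fun g hg =>
    Sylow.smul_eq_iff_mem_normalizer.1
      (hs (g • S) S _ (hz.conj g) (hmem ((orderOf_conj g z).trans hz.2.1) hg)).symm
  have h3 : ∀ g : G, Commute z (g * z * g⁻¹) → g * z * g⁻¹ ≠ z →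
      Subgroup.centralizer ({z * (g * z * g⁻¹)} : Set G) ≤ H := by
    intro g hc hne
    have hgS : g * z * g⁻¹ ∈ (S : Subgroup G) :=
      hmem ((orderOf_conj g z).trans hz.2.1) (hcent hz (mem_centralizer_singleton_iff.2 hc.symm.eq))
    exact hcent (hG.cen_mul hz (hG.conj_cen hz hgS) hne.symm)
  have hSE : Cfsg.IsStronglyEmbedded H := CfsgLib.AschCrit.stronglyEmbedded_of_main hmain H (hG.not_normal S) z
    hz.2.1 (le_normalizer hz.1) ⟨S, hz.1, hz.2.2⟩ h2 h3
  exact hSE

/-- If no 2-central involution lies in two Sylow subgroups, the group is of rank one. -/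
theorem family_of_single (hmain : CfsgLib.AschCrit.Main.{u})
    (hs : ∀ (S T : Sylow 2 G) (z : G), Cen S z → z ∈ (T : Subgroup G) → T = S) :
    CfsgLib.Bender.RankOneFamily G := by
  haveI := hG.simple
  obtain ⟨S⟩ := (inferInstance : Nonempty (Sylow 2 G))
  obtain ⟨z, e, hz, he, hez⟩ := hG.exists_two_cen S
  exact CfsgLib.Bender.family_of_simple CfsgLib.Bender.benderGen (hG.stronglyEmbedded_of_single hmain hs S)
    ⟨z, le_normalizer hz.1, e, le_normalizer he.1, hz.2.1, he.2.1, hez.symm, he.2.2 z hz.1⟩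

end Herz

end CfsgLib.CentralInter
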