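import Cfsg.Agent.Lib.Recog.CentralIntersections.Orbit

/-!
Owner: helper16. S3185: the Sylow subgroup is elementary of order eight, by counting square roots.
-/

set_option autoImplicit false
set_option linter.style.haveILetI false
set_option linter.unusedSectionVars false

namespace CfsgLib.CentralInter

open Subgroup
open CfsgLib.Signalizer (involution_sq involution_inv involution_ne_one orderOf_eq_two_of orderOf_conj)

universe u

variable {G : Type u} [Group G] [Finite G]

/-- A nontrivial 2-element has an involution among its iterated squares. -/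
theorem exists_pow_involution {x : G} {k : ℕ} (hk : x ^ 2 ^ k = 1) (hx : x ≠ 1) :
    ∃ i, orderOf (x ^ 2 ^ i) = 2 := by
  induction k with
  | zero => exact absurd (by rwa [pow_zero, pow_one] at hk) hx
  | succ k ih =>
    by_cases h : x ^ 2 ^ k = 1
    · exact ih h
    · exact ⟨k, orderOf_eq_two_of h (by rw [← pow_add, ← two_mul, mul_comm, ← pow_succ, hk])⟩

namespace MultiData

variable {S : Sylow 2 G} {z : G} (h : MultiData S z)
include h

theorem elementary (hG : Herz G) : (∀ x ∈ (S : Subgroup G), x * x = 1) ∧ Nat.card (S : Subgroup G) = 8 ∧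
    (∀ x ∈ (S : Subgroup G), x ≠ 1 → Cen S x) ∧
    (∀ w ∈ Cfsg.pCore 2 (Lz z), w = 1 ∨ w = pr z (zC z)) ∧
    ∃ M, Line (pr z (zC z)) h.sylL 4 M ∧ M = (h.sylL : Subgroup (Lz z)) := by
  classical
  haveI := Fact.mk Nat.prime_two
  obtain ⟨q, M, hL⟩ := h.exists_line hG
  have hq := h.q_eq_four hG hL
  subst hq
  have hE : Nat.card ↥(cenGroup hG S) = 8 := h.card_cenGroup hG hL
  haveI : (Cfsg.pCore 2 (Lz z)).Normal := CfsgLib.HallGen.pCore_normal' 2
  obtain ⟨ψ, hψe, hker, hψr, -⟩ := h.exists_psi hG hL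
  set W := Cfsg.pCore 2 (Lz z) with hW
  -- a central involution outside `z`
  obtain ⟨e₀, he₀, he₀z⟩ : ∃ e, Cen S e ∧ e ≠ z := by
    obtain ⟨a, b, ha, hb, hab⟩ := hG.exists_two_cen S
    by_cases haz : a = z
    · exact ⟨b, hb, fun hbz => hab (hbz.trans haz.symm)⟩
    · exact ⟨a, ha, haz⟩
  set e₀' : ↥(Cz z) := ⟨e₀, h.mem_C he₀.1⟩ with he₀'
  have he₀W : pr z e₀' ∉ W := fun hw => by
    rcases hL.core_sq _ hw (by rw [← map_mul, show e₀' * e₀' = 1 from Subtype.ext (involution_sq he₀.2.1), map_one])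
      with h1 | h1
    · exact involution_ne_one he₀.2.1 (congrArg Subtype.val (h.inj (s := e₀') (t := 1) he₀.1 (one_mem _)
        (h1.trans (map_one _).symm)))
    · exact he₀z (congrArg Subtype.val (h.inj (s := e₀') (t := zC z) he₀.1 h.cen.1 h1))
  -- powers: `z` is not a `2^j`-th power if all these powers lie in `W`
  have hpow : ∀ j : ℕ, (∀ s : ↥(Cz z), (s : G) ∈ (S : Subgroup G) → pr z (s ^ 2 ^ j) ∈ W) →
      ∀ s ∈ (S : Subgroup G), s ^ 2 ^ j = 1 := by
    intro j hj s hs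
    by_contra hne
    obtain ⟨k, hk⟩ := S.isPGroup' ⟨_, pow_mem hs (2 ^ j)⟩
    obtain ⟨i, hi⟩ := exists_pow_involution (G := G) (x := s ^ 2 ^ j) (k := k) (congrArg Subtype.val hk) hne
    set s' : ↥(Cz z) := ⟨s, h.mem_C hs⟩ with hs'
    have hmem : pr z ((s' ^ 2 ^ j) ^ 2 ^ i) ∈ W := by rw [map_pow]; exact pow_mem (hj s' hs) _
    have hz : (s ^ 2 ^ j) ^ 2 ^ i = z := by
      rcases hL.core_sq _ hmem (by
        rw [← map_mul, show (s' ^ 2 ^ j) ^ 2 ^ i * (s' ^ 2 ^ j) ^ 2 ^ i = 1 from Subtype.ext (involution_sq hi),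
          map_one]) with h1 | h1
      · exfalso
        exact involution_ne_one hi (congrArg Subtype.val (h.inj (s := (s' ^ 2 ^ j) ^ 2 ^ i) (t := 1)
          (pow_mem (pow_mem hs _) _) (one_mem _) (h1.trans (map_one _).symm)))
      · exact congrArg Subtype.val (h.inj (s := (s' ^ 2 ^ j) ^ 2 ^ i) (t := zC z) (pow_mem (pow_mem hs _) _)
          h.cen.1 h1)
    rw [← pow_mul, mul_comm, pow_mul] at hz
    obtain ⟨n, hn, hne₀⟩ := h.fused hG he₀
    have hy : n * s ^ 2 ^ i * n⁻¹ ∈ (S : Subgroup G) := (mem_normalizer_iff.1 hn _).1 (pow_mem hs _)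
    refine he₀W ?_
    have he : e₀' = (⟨_, h.mem_C hy⟩ : ↥(Cz z)) ^ 2 ^ j := Subtype.ext (by
      show e₀ = (n * s ^ 2 ^ i * n⁻¹) ^ 2 ^ j
      rw [conj_pow, hz, hne₀])
    rw [he]
    exact hj _ hy
  -- the other shape is impossible
  have hSM : (h.sylL : Subgroup (Lz z)) = M := by
    refine hL.shape.resolve_right ?_
    rintro ⟨h4, hbig⟩
    have hs4 : ∀ s ∈ (S : Subgroup G), s ^ 4 = 1 := hpow 2 fun s hs => by
      rw [show (2 : ℕ) ^ 2 = 4 by norm_num, map_pow,
        show pr z s ^ 4 = (pr z s * pr z s) * (pr z s * pr z s) by simp [pow_succ, mul_assoc]]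
      exact h4 _ (h.mem_sylL hs)
    -- the squares are central involutions
    have hsq : ∀ s ∈ (S : Subgroup G), s * s ∈ cenGroup hG S := by
      intro s hs
      set s' : ↥(Cz z) := ⟨s, h.mem_C hs⟩ with hs'
      have hss : (s * s) * (s * s) = 1 := by
        rw [← hs4 s hs]; simp [pow_succ, mul_assoc]
      have hxM : pr z (s' * s') ∈ M := (hL.sq_iff _ (h.mem_sylL (mul_mem hs hs : ((s' * s' : ↥(Cz z)) : G) ∈ _))).1
        (by rw [← map_mul, show s' * s' * (s' * s') = 1 from Subtype.ext hss, map_one]; exact one_mem _)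
      have hmap : QuotientGroup.mk' W (pr z (s' * s')) ∈ ψ.range := by
        have hle : ψ.range ≤ M.map (QuotientGroup.mk' W) := by
          rintro _ ⟨x, rfl⟩
          rw [hψe]
          refine mem_map_of_mem _ ((hL.sq_iff _ (h.mem_sylL (cenGroup_le hG S x.2))).1 ?_)
          rw [← map_mul, show (⟨(x : G), h.mem_C (cenGroup_le hG S x.2)⟩ : ↥(Cz z)) *
            ⟨(x : G), h.mem_C (cenGroup_le hG S x.2)⟩ = 1 from Subtype.ext (cenGroup_sq hG x.2), map_one]
          exact one_mem _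
        have hc : Nat.card (M.map (QuotientGroup.mk' W)) = 4 := by
          have h1 := card_comap_mk (M.map (QuotientGroup.mk' W))
          rw [comap_map_eq_self (by rw [QuotientGroup.ker_mk']; exact hL.core_le_M), hL.card] at h1
          exact (Nat.eq_of_mul_eq_mul_right Nat.card_pos h1).symm
        rw [eq_of_le_of_card_ge hle (by rw [hc, hψr])]
        exact mem_map_of_mem _ hxM
      obtain ⟨x, hx⟩ := hmap
      set x' : ↥(Cz z) := ⟨x, h.mem_C (cenGroup_le hG S x.2)⟩ with hx'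
      have hw : pr z (x'⁻¹ * (s' * s')) ∈ W := by
        rw [map_mul, map_inv]
        exact QuotientGroup.eq.1 ((hψe x).symm.trans hx)
      have hwS : ((x'⁻¹ * (s' * s') : ↥(Cz z)) : G) ∈ (S : Subgroup G) :=
        mul_mem (inv_mem (cenGroup_le hG S x.2)) (mul_mem hs hs)
      have hw1 : (x'⁻¹ * (s' * s')) * (x'⁻¹ * (s' * s')) = 1 := Subtype.ext (by
        show ((x : G))⁻¹ * (s * s) * ((x : G)⁻¹ * (s * s)) = 1
        have hc : Commute (s * s) (x : G)⁻¹ := (Commute.inv_right (cenGroup_central hG x.2 _ (mul_mem hs hs)))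
        rw [show (x : G)⁻¹ * (s * s) * ((x : G)⁻¹ * (s * s)) = (x : G)⁻¹ * ((s * s) * (x : G)⁻¹) * (s * s) by group,
          hc.eq, show (x : G)⁻¹ * ((x : G)⁻¹ * (s * s)) * (s * s) = ((x : G) * x)⁻¹ * ((s * s) * (s * s)) by group,
          cenGroup_sq hG x.2, hss, inv_one, one_mul])
      rcases hL.core_sq _ hw (by rw [← map_mul, hw1, map_one]) with h1 | h1
      · have h2 := congrArg Subtype.val (h.inj hwS (one_mem _ : ((1 : ↥(Cz z)) : G) ∈ _) (h1.trans (map_one _).symm))
        change (x : G)⁻¹ * (s * s) = 1 at h2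
        rw [← inv_mul_eq_one.1 h2]
        exact x.2
      · have h2 := congrArg Subtype.val (h.inj hwS (t := zC z) h.cen.1 h1)
        change (x : G)⁻¹ * (s * s) = z at h2
        rw [inv_mul_eq_iff_eq_mul.1 h2]
        exact mul_mem x.2 (Or.inr h.cen)
    -- the roots
    letI := Fintype.ofFinite ↥(cenGroup hG S)
    let f : ↥(S : Subgroup G) → ↥(cenGroup hG S) := fun s => ⟨s.1 * s.1, hsq s.1 s.2⟩
    set r : ↥(cenGroup hG S) → ℕ := fun y => Nat.card {s : ↥(S : Subgroup G) // f s = y} with hr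
    have htot : Nat.card ↥(S : Subgroup G) = ∑ y, r y := by
      rw [← Nat.card_congr (Equiv.sigmaFiberEquiv f), Nat.card_sigma]
    have hSM' : Nat.card ↥(S : Subgroup G) = Nat.card (h.sylL : Subgroup (Lz z)) := by
      refine Nat.card_eq_of_bijective
        (fun s => ⟨pr z ⟨s.1, h.mem_C s.2⟩, h.mem_sylL (s := ⟨s.1, h.mem_C s.2⟩) s.2⟩) ⟨fun a b hab => ?_, ?_⟩
      · exact Subtype.ext (congrArg (fun w : ↥(Cz z) => (w : G))
          (h.inj (s := ⟨a.1, h.mem_C a.2⟩) (t := ⟨b.1, h.mem_C b.2⟩) a.2 b.2 (congrArg Subtype.val hab)))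
      · rintro ⟨y, hy⟩
        obtain ⟨s, hs, rfl⟩ := h.exists_of_mem_sylL hy
        exact ⟨⟨s, hs⟩, rfl⟩
    set y1 : ↥(cenGroup hG S) := 1 with hy1
    set yz : ↥(cenGroup hG S) := ⟨z, Or.inr h.cen⟩ with hyz
    have hne : yz ≠ y1 := fun e => involution_ne_one h.cen.2.1 (congrArg Subtype.val e)
    have hB : r y1 + r yz ≤ 4 * Nat.card W := by
      rw [← hL.card, hr, ← Nat.card_sum]
      have hmem : ∀ s : ↥(S : Subgroup G), (f s = y1 ∨ f s = yz) → pr z ⟨s.1, h.mem_C s.2⟩ ∈ M := by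
        intro s hs
        refine (hL.sq_iff _ (h.mem_sylL (s := ⟨s.1, h.mem_C s.2⟩) s.2)).1 ?_
        rw [← map_mul]
        rcases hs with hs | hs
        · rw [show (⟨s.1, h.mem_C s.2⟩ : ↥(Cz z)) * ⟨s.1, h.mem_C s.2⟩ = 1 from
            Subtype.ext (congrArg Subtype.val hs :), map_one]
          exact one_mem _
        · rw [show (⟨s.1, h.mem_C s.2⟩ : ↥(Cz z)) * ⟨s.1, h.mem_C s.2⟩ = zC z from
            Subtype.ext (congrArg Subtype.val hs :)]
          exact hL.z_mem
      refine Nat.card_le_card_of_injective (Sum.elim (fun s => (⟨_, hmem s.1 (Or.inl s.2)⟩ : M))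
        (fun s => ⟨_, hmem s.1 (Or.inr s.2)⟩)) ?_
      have hinj : ∀ (a b : ↥(S : Subgroup G)), pr z ⟨a.1, h.mem_C a.2⟩ = pr z ⟨b.1, h.mem_C b.2⟩ → a = b :=
        fun a b hab => Subtype.ext (congrArg (fun w : ↥(Cz z) => (w : G))
          (h.inj (s := ⟨a.1, h.mem_C a.2⟩) (t := ⟨b.1, h.mem_C b.2⟩) a.2 b.2 hab))
      rintro (a | a) (b | b) hab
      · exact congrArg Sum.inl (Subtype.ext (hinj _ _ (congrArg Subtype.val hab)))
      · exact absurd (b.2.symm.trans ((congrArg f (hinj _ _ (congrArg Subtype.val hab))).symm.trans a.2)) hne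
      · exact absurd (a.2.symm.trans ((congrArg f (hinj _ _ (congrArg Subtype.val hab))).trans b.2)) hne
      · exact congrArg Sum.inr (Subtype.ext (hinj _ _ (congrArg Subtype.val hab)))
    have heq : ∀ y, y ≠ y1 → r y = r yz := by
      intro y hy
      have hyc : Cen S (y : G) := y.2.resolve_left fun h1 => hy (Subtype.ext h1)
      obtain ⟨n, hn, hny⟩ := h.fused hG hyc
      refine (Nat.card_congr ?_).symm
      let σ : ↥(S : Subgroup G) ≃ ↥(S : Subgroup G) :=
        (MulAut.conj n).toEquiv.subtypeEquiv fun x => mem_normalizer_iff.1 hn x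
      refine σ.subtypeEquiv fun s => ?_
      show f s = yz ↔ f (σ s) = y
      rw [Subtype.ext_iff, Subtype.ext_iff]
      show s.1 * s.1 = z ↔ n * s.1 * n⁻¹ * (n * s.1 * n⁻¹) = (y : G)
      rw [← hny, show n * s.1 * n⁻¹ * (n * s.1 * n⁻¹) = n * (s.1 * s.1) * n⁻¹ by group, mul_left_inj, mul_right_inj]
    have hsum : ∑ y, r y ≤ 28 * Nat.card W := by
      rw [← Finset.add_sum_erase _ _ (Finset.mem_univ y1),
        ← Finset.add_sum_erase _ _ (Finset.mem_erase.2 ⟨hne, Finset.mem_univ yz⟩),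
        Finset.sum_congr rfl fun y hy => heq y (Finset.ne_of_mem_erase (Finset.mem_of_mem_erase hy)),
        Finset.sum_const, Finset.card_erase_of_mem (Finset.mem_erase.2 ⟨hne, Finset.mem_univ yz⟩),
        Finset.card_erase_of_mem (Finset.mem_univ y1), Finset.card_univ, ← Nat.card_eq_fintype_card, hE, smul_eq_mul]
      omega
    rw [← htot, hSM'] at hsum
    have : 0 < Nat.card W := Nat.card_pos
    change 8 * 4 * Nat.card W ≤ _ at hbig
    omega
  have hs2 : ∀ x ∈ (S : Subgroup G), x * x = 1 := fun x hx => by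
    have h1 := hpow 1 (fun s hs => by
      rw [pow_one, pow_two, map_mul]
      exact (hL.sq_iff _ (h.mem_sylL hs)).2 (hSM ▸ h.mem_sylL hs)) x hx
    rwa [pow_one, pow_two] at h1
  have hcen : ∀ x ∈ (S : Subgroup G), x ≠ 1 → Cen S x := fun x hx hx1 =>
    ⟨hx, orderOf_eq_two_of hx1 (hs2 x hx), fun s hs => by
      have h1 := hs2 _ (mul_mem hx hs)
      have hi : ∀ y ∈ (S : Subgroup G), y⁻¹ = y := fun y hy => inv_eq_of_mul_eq_one_right (hs2 y hy)
      calc s * x = s⁻¹ * x⁻¹ := by rw [hi s hs, hi x hx]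
        _ = (x * s)⁻¹ := (mul_inv_rev x s).symm
        _ = x * s := hi _ (mul_mem hx hs)⟩
  refine ⟨hs2, ?_, hcen, fun w hw => ?_, M, hL, hSM.symm⟩
  · rw [← hE]
    refine Nat.card_congr (Equiv.subtypeEquivRight fun x => ⟨fun hx => ?_, fun hx => cenGroup_le hG S hx⟩)
    by_cases hx1 : x = 1
    · exact Or.inl hx1
    · exact Or.inr (hcen x hx hx1)
  · obtain ⟨s, hs, rfl⟩ := h.exists_of_mem_sylL (hL.core_le hw)
    exact hL.core_sq _ hw (by rw [← map_mul, show s * s = 1 from Subtype.ext (hs2 _ hs), map_one])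

end MultiData

end CfsgLib.CentralInter
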