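import Cfsg.Agent.Lib.Recog.CentralIntersections.Reduce
import Cfsg.Agent.S0486
import Cfsg.Agent.S3305

/-!
Owner: helper16. S3185 and S3308, given the criterion of S1175.

* `s3185_of_main`, `s3308_of_main`.
-/

set_option autoImplicit false
set_option linter.style.haveILetI false
set_option linter.unusedSectionVars false

namespace CfsgLib.CentralInter

open Subgroup

universe u v

theorem u34Goal : U34Goal.{u} := fun G _ _ _ F _ _ hF S P hS => Cfsg.Agent.S0486.result hF S P hS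

/-- The statement of S3185. -/
theorem s3185_of_main (hmain : CfsgLib.AschCrit.Main.{u}) {G : Type u} [Group G] [Finite G] [IsSimpleGroup G]
    (hG : ¬ IsMulCommutative G)
    (h : ∀ S T : Sylow 2 G, S ≠ T →
      ((S : Subgroup G) ⊓ (T : Subgroup G) = ⊥ ∨
        ∃ z ∈ (S : Subgroup G) ⊓ (T : Subgroup G), orderOf z = 2 ∧
          ∃ U : Sylow 2 G, z ∈ (Subgroup.center ↥(U : Subgroup G)).map (U : Subgroup G).subtype) →
      Cfsg.PRankLE 2 1 ↥((S : Subgroup G) ⊓ (T : Subgroup G))) :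
    (∃ (n : ℕ) (F : Type) (_ : Field F) (_ : Fintype F), 2 ≤ n ∧ Fintype.card F = 2 ^ n ∧
        Nonempty (G ≃* Matrix.ProjectiveSpecialLinearGroup (Fin 2) F)) ∨
    (∃ (m : ℕ) (F : Type) (_ : Field F) (_ : Fintype F), 1 ≤ m ∧ Fintype.card F = 2 ^ (2 * m + 1) ∧
        Nonempty (G ≃* ↥(Cfsg.Lie.Sz F (2 ^ (m + 1))))) ∨
    (∃ (n : ℕ) (F : Type) (_ : Field F) (_ : Fintype F), 2 ≤ n ∧ Fintype.card F = 4 ^ n ∧
        Nonempty (G ≃* Cfsg.PSU 3 F (2 ^ n))) ∨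
    (∃ (F : Type) (_ : Field F) (_ : Fintype F), (Fintype.card F % 8 = 3 ∨ Fintype.card F % 8 = 5) ∧
        5 < Fintype.card F ∧ Nonempty (G ≃* Matrix.ProjectiveSpecialLinearGroup (Fin 2) F)) ∨
    Cfsg.IsJ1 G := by
  rcases (⟨inferInstance, hG, h⟩ : Herz G).classify hmain u34Goal with (h1 | h1 | h1 | h1) | h1
  exacts [Or.inl h1, Or.inr (Or.inl h1), Or.inr (Or.inr (Or.inl h1)), Or.inr (Or.inr (Or.inr (Or.inl h1))),
    Or.inr (Or.inr (Or.inr (Or.inr h1)))]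

theorem Names.of_equiv {X : Type u} [Group X] {Y : Type v} [Group Y] (e : X ≃* Y) (h : Names Y) : Names X := by
  rcases h with ⟨n, F, i, j, hn, hF, ⟨f⟩⟩ | ⟨n, F, i, j, hn, hF, ⟨f⟩⟩ | ⟨n, F, i, j, hn, hF, ⟨f⟩⟩ |
    ⟨F, i, j, hn, hF, ⟨f⟩⟩
  exacts [Or.inl ⟨n, F, i, j, hn, hF, ⟨e.trans f⟩⟩, Or.inr (Or.inl ⟨n, F, i, j, hn, hF, ⟨e.trans f⟩⟩),
    Or.inr (Or.inr (Or.inl ⟨n, F, i, j, hn, hF, ⟨e.trans f⟩⟩)), Or.inr (Or.inr (Or.inr ⟨F, i, j, hn, hF, ⟨e.trans f⟩⟩))]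

/-- The statement of S3308. -/
theorem s3308_of_main (hmain : CfsgLib.AschCrit.Main.{u}) {G : Type u} [Group G] [Finite G]
    (hns : ¬ Group.IsSolvable G)
    (hC : ∀ S T : Sylow 2 G, S ≠ T → IsCyclic ↥((S : Subgroup G) ⊓ (T : Subgroup G)))
    (R : Subgroup G) [R.Normal] (hR : Group.IsSolvable ↥R)
    (hRmax : ∀ N : Subgroup G, N.Normal → Group.IsSolvable ↥N → N ≤ R) :
    ∃ (G₁ : Subgroup G) (_ : G₁.Normal) (_ : (R.subgroupOf G₁).Normal), Odd G₁.index ∧ R ≤ G₁ ∧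
      IsSimpleGroup (↥G₁ ⧸ R.subgroupOf G₁) ∧ ¬ IsMulCommutative (↥G₁ ⧸ R.subgroupOf G₁) ∧
      ((∃ (n : ℕ) (F : Type) (_ : Field F) (_ : Fintype F), 2 ≤ n ∧ Fintype.card F = 2 ^ n ∧
          Nonempty (↥G₁ ⧸ R.subgroupOf G₁ ≃* Matrix.ProjectiveSpecialLinearGroup (Fin 2) F)) ∨
      (∃ (m : ℕ) (F : Type) (_ : Field F) (_ : Fintype F), 1 ≤ m ∧ Fintype.card F = 2 ^ (2 * m + 1) ∧
          Nonempty (↥G₁ ⧸ R.subgroupOf G₁ ≃* ↥(Cfsg.Lie.Sz F (2 ^ (m + 1))))) ∨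
      (∃ (n : ℕ) (F : Type) (_ : Field F) (_ : Fintype F), 2 ≤ n ∧ Fintype.card F = 4 ^ n ∧
          Nonempty (↥G₁ ⧸ R.subgroupOf G₁ ≃* Cfsg.PSU 3 F (2 ^ n))) ∨
      (∃ (F : Type) (_ : Field F) (_ : Fintype F), (Fintype.card F % 8 = 3 ∨ Fintype.card F % 8 = 5) ∧
          5 < Fintype.card F ∧
          Nonempty (↥G₁ ⧸ R.subgroupOf G₁ ≃* Matrix.ProjectiveSpecialLinearGroup (Fin 2) F)) ∨
      Cfsg.IsJ1 (↥G₁ ⧸ R.subgroupOf G₁)) := by
  set π := QuotientGroup.mk' R with hπ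
  have hsurj : Function.Surjective π := QuotientGroup.mk'_surjective R
  have hCQ : Cyc (G ⧸ R) := Cfsg.Agent.S3305.result hC R
  have hlift : ∀ N : Subgroup (G ⧸ R), Group.IsSolvable N → Group.IsSolvable (N.comap π) := by
    intro N hN
    haveI := hR
    have hRN : R ≤ N.comap π := fun x hx => by
      rw [mem_comap, show π x = 1 from (QuotientGroup.eq_one_iff x).2 hx]
      exact one_mem _
    haveI : Group.IsSolvable ↥(R.subgroupOf (N.comap π)) :=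
      Group.isSolvable_of_surjective (f := (subgroupOfEquivOfLe hRN).symm.toMonoidHom)
        (subgroupOfEquivOfLe hRN).symm.surjective
    refine Group.isSolvable_of_ker_le_range (R.subgroupOf (N.comap π)).subtype (π.subgroupComap N) ?_
    intro x hx
    rw [range_subtype]
    exact mem_subgroupOf.2 ((QuotientGroup.eq_one_iff _).1 (congrArg Subtype.val (MonoidHom.mem_ker.1 hx)))
  have hQns : ¬ Group.IsSolvable (G ⧸ R) := fun h => by
    haveI := hR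
    exact hns (Group.isSolvable_of_ker_le_range R.subtype π (le_of_eq (by rw [hπ, QuotientGroup.ker_mk', range_subtype])))
  have hRQ : ∀ N : Subgroup (G ⧸ R), N.Normal → Group.IsSolvable N → N = ⊥ := by
    intro N hN hNs
    rw [eq_bot_iff]
    intro y hy
    obtain ⟨x, rfl⟩ := hsurj y
    exact mem_bot.2 ((QuotientGroup.eq_one_iff x).2 (hRmax _ (hN.comap π) (hlift N hNs) hy))
  obtain ⟨M, hMn, hodd, hMs, hMc, hM⟩ := hCQ.main hQns hRQ hmain u34Goal
  haveI := hMn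
  have hRle : R ≤ M.comap π := fun x hx => by
    rw [mem_comap, show π x = 1 from (QuotientGroup.eq_one_iff x).2 hx]
    exact one_mem _
  haveI hn : (R.subgroupOf (M.comap π)).Normal := inferInstance
  have hψ : Function.Surjective (π.subgroupComap M) := MonoidHom.subgroupComap_surjective_of_surjective _ _ hsurj
  have hker : (π.subgroupComap M).ker = R.subgroupOf (M.comap π) := by
    ext x
    rw [MonoidHom.mem_ker, mem_subgroupOf, ← QuotientGroup.eq_one_iff (x : G), Subtype.ext_iff]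
    rfl
  let e : (↥(M.comap π) ⧸ R.subgroupOf (M.comap π)) ≃* ↥M :=
    (QuotientGroup.quotientMulEquivOfEq hker.symm).trans (QuotientGroup.quotientKerEquivOfSurjective _ hψ)
  haveI := hMs
  refine ⟨M.comap π, hMn.comap π, hn, by rwa [index_comap_of_surjective _ hsurj], hRle, e.isSimpleGroup,
    fun h => hMc ⟨⟨fun a b => e.symm.injective (by rw [map_mul, map_mul, h.is_comm.comm])⟩⟩, ?_⟩
  rcases hM with hM | hM
  · rcases hM.of_equiv e with h1 | h1 | h1 | h1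
    exacts [Or.inl h1, Or.inr (Or.inl h1), Or.inr (Or.inr (Or.inl h1)), Or.inr (Or.inr (Or.inr (Or.inl h1)))]
  · exact Or.inr (Or.inr (Or.inr (Or.inr ⟨e.isSimpleGroup, (Nat.card_congr e.toEquiv).trans hM.2⟩)))

end CfsgLib.CentralInter
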