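import Cfsg.Agent.Lib.Recog.CentralIntersections.Line
import Cfsg.Agent.Lib.Invol.RankOneInter.Central.GridFactor
import Cfsg.Agent.Lib.Recog.SimpleSixty
import Mathlib.GroupTheory.Transfer

/-!
Owner: helper16. S3185: a group without odd core, with `O₂` of order two, trivial intersections modulo it and elementary
Sylow 2-subgroups of order eight is `Z₂ × A₅`.
-/

set_option autoImplicit false
set_option linter.style.haveILetI false
set_option linter.unusedSectionVars false

namespace CfsgLib.CentralInter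

open Subgroup
open CfsgLib.Signalizer (involution_sq involution_ne_one orderOf_eq_two_of)
open CfsgLib.CentralMeet (mem_smul_sylow)

universe u

variable {L : Type u} [Group L] [Finite L]

theorem alt_five_cover (hO : Cfsg.oddCore L = ⊥) {z : L} (hz : orderOf z = 2) (hzc : ∀ g : L, g * z = z * g)
    (hW : ∀ w ∈ Cfsg.pCore 2 L, w = 1 ∨ w = z) (hzW : z ∈ Cfsg.pCore 2 L)
    (hTI : CfsgLib.RankOneInter.TIMod L) (S : Sylow 2 L) (hS : Nat.card (S : Subgroup L) = 8)
    (hS2 : ∀ x ∈ (S : Subgroup L), x * x = 1) (htwo : ∃ T : Sylow 2 L, T ≠ S) :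
    Nonempty (L ≃* Multiplicative (ZMod 2) × alternatingGroup (Fin 5)) ∧
      ∀ x : L, (∀ s ∈ (S : Subgroup L), s * x = x * s) → Odd (orderOf x) → x = 1 := by
  classical
  haveI := Fact.mk Nat.prime_two
  set W := Cfsg.pCore 2 L with hWdef
  haveI hWn : W.Normal := CfsgLib.HallGen.pCore_normal' 2
  have hWle : ∀ T : Sylow 2 L, W ≤ (T : Subgroup L) := fun T => CfsgLib.HallGen.pCore_le_sylow T
  have hWz : W = zpowers z := le_antisymm (fun w hw => by
    rcases hW w hw with rfl | rfl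
    · exact one_mem _
    · exact mem_zpowers _) (zpowers_le.2 hzW)
  have hWc : Nat.card W = 2 := by rw [hWz, Nat.card_zpowers, hz]
  set π := QuotientGroup.mk' W with hπ
  have hsurj : Function.Surjective π := QuotientGroup.mk'_surjective W
  have hπ1 : ∀ {x : L}, π x = 1 ↔ x ∈ W := fun {x} => QuotientGroup.eq_one_iff x
  set piT : Sylow 2 L → Sylow 2 (L ⧸ W) := fun T => T.mapSurjective hsurj with hpiT
  have hmem : ∀ {T : Sylow 2 L} {x : L}, π x ∈ (piT T : Subgroup (L ⧸ W)) ↔ x ∈ (T : Subgroup L) := by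
    intro T x
    rw [hpiT, Sylow.coe_mapSurjective]
    refine ⟨fun ⟨t, ht, he⟩ => ?_, fun h => ⟨x, h, rfl⟩⟩
    have h1 : t⁻¹ * x ∈ W := hπ1.1 (by rw [map_mul, map_inv, he, inv_mul_cancel])
    simpa using mul_mem ht (hWle T h1)
  have hSc : ∀ U : Sylow 2 L, Nat.card (U : Subgroup L) = 8 := fun U =>
    (U.card_eq_multiplicity.trans S.card_eq_multiplicity.symm).trans hS
  have hpiinj : ∀ {T T' : Sylow 2 L}, piT T = piT T' → T = T' := fun {T T'} h => Sylow.ext (by
    ext x
    rw [← hmem, ← hmem, h])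
  have hti : ∀ U V : Sylow 2 (L ⧸ W), U ≠ V → (U : Subgroup (L ⧸ W)) ⊓ (V : Subgroup (L ⧸ W)) = ⊥ := by
    intro U V hUV
    obtain ⟨T, rfl⟩ := Sylow.mapSurjective_surjective hsurj 2 U
    obtain ⟨T', rfl⟩ := Sylow.mapSurjective_surjective hsurj 2 V
    rw [eq_bot_iff]
    rintro y ⟨hy, hy'⟩
    obtain ⟨x, rfl⟩ := hsurj y
    have h : x ∈ (T : Subgroup L) ⊓ (T' : Subgroup L) := ⟨hmem.1 hy, hmem.1 hy'⟩
    rw [hTI T T' fun e' => hUV (e' ▸ rfl)] at h
    exact mem_bot.2 (hπ1.2 h)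
  obtain ⟨T₁, hT₁⟩ := htwo
  have hne : ∃ U V : Sylow 2 (L ⧸ W), U ≠ V := ⟨_, _, fun h => hT₁ (hpiinj (T := T₁) (T' := S) h)⟩
  have hVc : ∀ U : Sylow 2 (L ⧸ W), Nat.card (U : Subgroup (L ⧸ W)) = 4 := fun U => by
    obtain ⟨T, rfl⟩ := Sylow.mapSurjective_surjective hsurj 2 U
    have h := card_comap_mk (piT T : Subgroup (L ⧸ W))
    rw [show ((piT T : Subgroup (L ⧸ W)).comap π) = (T : Subgroup L) from by ext x; exact hmem, hSc, hWc] at h
    show Nat.card (piT T : Subgroup (L ⧸ W)) = 4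
    omega
  -- the transfer
  haveI hScomm : IsMulCommutative ↥(S : Subgroup L) := ⟨⟨fun a b => Subtype.ext (by
    have hi : ∀ y ∈ (S : Subgroup L), y⁻¹ = y := fun y hy => inv_eq_of_mul_eq_one_right (hS2 y hy)
    calc (a : L) * b = (a : L)⁻¹ * (b : L)⁻¹ := by rw [hi _ a.2, hi _ b.2]
      _ = ((b : L) * a)⁻¹ := (mul_inv_rev _ _).symm
      _ = (b : L) * a := hi _ (mul_mem b.2 a.2))⟩⟩
  letI : CommGroup ↥(S : Subgroup L) :=
    { (inferInstance : Group ↥(S : Subgroup L)) with mul_comm := fun a b => mul_comm' a b }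
  set θ : L →* ↥(S : Subgroup L) := MonoidHom.transfer (MonoidHom.id ↥(S : Subgroup L)) with hθ
  have hθz : θ z ≠ 1 := by
    intro h1
    have key : ∀ (k : ℕ) (g₀ : L), g₀⁻¹ * z ^ k * g₀ ∈ (S : Subgroup L) → g₀⁻¹ * z ^ k * g₀ = z ^ k :=
      fun k g₀ _ => by
        have hc : Commute z g₀ := (hzc g₀).symm
        rw [mul_assoc, (hc.pow_left k).eq, inv_mul_cancel_left]
    rw [hθ, MonoidHom.transfer_eq_pow _ z key] at h1
    have h2 : z ^ (S : Subgroup L).index = 1 := congrArg Subtype.val h1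
    rw [← orderOf_dvd_iff_pow_eq_one, hz] at h2
    exact S.not_dvd_index h2
  have hθodd : ∀ {x : L}, Odd (orderOf x) → θ x = 1 := fun {x} hx => by
    refine orderOf_eq_one_iff.1 (Nat.eq_one_of_dvd_coprimes ((Nat.coprime_two_left.2 hx).pow_left 3)
      ?_ (orderOf_map_dvd θ x))
    rw [show 2 ^ 3 = Nat.card ↥(S : Subgroup L) by rw [hS]; norm_num]
    exact orderOf_dvd_natCard _
  -- the odd core of the quotient
  have hOK : Cfsg.oddCore (L ⧸ W) = ⊥ := by
    set Y := (Cfsg.oddCore (L ⧸ W)).comap π ⊓ θ.ker with hY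
    have hYodd : Odd (Nat.card Y) := by
      rw [← Nat.not_even_iff_odd]
      intro hev
      obtain ⟨x, ⟨hx, hxk⟩, hx2⟩ := CfsgLib.Signalizer.exists_involution_of_even hev
      have h1 : orderOf (π x) ∣ 2 := hx2 ▸ orderOf_map_dvd π x
      have h2 : π x = 1 := orderOf_eq_one_iff.1 (Nat.eq_one_of_dvd_coprimes
        (Nat.coprime_two_left.2 (CfsgLib.ZStar.odd_card_oddCore (L ⧸ W))) h1 (Subgroup.orderOf_dvd_natCard _ hx))
      rcases hW x (hπ1.1 h2) with rfl | rfl
      · exact involution_ne_one hx2 rfl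
      · exact hθz hxk
    have hY1 : Y = ⊥ := le_bot_iff.1 (hO ▸ CfsgLib.ZStar.le_oddCore inferInstance hYodd)
    rw [eq_bot_iff]
    intro y hy
    obtain ⟨x, rfl⟩ := hsurj y
    have hxx : x * x ∈ Y := ⟨show π (x * x) ∈ Cfsg.oddCore (L ⧸ W) by rw [map_mul]; exact mul_mem hy hy,
      show θ (x * x) = 1 by rw [map_mul]; exact Subtype.ext (hS2 _ (θ x).2)⟩
    rw [hY1, mem_bot] at hxx
    have h1 : orderOf (π x) ∣ 2 := orderOf_dvd_of_pow_eq_one (by rw [pow_two, ← map_mul, hxx, map_one])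
    exact mem_bot.2 (orderOf_eq_one_iff.1 (Nat.eq_one_of_dvd_coprimes
      (Nat.coprime_two_left.2 (CfsgLib.ZStar.odd_card_oddCore (L ⧸ W))) h1 (Subgroup.orderOf_dvd_natCard _ hy)))
  -- a four group
  have hfour : ∃ U : Sylow 2 (L ⧸ W), CfsgLib.RankOneInter.Four (U : Subgroup (L ⧸ W)) := by
    refine ⟨piT S, ?_⟩
    have hsq : ∀ y ∈ (piT S : Subgroup (L ⧸ W)), y * y = 1 := fun y hy => by
      obtain ⟨x, rfl⟩ := hsurj y
      rw [← map_mul, hS2 x (hmem.1 hy), map_one]
    obtain ⟨x, hx, hx1⟩ := (bot_or_exists_ne_one (piT S : Subgroup (L ⧸ W))).resolve_left fun h => by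
      have := hVc (piT S); rw [h, Subgroup.card_bot] at this; omega
    obtain ⟨y, hy, hy1, hyx⟩ : ∃ y ∈ (piT S : Subgroup (L ⧸ W)), y ≠ 1 ∧ y ≠ x := by
      by_contra hno
      push Not at hno
      have : Nat.card (piT S : Subgroup (L ⧸ W)) ≤ Nat.card Bool := Nat.card_le_card_of_injective
        (fun a : (piT S : Subgroup (L ⧸ W)) => decide ((a : L ⧸ W) = 1)) fun a b hab => Subtype.ext (by
          simp only [decide_eq_decide] at hab
          by_cases ha : (a : L ⧸ W) = 1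
          · rw [ha, hab.1 ha]
          · rw [hno a a.2 ha, hno b b.2 (fun hb => ha (hab.2 hb))])
      rw [hVc, Nat.card_eq_fintype_card, Fintype.card_bool] at this
      omega
    refine ⟨x, hx, y, hy, orderOf_eq_two_of hx1 (hsq x hx), orderOf_eq_two_of hy1 (hsq y hy), Ne.symm hyx, ?_⟩
    have hi : ∀ w ∈ (piT S : Subgroup (L ⧸ W)), w⁻¹ = w := fun w hw => inv_eq_of_mul_eq_one_right (hsq w hw)
    calc x * y = x⁻¹ * y⁻¹ := by rw [hi x hx, hi y hy]
      _ = (y * x)⁻¹ := (mul_inv_rev _ _).symm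
      _ = y * x := hi _ (mul_mem hy hx)
  have hc := CfsgLib.RankOneInter.singleCore_of_ti hti hfour hne
  have hK : CfsgLib.CentralMeet.TIGroup (L ⧸ W) := by
    refine ⟨⟨fun A B hAB => (hti A B hAB).le.trans bot_le, fun A => ?_⟩, hOK, ?_, hti⟩
    · obtain ⟨u, hu, hu1⟩ := (bot_or_exists_ne_one (A : Subgroup (L ⧸ W))).resolve_left fun h => by
        have := hVc A; rw [h, Subgroup.card_bot] at this; omega
      refine ⟨u, hu, fun h => hu1 ?_⟩
      rwa [show CfsgLib.CentralMeet.meetGen A = ⊥ from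
        le_bot_iff.1 (iSup₂_le fun B hB => (hti A B (Ne.symm hB)).le), mem_bot] at h
    · rw [eq_bot_iff]
      intro x hx
      obtain ⟨U, V, hUV⟩ := hne
      rw [← hti U V hUV]
      exact ⟨CfsgLib.HallGen.pCore_le_sylow U hx, CfsgLib.HallGen.pCore_le_sylow V hx⟩
  obtain ⟨J, hJn, -, hfam, hperf, hSJ, -⟩ := hK.exists_family
  haveI := hJn
  haveI hJs := CfsgLib.RankOneInter.Final.isSimple_of_family hfam
  have hJ60 : Nat.card J = 60 := CfsgLib.RankOneInter.card_sixty hfam fun U => by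
    rw [(U.card_eq_multiplicity.trans ((piT S).subtype (hSJ _)).card_eq_multiplicity.symm), Sylow.coe_subtype,
      Nat.card_congr (subgroupOfEquivOfLe (hSJ _)).toEquiv, hVc]
  -- five Sylow subgroups
  obtain ⟨q, -, hline⟩ := CfsgLib.RankOneInter.ti_line hti hfour hne
  obtain ⟨-, -, -, -, -, -, -, htr, -⟩ := hline (piT S) (piT T₁) (fun h => hT₁ (hpiinj h))
  have hsyl : Nat.card (Sylow 2 (L ⧸ W)) ≤ 5 := by
    have h1 : Nat.card (Sylow 2 (L ⧸ W)) ≤ Nat.card (Option ↥(piT S : Subgroup (L ⧸ W))) := by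
      refine Nat.card_le_card_of_surjective (fun o => o.elim (piT S) fun x => (x : L ⧸ W) • piT T₁) fun U => ?_
      by_cases hU : U = piT S
      · exact ⟨none, hU.symm⟩
      · obtain ⟨x, hx, he⟩ := htr U hU
        exact ⟨some ⟨x, hx⟩, he⟩
    rwa [Finite.card_option, hVc] at h1
  set N₀ := (MulAction.toPermHom (L ⧸ W) (Sylow 2 (L ⧸ W))).ker with hN₀
  have hfix : ∀ {x : L ⧸ W}, x ∈ N₀ ↔ ∀ U : Sylow 2 (L ⧸ W), x • U = U := fun {x} =>
    ⟨fun h U => Equiv.ext_iff.1 (MonoidHom.mem_ker.1 h) U, fun h => MonoidHom.mem_ker.2 (Equiv.ext h)⟩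
  have hN₀1 : N₀ = ⊥ := by
    have hJN : (N₀.subgroupOf J) = ⊥ := (inferInstance : (N₀.subgroupOf J).Normal).eq_bot_or_eq_top.resolve_right
      fun htop => by
        obtain ⟨U, V, hUV⟩ := hne
        obtain ⟨g, hg⟩ := MulAction.exists_smul_eq J (U.subtype (hSJ U)) (V.subtype (hSJ V))
        refine hUV (Sylow.subtype_injective (hP := hSJ U) (hQ := hSJ V) ?_)
        have hgU : (g : L ⧸ W) • U = U := hfix.1 (subgroupOf_eq_top.1 htop g.2) U
        rw [← hg]
        refine Sylow.ext (SetLike.ext fun x => ?_)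
        rw [mem_smul_sylow, Sylow.coe_subtype, mem_subgroupOf, mem_subgroupOf]
        conv_lhs => rw [← hgU, mem_smul_sylow]
        simp
    refine le_bot_iff.1 (hOK ▸ CfsgLib.ZStar.le_oddCore inferInstance ?_)
    rw [← Nat.not_even_iff_odd]
    intro hev
    obtain ⟨x, hx, hx2⟩ := CfsgLib.Signalizer.exists_involution_of_even hev
    obtain ⟨U, hU⟩ := (IsPGroup.of_card (p := 2) (n := 1) (G := zpowers x)
      (by rw [Nat.card_zpowers, hx2, pow_one])).exists_le_sylow
    have hxJ : (⟨x, hSJ U (hU (mem_zpowers x))⟩ : J) ∈ N₀.subgroupOf J := mem_subgroupOf.2 hx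
    rw [hJN, mem_bot] at hxJ
    exact involution_ne_one hx2 (congrArg Subtype.val hxJ)
  have hinj : Function.Injective (MulAction.toPermHom (L ⧸ W) (Sylow 2 (L ⧸ W))) :=
    (MonoidHom.ker_eq_bot_iff _).1 hN₀1
  have hKc : Nat.card (L ⧸ W) = 60 := by
    have hd : Nat.card (L ⧸ W) ∣ 120 := by
      refine (Subgroup.card_dvd_of_injective _ hinj).trans ?_
      rw [Nat.card_perm, show (120 : ℕ) = (5).factorial by norm_num [Nat.factorial]]
      exact Nat.factorial_dvd_factorial hsyl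
    have h60 : 60 ∣ Nat.card (L ⧸ W) := hJ60 ▸ J.card_subgroup_dvd_card
    obtain ⟨c, hc⟩ := h60
    have hc2 : c ≤ 2 := by
      have := Nat.le_of_dvd (by norm_num) hd
      omega
    have hpos : 0 < Nat.card (L ⧸ W) := Nat.card_pos
    have h4 := (piT S : Subgroup (L ⧸ W)).card_mul_index
    rw [hVc, hc] at h4
    interval_cases c
    · omega
    · omega
    · exact absurd ⟨15, by omega⟩ (piT S).not_dvd_index
  have hJtop : J = ⊤ := eq_top_of_card_eq J (hJ60.trans hKc.symm)
  obtain ⟨eJ⟩ := CfsgLib.Recog.Sixty.iso_alt_five hJ60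
  -- the derived subgroup
  set D := commutator L with hD
  have hDker : D ≤ θ.ker := Abelianization.commutator_subset_ker θ
  have hDinj : Function.Injective ((π.domRestrict D) : D →* L ⧸ W) := by
    rw [← MonoidHom.ker_eq_bot_iff, eq_bot_iff]
    rintro ⟨d, hd⟩ hdk
    rcases hW d (hπ1.1 hdk) with rfl | rfl
    · exact mem_bot.2 rfl
    · exact absurd (hDker hd) hθz
  have hDsurj : Function.Surjective ((π.domRestrict D) : D →* L ⧸ W) := by
    intro y
    have h1 : D.map π = ⊤ := by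
      rw [hD, ← derivedSeries_one L, map_derivedSeries_eq hsurj, derivedSeries_one]
      rw [eq_top_iff, ← hJtop]
      intro x hx
      have h2 : (⟨x, hx⟩ : J) ∈ commutator J := hperf ▸ mem_top _
      have h3 := mem_map_of_mem J.subtype h2
      rw [commutator_def, Subgroup.map_commutator] at h3
      rw [commutator_def]
      exact (commutator_mono le_top le_top) h3
    obtain ⟨d, hd, e⟩ := (h1 ▸ mem_top y : y ∈ D.map π)
    exact ⟨⟨d, hd⟩, e⟩
  let eD : D ≃* L ⧸ W := MulEquiv.ofBijective _ ⟨hDinj, hDsurj⟩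
  let μ : ↥W × ↥D →* L := MonoidHom.noncommCoprod W.subtype D.subtype fun w d => by
    show (w : L) * d = d * w
    rcases hW w w.2 with h | h
    · rw [h, one_mul, mul_one]
    · rw [h, hzc]
  have hμ : Function.Bijective μ := by
    refine ⟨?_, ?_⟩
    · rw [← MonoidHom.ker_eq_bot_iff, eq_bot_iff]
      rintro ⟨w, d⟩ hk
      have hwd : (w : L) * d = 1 := hk
      have h1 : π (d : L) = 1 := by
        have h2 := congrArg π hwd
        rwa [map_mul, hπ1.2 w.2, one_mul, map_one] at h2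
      have hd : d = 1 := hDinj (h1.trans (map_one _).symm)
      subst hd
      rw [Subgroup.coe_one, mul_one] at hwd
      exact mem_bot.2 (Prod.ext (Subtype.ext hwd) rfl)
    · intro x
      obtain ⟨d, hd⟩ := hDsurj (π x)
      refine ⟨(⟨x * (d : L)⁻¹, hπ1.1 (by rw [map_mul, map_inv, ← hd]; exact mul_inv_cancel _)⟩, d), ?_⟩
      exact inv_mul_cancel_right x (d : L)
  haveI : IsCyclic ↥W := isCyclic_of_prime_card hWc
  have eW : ↥W ≃* Multiplicative (ZMod 2) := (zmodCyclicMulEquiv ‹IsCyclic ↥W›).symm.trans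
    (AddEquiv.toMultiplicative (ZMod.ringEquivCongr hWc).toAddEquiv)
  refine ⟨⟨(MulEquiv.ofBijective μ hμ).symm.trans (eW.prodCongr ((eD.trans (MulEquiv.subgroupCongr hJtop |>.trans
    Subgroup.topEquiv).symm).trans eJ))⟩, fun x hx hodd => ?_⟩
  -- odd elements centralising `S`
  set y := π x with hy
  have hyfix : ∀ U : Sylow 2 (L ⧸ W), y • U = U := by
    have hyS : ∀ v ∈ (piT S : Subgroup (L ⧸ W)), v * y = y * v := fun v hv => by
      obtain ⟨s, rfl⟩ := hsurj v
      rw [hy, ← map_mul, ← map_mul, hx s (hmem.1 hv)]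
    have hyy : y • piT S = piT S := by
      rw [Sylow.smul_eq_iff_mem_normalizer]
      refine mem_normalizer_iff.2 ?_
      intro v
      constructor
      · intro hv
        rwa [← hyS v hv, mul_inv_cancel_right]
      · intro hv
        have h1 := hyS _ hv
        rw [inv_mul_cancel_right] at h1
        rw [mul_left_cancel h1]
        exact hv
    by_cases hT : y • piT T₁ = piT T₁
    · intro U
      by_cases hU : U = piT S
      · rw [hU, hyy]
      · obtain ⟨v, hv, rfl⟩ := htr U hU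
        rw [← mul_smul, ← hyS v hv, mul_smul, hT]
    · exfalso
      obtain ⟨v, hv, he⟩ := htr (y • piT T₁) (fun h => hT₁ (hpiinj (smul_left_cancel y (h.trans hyy.symm))))
      have hv2 : v * v = 1 := by
        obtain ⟨s, rfl⟩ := hsurj v
        rw [← map_mul, hS2 s (hmem.1 hv), map_one]
      have hy2 : (y * y) • piT T₁ = piT T₁ := by
        rw [mul_smul, ← he, ← mul_smul, ← hyS v hv, mul_smul, ← he, ← mul_smul, hv2, one_smul]
      obtain ⟨k, hk⟩ := hodd.of_dvd_nat (orderOf_map_dvd π x)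
      refine hT ?_
      have h1 : y = (y * y) ^ (k + 1) := by
        have h2 : y ^ (2 * k + 1) = 1 := by rw [← hk]; exact pow_orderOf_eq_one y
        calc y = y ^ (2 * k + 1) * y := by rw [h2, one_mul]
          _ = (y * y) ^ (k + 1) := by rw [← pow_two, ← pow_mul, ← pow_succ]; congr 1
      rw [h1]
      have hfix' : ∀ j : ℕ, (y * y) ^ j • piT T₁ = piT T₁ := fun j => by
        induction j with
        | zero => rw [pow_zero, one_smul]
        | succ j ih => rw [pow_succ, mul_smul, hy2, ih]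
      exact hfix' _
  have hy1 : y = 1 := by
    have : y ∈ N₀ := hfix.2 hyfix
    rwa [hN₀1, mem_bot] at this
  rcases hW x (hπ1.1 hy1) with h | h
  · exact h
  · exfalso
    rw [h, hz] at hodd
    exact absurd hodd (by decide)

end CfsgLib.CentralInter
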