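import Cfsg.Agent.Lib.Recog.CentralIntersections.Elementary
import Cfsg.Agent.Lib.Recog.CentralIntersections.SmallCover
import Cfsg.Agent.S0448

/-!
Owner: helper16. S3185: a 2-central involution in two Sylow subgroups in rank at least three forces Janko's first group:
the odd cores of the centralisers of the involutions of `S` coincide, so they are trivial by Bender's theorem.
-/

set_option autoImplicit false
set_option linter.style.haveILetI false
set_option linter.unusedSectionVars false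

namespace CfsgLib.CentralInter

open Subgroup
open CfsgLib.Signalizer (involution_sq involution_inv involution_ne_one orderOf_eq_two_of orderOf_conj)
open CfsgLib.CentralMeet (mem_smul_sylow conj_mem_smul)

universe u

variable {G : Type u} [Group G] [Finite G]

namespace MultiData

variable {S : Sylow 2 G} {z : G} (h : MultiData S z)
include h

theorem transfer (hG : Herz G) {e : G} (he : Cen S e) : MultiData S e := by
  obtain ⟨n, hn, rfl⟩ := h.fused hG he
  obtain ⟨T, hTS, hzT⟩ := h.multi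
  have hnS : n • S = S := Sylow.smul_eq_iff_mem_normalizer.2 hn
  exact hG.exists_multiData he (T := n • T) (fun e' => hTS (smul_left_cancel n (e'.trans hnS.symm)))
    (conj_mem_smul hzT.1) h.rank

theorem cover (hG : Herz G) : Nonempty (Lz z ≃* Multiplicative (ZMod 2) × alternatingGroup (Fin 5)) ∧
    ∀ y : Lz z, (∀ s ∈ (h.sylL : Subgroup (Lz z)), s * y = y * s) → Odd (orderOf y) → y = 1 := by
  haveI := Fact.mk Nat.prime_two
  obtain ⟨hS2, hS8, -, hW, M, hL, -⟩ := h.elementary hG
  refine alt_five_cover (CfsgLib.Core.pPrimeCore_quotient_pPrimeCore 2 _) h.pr_zC_order pr_zC_central hW hL.z_mem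
    hL.tiMod h.sylL ?_ ?_ h.exists_two_sylL
  · rw [← hS8]
    refine (Nat.card_eq_of_bijective
      (fun s : (S : Subgroup G) => (⟨pr z ⟨s, h.mem_C s.2⟩, h.mem_sylL (s := ⟨s, h.mem_C s.2⟩) s.2⟩ :
        (h.sylL : Subgroup (Lz z)))) ⟨fun a b hab => ?_, fun y => ?_⟩).symm
    · have e := h.inj (s := ⟨a, h.mem_C a.2⟩) (t := ⟨b, h.mem_C b.2⟩) a.2 b.2 (congrArg Subtype.val hab)
      exact Subtype.ext (Subtype.mk.inj e)
    · obtain ⟨s, hs, he⟩ := h.exists_of_mem_sylL y.2
      exact ⟨⟨s, hs⟩, Subtype.ext he⟩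
  · intro y hy
    obtain ⟨s, hs, rfl⟩ := h.exists_of_mem_sylL hy
    rw [← map_mul, show s * s = 1 from Subtype.ext (hS2 _ hs), map_one]

/-- The odd core of `C(z)` consists of the elements of odd order centralising `S`. -/
theorem mem_core (hG : Herz G) {x : G} :
    x ∈ (Cfsg.oddCore ↥(Cz z)).map (Cz z).subtype ↔
      (∀ s ∈ (S : Subgroup G), s * x = x * s) ∧ Odd (orderOf x) := by
  constructor
  · rintro ⟨o, ho, rfl⟩
    refine ⟨fun s hs => congrArg Subtype.val (h.comm ⟨s, h.mem_C hs⟩ hs o ho), ?_⟩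
    show Odd (orderOf (o : G))
    rw [Subgroup.orderOf_coe]
    exact (CfsgLib.ZStar.odd_card_oddCore _).of_dvd_nat (Subgroup.orderOf_dvd_natCard _ ho)
  · rintro ⟨hc, hodd⟩
    have hxC : x ∈ Cz z := mem_centralizer_singleton_iff.2 (hc z h.cen.1).symm
    refine ⟨⟨x, hxC⟩, ?_, rfl⟩
    have h1 := (h.cover hG).2 (pr z ⟨x, hxC⟩) (fun y hy => by
      obtain ⟨s, hs, rfl⟩ := h.exists_of_mem_sylL hy
      rw [← map_mul, ← map_mul]
      exact congrArg _ (Subtype.ext (hc _ hs))) (hodd.of_dvd_nat (by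
        have h2 := orderOf_map_dvd (pr z) (⟨x, hxC⟩ : ↥(Cz z))
        rwa [← Subgroup.orderOf_coe] at h2))
    exact (QuotientGroup.eq_one_iff _).1 h1

theorem core_eq_bot (hG : Herz G) : Cfsg.oddCore ↥(Cz z) = ⊥ := by
  haveI := Fact.mk Nat.prime_two
  obtain ⟨-, -, hall, -, -⟩ := h.elementary hG
  set D := (Cfsg.oddCore ↥(Cz z)).map (Cz z).subtype with hD
  by_contra hne
  have hDne : D ≠ ⊥ := fun e => hne ((map_eq_bot_iff_of_injective _ (Cz z).subtype_injective).1 e)
  set M := normalizer (D : Set G) with hM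
  have hcent : ∀ {e : G}, Cen S e → centralizer ({e} : Set G) ≤ M := by
    intro e he c hc
    have he' := h.transfer hG he
    have hDe : D = (Cfsg.oddCore ↥(Cz e)).map (Cz e).subtype := by
      ext x
      rw [hD, h.mem_core hG, he'.mem_core hG]
    rw [hM, hDe]
    exact le_normalizer_map _ ⟨⟨c, hc⟩, by rw [normalizer_eq_top (H := Cfsg.oddCore ↥(Cz e))]; exact mem_top _, rfl⟩
  have hNS : normalizer ((S : Subgroup G) : Set G) ≤ M := by
    intro n hn
    rw [hM, mem_normalizer_iff]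
    have key : ∀ {m : G}, m ∈ normalizer ((S : Subgroup G) : Set G) → ∀ x ∈ D, m * x * m⁻¹ ∈ D := by
      intro m hm x hx
      rw [hD, h.mem_core hG] at hx ⊢
      refine ⟨fun s hs => ?_, (orderOf_conj m x).symm ▸ hx.2⟩
      have hs' : m⁻¹ * s * m ∈ (S : Subgroup G) := by
        have h1 := (mem_normalizer_iff.1 (inv_mem hm) s).1 hs
        rwa [inv_inv] at h1
      have h1 := congrArg (fun w => m * w * m⁻¹) (hx.1 _ hs')
      simpa [mul_assoc] using h1
    intro x
    refine ⟨key hn x, fun hx => ?_⟩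
    have h1 := key (inv_mem hn) _ hx
    simpa [mul_assoc] using h1
  have hMtop : M ≠ ⊤ := fun e => by
    haveI : D.Normal := normalizer_eq_top_iff.1 e
    refine hG.not_solvable ?_
    have hDtop : D = ⊤ := by
      by_contra hDt
      exact hDne (hG.normal_eq_bot inferInstance hDt)
    exfalso
    have h1 : Odd (Nat.card D) := by
      rw [hD, card_map_of_injective (Cz z).subtype_injective]
      exact CfsgLib.ZStar.odd_card_oddCore _
    rw [hDtop, card_top] at h1
    exact Nat.not_even_iff_odd.2 h1 hG.even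
  have hSM : (S : Subgroup G) ≤ M := le_normalizer.trans hNS
  -- every involution of `M` is conjugate into `S`
  have hsyl : ∀ w ∈ M, orderOf w = 2 → ∃ m ∈ M, m * w * m⁻¹ ∈ (S : Subgroup G) := by
    intro w hw hw2
    obtain ⟨P, hP⟩ := (IsPGroup.of_card (p := 2) (n := 1) (G := zpowers (⟨w, hw⟩ : M))
      (by rw [Nat.card_zpowers, Subgroup.orderOf_mk, hw2, pow_one])).exists_le_sylow
    obtain ⟨m, hm⟩ := MulAction.exists_smul_eq M P (S.subtype hSM)
    refine ⟨m, m.2, ?_⟩
    have h1 : m * ⟨w, hw⟩ * m⁻¹ ∈ ((m • P : Sylow 2 M) : Subgroup M) := conj_mem_smul (hP (mem_zpowers _))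
    rw [hm] at h1
    exact mem_subgroupOf.1 h1
  have hSE : Cfsg.IsStronglyEmbedded M := by
    refine ⟨hMtop, even_iff_two_dvd.2 (h.cen.2.1.symm.dvd.trans (Subgroup.orderOf_dvd_natCard _ (hSM h.cen.1))),
      fun g hg => ?_⟩
    rw [← Nat.not_even_iff_odd]
    intro hev
    obtain ⟨w, ⟨hw, v, hv, rfl⟩, hw2⟩ := CfsgLib.Signalizer.exists_involution_of_even hev
    have hv2 : orderOf v = 2 := by
      have h0 : orderOf (g * v * g⁻¹) = 2 := hw2
      rwa [orderOf_conj] at h0
    obtain ⟨m, hm, hmv⟩ := hsyl v hv hv2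
    obtain ⟨m', hm', hmw⟩ := hsyl _ hw hw2
    set a := m * v * m⁻¹ with ha
    set k := m' * g * m⁻¹ with hk
    have hka : k * a * k⁻¹ = m' * (g * v * g⁻¹) * m'⁻¹ := by rw [ha, hk]; group
    have haC : Cen S a := hall a hmv fun e => by
      rw [ha, conj_eq_one_iff] at e
      exact involution_ne_one hv2 e
    have hbC : Cen S (k * a * k⁻¹) := by
      refine hall _ (hka.symm ▸ hmw) fun e => ?_
      rw [conj_eq_one_iff] at e
      exact involution_ne_one haC.2.1 e
    obtain ⟨n, hn, hn'⟩ := Herz.fusion haC hbC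
    have h1 : n⁻¹ * k ∈ centralizer ({a} : Set G) := by
      rw [mem_centralizer_singleton_iff]
      have h2 := congrArg (fun w => n⁻¹ * w * k) hn'
      simpa [mul_assoc] using h2
    have h3 : k ∈ M := by
      have := mul_mem (hNS hn) (hcent haC h1)
      rwa [mul_inv_cancel_left] at this
    refine hg ?_
    rw [show g = m'⁻¹ * k * m by rw [hk]; group]
    exact mul_mem (mul_mem (inv_mem hm') h3) hm
  -- Bender
  have hfour : ∃ s ∈ M, ∃ t ∈ M, orderOf s = 2 ∧ orderOf t = 2 ∧ s ≠ t ∧ s * t = t * s := by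
    obtain ⟨a, b, ha, hb, hab⟩ := hG.exists_two_cen S
    exact ⟨b, hSM hb.1, a, hSM ha.1, hb.2.1, ha.2.1, hab, ha.2.2 b hb.1⟩
  have hcore : M.normalCore = ⊥ := le_bot_iff.1 (hG.oddCore_eq_bot ▸ CfsgLib.Bender.normalCore_le_oddCore hSE)
  obtain ⟨hBS, hsol⟩ := CfsgLib.Bender.benderGen G M hSE hfour
  obtain ⟨U, hUa, hUn, -, -, hU, -⟩ := hBS.exists_regular (CfsgLib.Bender.smallerOK _)
    (CfsgLib.Bender.faithful_of_core hcore) _ hsol
  rw [CfsgLib.Bender.stab_base] at hUa hUn
  let Us : Sylow 2 G := Sylow.ofCard U hU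
  have huniq : ∀ R : Sylow 2 G, (R : Subgroup G) ≤ M → R = Us := fun R hR => by
    have hp : IsPGroup 2 (((R : Subgroup G) ⊔ U : Subgroup G)) :=
      R.isPGroup'.to_sup_of_normal_right' Us.isPGroup' (hR.trans hUn)
    exact Sylow.ext (Us.is_maximal' R.isPGroup' (le_sup_right.trans (R.is_maximal' hp le_sup_left).le))
  obtain ⟨T, hTS, hzT⟩ := h.multi
  exact hTS ((huniq T (hzT.le_centralizer.trans (hcent h.cen))).trans (huniq S hSM).symm)

theorem isJ1 (hG : Herz G) : Cfsg.IsJ1 G := by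
  haveI := hG.simple
  obtain ⟨e⟩ := (h.cover hG).1
  have e0 : Lz z ≃* ↥(Cz z) :=
    (QuotientGroup.quotientMulEquivOfEq (h.core_eq_bot hG)).trans QuotientGroup.quotientBot
  exact Cfsg.Agent.S0448.result z h.cen.isTwoCentral (e0.symm.trans e)

end MultiData

end CfsgLib.CentralInter
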