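import Cfsg.Agent.Lib.Recog.CentralIntersections.NoGrid
import Cfsg.Agent.Lib.Invol.RankOneInter.TILine
import Cfsg.Agent.Lib.Invol.RankOneInter.Final.OfAlpha
import Cfsg.Agent.Lib.Invol.RankOneInter.Central.AlphaProof
import Cfsg.Agent.Lib.Invol.CentralMeet.TIFacts

/-!
Owner: helper16. S3185: a group without odd core with a central involution `z`, two Sylow 2-subgroups and a central four
group in them: modulo `O₂` the Sylow subgroups meet trivially, and what we use of that.

* `Line z S q M`: `M` is the preimage in `S` of the involutions of `S / O₂`.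
* `exists_line`.
-/

set_option autoImplicit false
set_option linter.style.haveILetI false
set_option linter.unusedSectionVars false

namespace CfsgLib.CentralInter

open Subgroup
open CfsgLib.Signalizer (involution_sq involution_ne_one orderOf_eq_two_of)
open CfsgLib.RankOneInter (SmallMeet)

universe u

/-- The preimage `M` of the involutions of `S / O₂`. -/
structure Line {L : Type u} [Group L] [Finite L] (z : L) (S : Sylow 2 L) (q : ℕ) (M : Subgroup L) : Prop where
  pow : ∃ n, 2 ≤ n ∧ q = 2 ^ n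
  core_le : Cfsg.pCore 2 L ≤ (S : Subgroup L)
  core_sq : ∀ w ∈ Cfsg.pCore 2 L, w * w = 1 → w = 1 ∨ w = z
  z_mem : z ∈ Cfsg.pCore 2 L
  tiMod : CfsgLib.RankOneInter.TIMod L
  le : M ≤ (S : Subgroup L)
  core_le_M : Cfsg.pCore 2 L ≤ M
  sq_iff : ∀ s ∈ (S : Subgroup L), s * s ∈ Cfsg.pCore 2 L ↔ s ∈ M
  card : Nat.card M = q * Nat.card ↥(Cfsg.pCore 2 L)
  torus : ∃ g : L, Odd (orderOf g) ∧ g • S = S ∧
    ∀ x ∈ M, x ∉ Cfsg.pCore 2 L → ∀ y ∈ M, y ∉ Cfsg.pCore 2 L →
      ∃ i : ℕ, (g ^ i * x * (g ^ i)⁻¹)⁻¹ * y ∈ Cfsg.pCore 2 L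
  shape : (S : Subgroup L) = M ∨ ((∀ s ∈ (S : Subgroup L), (s * s) * (s * s) ∈ Cfsg.pCore 2 L) ∧
    8 * q * Nat.card ↥(Cfsg.pCore 2 L) ≤ Nat.card (S : Subgroup L))

variable {L : Type u} [Group L] [Finite L]

/-- The order of a preimage. -/
theorem card_comap_mk {W : Subgroup L} [W.Normal] (H : Subgroup (L ⧸ W)) :
    Nat.card (H.comap (QuotientGroup.mk' W)) = Nat.card H * Nat.card W := by
  set π := QuotientGroup.mk' W with hπ
  have hcardW : Nat.card π.ker = Nat.card W := by rw [hπ, QuotientGroup.ker_mk']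
  have h1 := Nat.card_congr (QuotientGroup.quotientKerEquivOfSurjective (π.subgroupComap H)
    (MonoidHom.subgroupComap_surjective_of_surjective π H (QuotientGroup.mk'_surjective W))).toEquiv
  have h2 := (π.subgroupComap H).ker.card_eq_card_quotient_mul_card_subgroup
  rw [h1] at h2
  rw [h2]
  congr 1
  rw [← hcardW]
  refine Nat.card_congr
    { toFun := fun x => ⟨(x.1 : L), congrArg Subtype.val x.2⟩
      invFun := fun x => ⟨⟨x.1, by rw [mem_comap, show π x.1 = 1 from x.2]; exact one_mem _⟩, Subtype.ext x.2⟩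
      left_inv := fun x => rfl
      right_inv := fun x => rfl }

theorem exists_line (hsm : SmallMeet L) (hO : Cfsg.oddCore L = ⊥) {z : L} (hz : orderOf z = 2)
    (hzc : ∀ g : L, g * z = z * g) {S : Sylow 2 L} {e : L} (he : e ∈ (S : Subgroup L)) (he2 : orderOf e = 2)
    (hez : e ≠ z) (hec : ∀ s ∈ (S : Subgroup L), s * e = e * s) {A : Subgroup L}
    (hA : Cfsg.IsElementaryAbelian 2 A) (hA8 : 8 ≤ Nat.card A) (hAS : A ≤ (S : Subgroup L))
    (htwo : ∃ T : Sylow 2 L, T ≠ S) : ∃ q M, Line z S q M := by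
  classical
  haveI := Fact.mk Nat.prime_two
  obtain ⟨T₁, hT₁⟩ := htwo
  have hTI : CfsgLib.RankOneInter.TIMod L := (CfsgLib.RankOneInter.Final.theoremB_of_alpha
    CfsgLib.RankOneInter.alphaCase L hsm hO z hz hzc ⟨e, he2, hez⟩).resolve_right
      (noGrid hsm hz hzc he he2 hez hec)
  set W := Cfsg.pCore 2 L with hW
  haveI hWn : W.Normal := CfsgLib.HallGen.pCore_normal' 2
  have hWle : ∀ T : Sylow 2 L, W ≤ (T : Subgroup L) := fun T => CfsgLib.HallGen.pCore_le_sylow T
  have hzW : z ∈ W := CfsgLib.HallGen.mem_pCore_of_forall_sylow 2 z fun T => by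
    have hp : IsPGroup 2 (zpowers z) := IsPGroup.of_card (n := 1) (by rw [Nat.card_zpowers, hz, pow_one])
    have hn : z ∈ normalizer ((T : Subgroup L) : Set L) := by
      rw [mem_normalizer_iff]
      intro y
      rw [← hzc y, mul_inv_cancel_right]
    have h' : z ∈ zpowers z ⊓ normalizer (T : Set L) := ⟨mem_zpowers z, hn⟩
    rw [hp.inf_normalizer_sylow T] at h'
    exact h'.2
  have huniq : ∀ w ∈ W, w * w = 1 → w = 1 ∨ w = z := by
    intro w hw hww
    by_contra hno
    push Not at hno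
    exact hT₁ (hsm S T₁ w z (orderOf_eq_two_of hno.1 hww) hz hno.2 (hzc w) (hWle S hw) (hWle S hzW)
      (hWle T₁ hw) (hWle T₁ hzW)).symm
  set π := QuotientGroup.mk' W with hπ
  have hsurj : Function.Surjective π := QuotientGroup.mk'_surjective W
  have hπ1 : ∀ {x : L}, π x = 1 ↔ x ∈ W := fun {x} => QuotientGroup.eq_one_iff x
  -- the images of the Sylow subgroups
  set piT : Sylow 2 L → Sylow 2 (L ⧸ W) := fun T => T.mapSurjective hsurj with hpiT
  have hmem : ∀ {T : Sylow 2 L} {x : L}, π x ∈ (piT T : Subgroup (L ⧸ W)) ↔ x ∈ (T : Subgroup L) := by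
    intro T x
    rw [hpiT, Sylow.coe_mapSurjective]
    refine ⟨fun ⟨t, ht, he⟩ => ?_, fun h => ⟨x, h, rfl⟩⟩
    have h1 : t⁻¹ * x ∈ W := hπ1.1 (by rw [map_mul, map_inv, he, inv_mul_cancel])
    simpa using mul_mem ht (hWle T h1)
  have hpiinj : ∀ {T T' : Sylow 2 L}, piT T = piT T' → T = T' := fun {T T'} h => Sylow.ext (by
    ext x
    rw [← hmem, ← hmem, h])
  have hti : ∀ U V : Sylow 2 (L ⧸ W), U ≠ V → (U : Subgroup (L ⧸ W)) ⊓ (V : Subgroup (L ⧸ W)) = ⊥ := by
    intro U V hUV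
    obtain ⟨T, rfl⟩ := Sylow.mapSurjective_surjective hsurj 2 U
    obtain ⟨T', rfl⟩ := Sylow.mapSurjective_surjective hsurj 2 V
    rw [eq_bot_iff]
    rintro y ⟨hy, hy'⟩
    obtain ⟨x, rfl⟩ := hsurj y
    have h : x ∈ (T : Subgroup L) ⊓ (T' : Subgroup L) := ⟨hmem.1 hy, hmem.1 hy'⟩
    rw [hTI T T' fun e' => hUV (e' ▸ rfl)] at h
    exact mem_bot.2 (hπ1.2 h)
  have hne : ∃ U V : Sylow 2 (L ⧸ W), U ≠ V := ⟨_, _, fun h => hT₁ (hpiinj (T := T₁) (T' := S) h)⟩
  -- a four group in the image of `A`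
  have hfour : ∃ U : Sylow 2 (L ⧸ W), CfsgLib.RankOneInter.Four (U : Subgroup (L ⧸ W)) := by
    refine ⟨piT S, ?_⟩
    obtain ⟨x, hx, hxW⟩ : ∃ x ∈ A, x ∉ W := by
      by_contra hno
      push Not at hno
      have : Nat.card A ≤ Nat.card Bool := Nat.card_le_card_of_injective
        (fun a : A => decide ((a : L) = 1)) fun a b hab => Subtype.ext (by
          rcases huniq _ (hno a a.2) (by rw [← pow_two]; exact hA.2 a a.2) with ha | ha <;>
          rcases huniq _ (hno b b.2) (by rw [← pow_two]; exact hA.2 b b.2) with hb | hb <;>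
          first
            | exact ha.trans hb.symm
            | (exfalso; simp [ha, hb, involution_ne_one hz] at hab))
      rw [Nat.card_eq_fintype_card (α := Bool), Fintype.card_bool] at this
      omega
    obtain ⟨y, hy, hyW, hxy⟩ : ∃ y ∈ A, y ∉ W ∧ x⁻¹ * y ∉ W := by
      by_contra hno
      push Not at hno
      have : Nat.card A ≤ Nat.card (Bool × Bool) := Nat.card_le_card_of_injective
        (fun a : A => (decide ((a : L) ∈ W), decide ((a : L) = 1 ∨ (a : L) = x))) fun a b hab => Subtype.ext (by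
          have hcls : ∀ c ∈ A, (c ∈ W → c = 1 ∨ c = z) ∧ (c ∉ W → c = x ∨ c = x * z) := fun c hc =>
            ⟨fun h => huniq c h (by rw [← pow_two]; exact hA.2 c hc), fun h => by
              rcases huniq _ (hno c hc h) (by rw [← pow_two]; exact hA.2 _ (mul_mem (inv_mem hx) hc)) with h1 | h1
              · exact Or.inl (inv_mul_eq_one.1 h1).symm
              · exact Or.inr (by rw [← h1, mul_inv_cancel_left])⟩
          simp only [Prod.mk.injEq, decide_eq_decide] at hab
          have hxz : x * z ≠ x := fun e' => involution_ne_one hz (mul_eq_left.1 e')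
          have hxz1 : x * z ≠ 1 := fun e' => hxW ((eq_inv_of_mul_eq_one_left e') ▸ inv_mem hzW)
          have hx1 : x ≠ 1 := fun e' => hxW (e' ▸ one_mem _)
          have hzx : z ≠ x := fun e' => hxW (e' ▸ hzW)
          by_cases haW : (a : L) ∈ W
          · rcases (hcls a a.2).1 haW with ha | ha <;> rcases (hcls b b.2).1 (hab.1.1 haW) with hb | hb <;>
            first
              | exact ha.trans hb.symm
              | (exfalso; rw [ha, hb] at hab; simp [involution_ne_one hz, hzx] at hab)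
          · rcases (hcls a a.2).2 haW with ha | ha <;>
              rcases (hcls b b.2).2 (fun h => haW (hab.1.2 h)) with hb | hb <;>
            first
              | exact ha.trans hb.symm
              | (exfalso; rw [ha, hb] at hab; simp [hxz, hxz1, hx1] at hab))
      rw [Nat.card_prod, Nat.card_eq_fintype_card (α := Bool), Fintype.card_bool] at this
      omega
    refine ⟨π x, hmem.2 (hAS hx), π y, hmem.2 (hAS hy),
      orderOf_eq_two_of (fun h => hxW (hπ1.1 h)) (by rw [← map_mul, ← pow_two, hA.2 x hx, map_one]),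
      orderOf_eq_two_of (fun h => hyW (hπ1.1 h)) (by rw [← map_mul, ← pow_two, hA.2 y hy, map_one]),
      fun h => hxy (hπ1.1 (by rw [map_mul, map_inv, h, inv_mul_cancel])), ?_⟩
    rw [← map_mul, ← map_mul, congrArg π (CfsgLib.Signalizer.elementary_comm hA hx hy)]
  obtain ⟨q, hq, hline⟩ := CfsgLib.RankOneInter.ti_line hti hfour hne
  obtain ⟨Om, hOmc, hOmS, hOm, hOmcen, -, habel, -, g₀, hg₀, hg₀S, -, hgtr, -, -, -⟩ :=
    hline (piT S) (piT T₁) (fun h => hT₁ (hpiinj h))
  set M := Om.comap π with hM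
  have hMle : M ≤ (S : Subgroup L) := fun x hx => hmem.1 (hOmS hx)
  have hWM : W ≤ M := fun x hx => by rw [hM, mem_comap, hπ1.2 hx]; exact one_mem _
  refine ⟨q, M, hq, hWle S, huniq, hzW, hTI, hMle, hWM, fun s hs => ?_, ?_, ?_, ?_⟩
  · rw [← hπ1, map_mul, mem_comap, hOm _ (hmem.2 hs)]
  · rw [hM, card_comap_mk, hOmc]
  · obtain ⟨g₁, hg₁⟩ := hsurj g₀
    obtain ⟨a, b, hb, hab⟩ := Nat.exists_eq_two_pow_mul_odd (orderOf_pos g₁).ne'
    obtain ⟨i₀, hi₀⟩ := exists_pow_eq_self_of_coprime (x := g₀) (n := 2 ^ a)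
      ((Nat.coprime_two_left.2 hg₀).pow_left a)
    set g := (g₁ ^ 2 ^ a) ^ i₀ with hg
    have hπg : π g = g₀ := by rw [hg, map_pow, map_pow, hg₁, hi₀]
    refine ⟨g, ?_, ?_, fun x hx hxW y hy hyW => ?_⟩
    · refine hb.of_dvd_nat (orderOf_dvd_of_pow_eq_one ?_)
      rw [hg, ← pow_mul, ← pow_mul, show 2 ^ a * (i₀ * b) = orderOf g₁ * i₀ by rw [hab]; ring, pow_mul,
        pow_orderOf_eq_one, one_pow]
    · refine hpiinj (Sylow.ext ?_)
      ext y
      obtain ⟨x, rfl⟩ := hsurj y
      rw [hmem, CfsgLib.CentralMeet.mem_smul_sylow, ← hmem, map_mul, map_mul, map_inv, hπg,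
        ← CfsgLib.CentralMeet.mem_smul_sylow, hg₀S]
    · obtain ⟨i, hi⟩ := hgtr _ hx _ hy (fun h => hxW (hπ1.1 h)) (fun h => hyW (hπ1.1 h))
      refine ⟨i, hπ1.1 ?_⟩
      rw [map_mul, map_inv, map_mul, map_mul, map_inv, map_pow, hπg, hi, inv_mul_cancel]
  -- the shape
  have hc := CfsgLib.RankOneInter.singleCore_of_ti hti hfour hne
  have hD := hc.quotient
  obtain ⟨U₀, x₀, hx₀, -, -, hx₀2, -, -, -⟩ := hfour
  have hne' : ∀ U : Sylow 2 (L ⧸ W), (U : Subgroup (L ⧸ W)) ≠ ⊥ := fun U h => by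
    have h1 : Nat.card (U₀ : Subgroup (L ⧸ W)) = Nat.card (U : Subgroup (L ⧸ W)) :=
      U₀.card_eq_multiplicity.trans U.card_eq_multiplicity.symm
    rw [h, Subgroup.card_bot, Subgroup.card_eq_one] at h1
    rw [h1, mem_bot] at hx₀
    exact involution_ne_one hx₀2 hx₀
  have hTI' : CfsgLib.CentralMeet.TIGroup ((L ⧸ W) ⧸ Cfsg.oddCore (L ⧸ W)) := by
    refine ⟨⟨fun A B hAB => (hD.inf_eq_bot hAB).le.trans bot_le, fun A => ?_⟩, hD.oddCore_eq, hD.pCore_eq,
      fun A B => hD.inf_eq_bot⟩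
    have hbot : CfsgLib.CentralMeet.meetGen A = ⊥ :=
      le_bot_iff.1 (iSup₂_le fun B hB => (hD.inf_eq_bot (Ne.symm hB)).le)
    obtain ⟨U, rfl⟩ := CfsgLib.RankOneInter.piS_surjective A
    obtain ⟨u, hu, hu1⟩ := (bot_or_exists_ne_one _).resolve_left (hne' U)
    exact ⟨_, CfsgLib.RankOneInter.piO_mem hu, fun h => hu1 (by
      rw [hbot, mem_bot] at h
      exact CfsgLib.RankOneInter.eq_one_of_piO hu h)⟩
  rcases hTI'.sylow_cases (CfsgLib.RankOneInter.piS (piT S)) with h1 | ⟨h1, -⟩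
  · left
    refine le_antisymm (fun s hs => ?_) hMle
    refine (hOm _ (hmem.2 hs)).1 ?_
    exact CfsgLib.RankOneInter.eq_one_of_piO (mul_mem (hmem.2 hs) (hmem.2 hs))
      (by rw [map_mul, h1 _ (CfsgLib.RankOneInter.piO_mem (hmem.2 hs))])
  · right
    set piO' := CfsgLib.RankOneInter.piO (L ⧸ W) with hpiO
    refine ⟨fun s hs => hπ1.1 ?_, ?_⟩
    · have hsS : π s ∈ (piT S : Subgroup (L ⧸ W)) := hmem.2 hs
      have hm := CfsgLib.RankOneInter.piO_mem hsS
      rw [map_mul, map_mul]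
      refine CfsgLib.RankOneInter.eq_one_of_piO (mul_mem (mul_mem hsS hsS) (mul_mem hsS hsS)) ?_
      rw [map_mul, map_mul]
      exact h1.central_sq _ (mul_mem hm hm) (h1.sq_central _ hm)
    · -- the order
      set P := (CfsgLib.RankOneInter.piS (piT S) : Subgroup ((L ⧸ W) ⧸ Cfsg.oddCore (L ⧸ W))) with hP
      have hqc : q ≤ Nat.card (center P) := by
        rw [← hOmc]
        refine Nat.card_le_card_of_injective (fun w => ⟨⟨piO' w.1, CfsgLib.RankOneInter.piO_mem (hOmS w.2)⟩,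
          mem_center_iff.2 fun p => Subtype.ext ?_⟩) fun v w h => Subtype.ext
            (CfsgLib.RankOneInter.piO_inj (hOmS v.2) (hOmS w.2) (congrArg Subtype.val (congrArg Subtype.val h)))
        obtain ⟨r, hr, hre⟩ : ∃ r ∈ (piT S : Subgroup (L ⧸ W)), piO' r = p := by
          have h := p.2
          simp only [hP, CfsgLib.RankOneInter.coe_piS] at h
          exact h
        show (p : _) * piO' (w : L ⧸ W) = piO' (w : L ⧸ W) * p
        rw [← hre, ← map_mul, ← map_mul, hOmcen r hr _ w.2]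
      have hP8 : 8 * q ≤ Nat.card P := by
        rw [← (center P).card_mul_index, mul_comm 8]
        exact Nat.mul_le_mul hqc h1.big
      have hPS : Nat.card P ≤ Nat.card (piT S : Subgroup (L ⧸ W)) := by
        rw [hP, CfsgLib.RankOneInter.coe_piS]
        exact Nat.card_le_card_of_surjective _ ((piO').subgroupMap_surjective _)
      have hSS : Nat.card (piT S : Subgroup (L ⧸ W)) * Nat.card W = Nat.card (S : Subgroup L) := by
        rw [← card_comap_mk]
        refine congrArg (fun H : Subgroup L => Nat.card H) ?_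
        ext x
        exact hmem
      rw [← hSS]
      exact Nat.mul_le_mul_right _ (hP8.trans hPS)

end CfsgLib.CentralInter
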