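import Mathlib.FieldTheory.Finite.GaloisField
import Mathlib.FieldTheory.Galois.Basic
import Mathlib.GroupTheory.Solvable
import Mathlib.RingTheory.LittleWedderburn

/-!
Owner: helper16. The linear lemma for S3185: a solvable group of automorphisms of an elementary abelian 2-group `V` of
order `2 ^ (n + 1)` which is transitive on the nonzero vectors, with the stabiliser of `z` transitive on the nonzero
vectors modulo `z`, forces `2 ^ n - 1 ≤ n + 1`: an abelian normal subgroup generates a field with `z` as a basis, and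
the stabiliser of `z` consists of field automorphisms.
-/

set_option autoImplicit false

namespace CfsgLib.CentralInter

variable {V : Type*} [AddCommGroup V] [Finite V]

omit [Finite V] in
theorem exists_normal_comm {Γ : Type*} [Group Γ] [Group.IsSolvable Γ] [Nontrivial Γ] :
    ∃ A : Subgroup Γ, A.Normal ∧ A ≠ ⊥ ∧ ∀ a ∈ A, ∀ b ∈ A, a * b = b * a := by
  classical
  have hs : ∃ k, derivedSeries Γ k = ⊥ := (Group.isSolvable_def Γ).1 inferInstance
  obtain ⟨k, hk⟩ : ∃ k, Nat.find hs = k + 1 := by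
    rcases h : Nat.find hs with _ | k
    · have h0 := Nat.find_spec hs
      rw [h, derivedSeries_zero] at h0
      obtain ⟨a, ha⟩ := exists_ne (1 : Γ)
      exact absurd (h0.le (Subgroup.mem_top a)) (by simpa using ha)
    · exact ⟨k, rfl⟩
  refine ⟨derivedSeries Γ k, inferInstance, Nat.find_min hs (by omega), fun a ha b hb => ?_⟩
  have h1 := Nat.find_spec hs
  rw [hk, derivedSeries_succ] at h1
  exact (Subgroup.mem_centralizer_iff.1 (Subgroup.commutator_eq_bot_iff_le_centralizer.1 h1 hb) a ha)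

theorem card_ringAut_le {R : Type*} [Field R] [Finite R] [CharP R 2] {n : ℕ} (hR : Nat.card R = 2 ^ (n + 1)) :
    Nat.card (R ≃+* R) ≤ n + 1 := by
  haveI : Fact (Nat.Prime 2) := ⟨Nat.prime_two⟩
  letI : Algebra (ZMod 2) R := ZMod.algebra R 2
  haveI : IsGalois (ZMod 2) R := GaloisField.instIsGaloisOfFinite
  haveI : FiniteDimensional (ZMod 2) R := Module.Finite.of_finite
  have hfin : Module.finrank (ZMod 2) R = n + 1 := by
    have h := Module.natCard_eq_pow_finrank (K := ZMod 2) (V := R)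
    rw [hR, Nat.card_zmod] at h
    exact (Nat.pow_right_injective le_rfl h).symm
  rw [← hfin, ← IsGalois.card_aut_eq_finrank (ZMod 2) R]
  refine Nat.card_le_card_of_injective
    (fun σ => AlgEquiv.ofRingEquiv (f := σ) fun x => RingHom.congr_fun
      (Subsingleton.elim ((σ : R →+* R).comp (algebraMap (ZMod 2) R)) (algebraMap (ZMod 2) R)) x)
    fun σ τ h => ?_
  ext x
  exact AlgEquiv.congr_fun h x

/-- An automorphism as an endomorphism. -/
abbrev toEnd (γ : (AddMonoid.End V)ˣ) : AddMonoid.End V := γ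

omit [Finite V] in
theorem unit_inv_apply (γ : (AddMonoid.End V)ˣ) (v : V) : toEnd γ⁻¹ (toEnd γ v) = v :=
  DFunLike.congr_fun γ.inv_mul v

omit [Finite V] in
theorem unit_apply_inv (γ : (AddMonoid.End V)ˣ) (v : V) : toEnd γ (toEnd γ⁻¹ v) = v :=
  DFunLike.congr_fun γ.mul_inv v

/-- The linear lemma. -/
theorem two_pow_le (Γ : Subgroup (AddMonoid.End V)ˣ) [Group.IsSolvable Γ] (h2 : ∀ v : V, v + v = 0) {n : ℕ}
    (hn : 1 ≤ n) (hcard : Nat.card V = 2 ^ (n + 1)) {z : V} (hz : z ≠ 0)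
    (htr : ∀ v : V, v ≠ 0 → ∃ γ ∈ Γ, toEnd γ z = v)
    (hstab : ∀ v w : V, v ≠ 0 → v ≠ z → w ≠ 0 → w ≠ z → ∃ γ ∈ Γ, toEnd γ z = z ∧ (toEnd γ v = w ∨ toEnd γ v = w + z)) :
    2 ^ n - 1 ≤ n + 1 := by
  classical
  -- `Γ` is not trivial
  obtain ⟨v₀, hv₀, hv₀z⟩ : ∃ v : V, v ≠ 0 ∧ v ≠ z := by
    by_contra hno
    push Not at hno
    have h4 : Nat.card V ≤ Nat.card Bool := Nat.card_le_card_of_surjective
      (fun b : Bool => if b then (0 : V) else z) fun v => by
        by_cases hv : v = 0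
        · exact ⟨true, hv.symm⟩
        · exact ⟨false, (hno v hv).symm⟩
    rw [hcard, Nat.card_eq_fintype_card (α := Bool), Fintype.card_bool] at h4
    have h1 : 2 ^ (1 + 1) ≤ 2 ^ (n + 1) := Nat.pow_le_pow_right two_pos (by omega)
    norm_num at h1
    omega
  haveI : Nontrivial Γ := by
    obtain ⟨γ, hγ, hγz⟩ := htr v₀ hv₀
    exact ⟨⟨⟨γ, hγ⟩, 1, fun e => hv₀z (by
      have h : γ = 1 := congrArg Subtype.val e
      rw [← hγz, h]; rfl)⟩⟩
  obtain ⟨A, hAn, hA1, hAc⟩ := exists_normal_comm (Γ := Γ)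
  set s : Set (AddMonoid.End V) := (fun a : Γ => toEnd (a : (AddMonoid.End V)ˣ)) '' (A : Set Γ) with hs
  set R := Subring.closure s with hR
  have hcomm : ∀ r ∈ R, ∀ r' ∈ R, r * r' = r' * r := by
    have hs2 : ∀ x ∈ s, ∀ y ∈ s, x * y = y * x := by
      rintro _ ⟨a, ha, rfl⟩ _ ⟨b, hb, rfl⟩
      refine AddMonoidHom.ext fun v => ?_
      exact congrArg (fun c : Γ => toEnd (c : (AddMonoid.End V)ˣ) v) (hAc a ha b hb)
    have h1 : R ≤ Subring.centralizer s := Subring.closure_le.2 fun x hx =>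
      Subring.mem_centralizer_iff.2 fun y hy => hs2 y hy x hx
    have h3 : R ≤ Subring.centralizer (R : Set (AddMonoid.End V)) := Subring.closure_le.2 fun x hx =>
      Subring.mem_centralizer_iff.2 fun r hr => (Subring.mem_centralizer_iff.1 (h1 hr) x hx).symm
    exact fun r hr r' hr' => Subring.mem_centralizer_iff.1 (h3 hr') r hr
  -- conjugation by `Γ` preserves `R`
  have hconj : ∀ γ ∈ Γ, ∀ r ∈ R, toEnd γ * r * toEnd γ⁻¹ ∈ R := by
    intro γ hγ r hr
    have hl : toEnd γ * toEnd γ⁻¹ = (1 : AddMonoid.End V) := γ.mul_inv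
    have hl' : toEnd γ⁻¹ * toEnd γ = (1 : AddMonoid.End V) := γ.inv_mul
    induction hr using Subring.closure_induction with
    | mem x hx =>
      obtain ⟨a, ha, rfl⟩ := hx
      exact Subring.subset_closure ⟨⟨γ, hγ⟩ * a * ⟨γ, hγ⟩⁻¹, hAn.conj_mem a ha ⟨γ, hγ⟩, rfl⟩
    | zero => rw [mul_zero, zero_mul]; exact zero_mem R
    | one => rw [mul_one, hl]; exact one_mem R
    | add x y _ _ hx hy => rw [mul_add, add_mul]; exact add_mem hx hy
    | neg x _ hx => rw [mul_neg, neg_mul]; exact neg_mem hx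
    | mul x y _ _ hx hy =>
      rw [show toEnd γ * (x * y) * toEnd γ⁻¹ =
        toEnd γ * x * toEnd γ⁻¹ * (toEnd γ * y * toEnd γ⁻¹) by
          simp only [mul_assoc]; rw [← mul_assoc (toEnd γ⁻¹) (toEnd γ), hl', one_mul]]
      exact mul_mem hx hy
  -- `z` generates `V` over `R`
  obtain ⟨r₀, hr₀, hr₀z, hr₀0⟩ : ∃ r ∈ R, r z ≠ z ∧ r z ≠ 0 := by
    obtain ⟨⟨a, ha⟩, hne⟩ := (Subgroup.bot_or_exists_ne_one A).resolve_left hA1 |> fun ⟨a, ha, h⟩ =>
      (⟨⟨a, ha⟩, h⟩ : ∃ a : A, (a : Γ) ≠ 1)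
    obtain ⟨v, hv⟩ : ∃ v, toEnd (a : (AddMonoid.End V)ˣ) v ≠ v := by
      by_contra hno
      push Not at hno
      exact hne (Subtype.ext (Units.ext (AddMonoidHom.ext hno)))
    have hv0 : v ≠ 0 := fun e => hv (by rw [e, map_zero])
    obtain ⟨γ, hγ, rfl⟩ := htr v hv0
    set b : Γ := (⟨γ, hγ⟩ : Γ)⁻¹ * a * ⟨γ, hγ⟩ with hb
    have hbA : b ∈ A := by simpa [hb] using hAn.conj_mem a ha (⟨γ, hγ⟩ : Γ)⁻¹
    refine ⟨toEnd (b : (AddMonoid.End V)ˣ), Subring.subset_closure ⟨b, hbA, rfl⟩, fun e => hv ?_, fun e => hz ?_⟩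
    · have h' : toEnd γ⁻¹ (toEnd (a : (AddMonoid.End V)ˣ) (toEnd γ z)) = z := e
      have h'' := congrArg (toEnd γ) h'
      rwa [unit_apply_inv] at h''
    · have h' := congrArg (toEnd (b : (AddMonoid.End V)ˣ)⁻¹) e
      rwa [unit_inv_apply, map_zero] at h'
  have hspan : ∀ v : V, ∃ r ∈ R, r z = v := by
    intro v
    by_cases hv : v = 0
    · exact ⟨0, zero_mem R, hv.symm⟩
    by_cases hvz : v = z
    · exact ⟨1, one_mem R, hvz.symm⟩
    obtain ⟨γ, hγ, hγz, hγv⟩ := hstab _ v hr₀0 hr₀z hv hvz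
    have hmem := hconj γ hγ r₀ hr₀
    have he : (toEnd γ * r₀ * toEnd γ⁻¹) z = toEnd γ (r₀ z) := by
      show toEnd γ (r₀ (toEnd γ⁻¹ z)) = _
      conv_lhs => rw [← hγz, unit_inv_apply]
    rcases hγv with h | h
    · exact ⟨_, hmem, he.trans h⟩
    · exact ⟨_, add_mem hmem (one_mem R), by
        show (toEnd γ * r₀ * toEnd γ⁻¹) z + z = v
        rw [he, h, add_assoc, h2, add_zero]⟩
  -- `R` is a field
  have hinj : ∀ r ∈ R, ∀ v : V, v ≠ 0 → r v = 0 → r = 0 := by
    intro r hr v hv hrv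
    obtain ⟨γ, hγ, rfl⟩ := htr v hv
    have hmem := hconj γ⁻¹ (inv_mem hγ) r hr
    rw [inv_inv] at hmem
    have h0 : (toEnd γ⁻¹ * r * toEnd γ) z = 0 := by
      show toEnd γ⁻¹ (r (toEnd γ z)) = 0
      rw [hrv, map_zero]
    have hall : toEnd γ⁻¹ * r * toEnd γ = 0 := AddMonoidHom.ext fun w => by
      obtain ⟨r', hr', rfl⟩ := hspan w
      show ((toEnd γ⁻¹ * r * toEnd γ) * r') z = 0
      rw [hcomm _ hmem _ hr']
      show r' _ = 0
      exact (congrArg r' h0).trans r'.map_zero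
    refine AddMonoidHom.ext fun w => ?_
    have h1 := DFunLike.congr_fun hall (toEnd γ⁻¹ w)
    change toEnd γ⁻¹ (r (toEnd γ (toEnd γ⁻¹ w))) = 0 at h1
    rw [unit_apply_inv] at h1
    have h' := congrArg (toEnd γ) h1
    rwa [unit_apply_inv, map_zero] at h'
  haveI : Nontrivial R := ⟨⟨0, 1, fun e => hz (DFunLike.congr_fun (congrArg Subtype.val e).symm z)⟩⟩
  haveI : NoZeroDivisors R := ⟨fun {x y} hxy => by
    by_contra hno
    push Not at hno
    have h1 : (y : AddMonoid.End V) z ≠ 0 := fun e => hno.2 (Subtype.ext (hinj _ y.2 z hz e))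
    exact hno.1 (Subtype.ext (hinj _ x.2 _ h1 (DFunLike.congr_fun (congrArg Subtype.val hxy) z)))⟩
  haveI : IsDomain R := NoZeroDivisors.to_isDomain R
  haveI : Finite (AddMonoid.End V) := Finite.of_injective (fun f : AddMonoid.End V => (f : V → V))
    DFunLike.coe_injective
  letI : CommRing R := { (inferInstance : Ring R) with mul_comm := fun x y => Subtype.ext (hcomm _ x.2 _ y.2) }
  letI : Field R := (Finite.isField_of_domain R).toField
  have hbij : Function.Bijective (fun r : R => (r : AddMonoid.End V) z) := by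
    refine ⟨fun r r' e => ?_, fun v => ?_⟩
    · refine sub_eq_zero.1 (Subtype.ext (hinj _ (r - r').2 z hz ?_))
      show (r : AddMonoid.End V) z - (r' : AddMonoid.End V) z = 0
      exact sub_eq_zero.2 e
    · obtain ⟨r, hr, e⟩ := hspan v
      exact ⟨⟨r, hr⟩, e⟩
  haveI : Fact (Nat.Prime 2) := ⟨Nat.prime_two⟩
  haveI : CharP R 2 := CharTwo.of_one_ne_zero_of_two_eq_zero one_ne_zero (Subtype.ext (AddMonoidHom.ext fun v => by
    rw [← one_add_one_eq_two]
    exact h2 v))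
  have hRcard : Nat.card R = 2 ^ (n + 1) := (Nat.card_eq_of_bijective _ hbij).trans hcard
  refine le_trans ?_ (card_ringAut_le hRcard)
  haveI : Finite (R ≃+* R) := Finite.of_injective (fun τ : R ≃+* R => (τ : R → R)) DFunLike.coe_injective
  -- the stabiliser of `z` gives enough automorphisms
  set T := {γ : (AddMonoid.End V)ˣ // γ ∈ Γ ∧ toEnd γ z = z}
  have haut : ∀ γ : T, ∃ σ : R ≃+* R,
      ∀ r : R, ((σ r : R) : AddMonoid.End V) z = toEnd γ.1 ((r : AddMonoid.End V) z) := by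
    rintro ⟨γ, hγ, hγz⟩
    let σ : R →+* R :=
      { toFun := fun r => ⟨toEnd γ * r.1 * toEnd γ⁻¹, hconj γ hγ _ r.2⟩
        map_one' := Subtype.ext (AddMonoidHom.ext fun v => unit_apply_inv γ v)
        map_zero' := Subtype.ext (AddMonoidHom.ext fun v => (toEnd γ).map_zero)
        map_add' := fun x y => Subtype.ext (AddMonoidHom.ext fun v => (toEnd γ).map_add _ _)
        map_mul' := fun x y => Subtype.ext (AddMonoidHom.ext fun v => by
          show toEnd γ (x.1 (y.1 (toEnd γ⁻¹ v))) = toEnd γ (x.1 (toEnd γ⁻¹ (toEnd γ (y.1 (toEnd γ⁻¹ v)))))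
          rw [unit_inv_apply]) }
    refine ⟨RingEquiv.ofBijective σ ⟨fun x y e => ?_, ?_⟩, fun r => ?_⟩
    · exact σ.injective e
    · exact Finite.surjective_of_injective σ.injective
    · show toEnd γ ((r : AddMonoid.End V) (toEnd γ⁻¹ z)) = _
      conv_lhs => rw [← hγz, unit_inv_apply]
  choose σ hσ using haut
  -- the classes modulo `z`
  set Z := AddSubgroup.zmultiples z with hZ
  have hZm : ∀ v : V, v ∈ Z ↔ v = 0 ∨ v = z := by
    intro v
    constructor
    · rintro ⟨i, rfl⟩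
      rcases Int.even_or_odd i with ⟨k, rfl⟩ | ⟨k, rfl⟩
      · left; show (k + k) • z = 0; rw [add_zsmul]; exact h2 _
      · right; show (2 * k + 1) • z = z
        rw [add_zsmul, two_mul, add_zsmul, h2, zero_add, one_zsmul]
    · rintro (rfl | rfl)
      · exact zero_mem _
      · exact AddSubgroup.mem_zmultiples _
  have hZc : Nat.card Z = 2 := by
    rw [hZ, Nat.card_zmultiples]
    exact addOrderOf_eq_prime (by rw [two_nsmul, h2]) hz
  have hq : Nat.card (V ⧸ Z) = 2 ^ n := by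
    have h := Z.card_eq_card_quotient_mul_card_addSubgroup
    rw [hcard, hZc, pow_succ] at h
    omega
  have hquot : Nat.card {x : V ⧸ Z // x ≠ 0} = 2 ^ n - 1 := by
    rw [← hq]
    letI := Fintype.ofFinite (V ⧸ Z)
    rw [Nat.card_eq_fintype_card, Nat.card_eq_fintype_card, Fintype.card_subtype_compl, Fintype.card_subtype_eq]
  rw [← hquot]
  obtain ⟨r₁, hr₁⟩ := hbij.2 v₀
  let f : (R ≃+* R) → {x : V ⧸ Z // x ≠ 0} := fun τ =>
    if h : (((τ r₁ : R) : AddMonoid.End V) z : V ⧸ Z) ≠ 0 then ⟨_, h⟩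
    else ⟨(v₀ : V ⧸ Z), fun e => ((hZm v₀).1 ((QuotientAddGroup.eq_zero_iff v₀).1 e)).elim hv₀ hv₀z⟩
  refine Nat.card_le_card_of_surjective f ?_
  rintro ⟨x, hx⟩
  obtain ⟨w, rfl⟩ := QuotientAddGroup.mk_surjective x
  have hw : w ≠ 0 ∧ w ≠ z := not_or.1 fun e => hx ((QuotientAddGroup.eq_zero_iff w).2 ((hZm w).2 e))
  obtain ⟨γ, hγ, hγz, hγv⟩ := hstab v₀ w hv₀ hv₀z hw.1 hw.2
  refine ⟨σ ⟨γ, hγ, hγz⟩, ?_⟩
  have he : ((((σ ⟨γ, hγ, hγz⟩) r₁ : R) : AddMonoid.End V) z : V ⧸ Z) = (w : V ⧸ Z) := by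
    rw [hσ, show ((r₁ : AddMonoid.End V) z) = v₀ from hr₁]
    rcases hγv with h | h
    · exact congrArg _ h
    · show ((toEnd γ v₀ : V) : V ⧸ Z) = _
      rw [h, QuotientAddGroup.mk_add, (QuotientAddGroup.eq_zero_iff z).2 ((hZm z).2 (Or.inr rfl)), add_zero]
  exact (dif_pos (he.symm ▸ hx)).trans (Subtype.ext he)

end CfsgLib.CentralInter
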