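import Cfsg.Agent.Lib.Recog.CentralIntersections.Janko

/-!
Owner: helper16. S3185: simple groups whose central Sylow 2-intersections have 2-rank at most one, given S0486 and
S1175.

* `Herz.classify`.
-/

set_option autoImplicit false

namespace CfsgLib.CentralInter

universe u

variable {G : Type u} [Group G] [Finite G]

theorem Herz.classify (hG : Herz G) (hmain : CfsgLib.AschCrit.Main.{u}) (hU : U34Goal.{u}) :
    Names G ∨ Cfsg.IsJ1 G := by
  by_cases hr : ∃ S : Sylow 2 G, Rank3 S
  · obtain ⟨S₀, hS₀⟩ := hr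
    by_cases hm : ∃ (S T : Sylow 2 G) (z : G), Cen S z ∧ T ≠ S ∧ z ∈ (T : Subgroup G)
    · obtain ⟨S, T, z, hz, hTS, hzT⟩ := hm
      exact Or.inr ((hG.exists_multiData hz hTS hzT hS₀.all).isJ1 hG)
    · refine Or.inl (names_of_family (hG.family_of_single hmain fun S T z hz hzT => ?_))
      by_contra hTS
      exact hm ⟨S, T, z, hz, hTS, hzT⟩
  · exact Or.inl (hG.rank_two hU fun S hS => hr ⟨S, hS⟩)

end CfsgLib.CentralInter
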