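import Cfsg.Agent.Lib.Recog.CentralIntersections.Basic
import Cfsg.Agent.Lib.GW.Final
import Cfsg.Agent.Lib.TwoGroups.SemiDihedralFusion
import Cfsg.Agent.Lib.TwoGroups.WreathedConclusions
import Cfsg.Agent.Lib.TwoGroups.MapEquiv
import Cfsg.Agent.Lib.Classical.NoncyclicCenter
import Cfsg.Agent.Lib.Classical.SmallIsoSix
import Cfsg.Agent.Lib.Classical.SmallIso
import Cfsg.Agent.Lib.Recog.SelfCentThree.AltFiveFacts
import Cfsg.Agent.Lib.Invol.RankOneInter.Final.Names
import Cfsg.Agent.S0516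

/-!
Owner: helper16. S3185, the case of 2-rank two: the four group gives `PSL(2, q)`, the Sylow 2-subgroup of `U₃(4)` type
gives `PSU(3, 4)` by the statement of S0486, the other types of S0516 have cyclic centre.
-/

set_option autoImplicit false
set_option linter.style.haveILetI false
set_option linter.unusedSectionVars false

namespace CfsgLib.CentralInter

open Subgroup
open CfsgLib.Signalizer (involution_sq involution_ne_one orderOf_eq_two_of)

universe u

/-- The statement of S0486 for the field of sixteen elements. -/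
def U34Goal : Prop :=
  ∀ (G : Type u) [Group G] [Finite G] [IsSimpleGroup G] (F : Type) (_ : Field F) (_ : Fintype F),
    Fintype.card F = 16 → ∀ (S : Sylow 2 G) (P : Sylow 2 (Cfsg.PSU 3 F 4)),
      Nonempty ((S : Subgroup G) ≃* (P : Subgroup (Cfsg.PSU 3 F 4))) → Nonempty (G ≃* Cfsg.PSU 3 F 4)

/-- The conclusion of S3185 without the first Janko group. -/
def Names (G : Type u) [Group G] : Prop :=
  (∃ (n : ℕ) (F : Type) (_ : Field F) (_ : Fintype F), 2 ≤ n ∧ Fintype.card F = 2 ^ n ∧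
      Nonempty (G ≃* Matrix.ProjectiveSpecialLinearGroup (Fin 2) F)) ∨
  (∃ (m : ℕ) (F : Type) (_ : Field F) (_ : Fintype F), 1 ≤ m ∧ Fintype.card F = 2 ^ (2 * m + 1) ∧
      Nonempty (G ≃* ↥(Cfsg.Lie.Sz F (2 ^ (m + 1))))) ∨
  (∃ (n : ℕ) (F : Type) (_ : Field F) (_ : Fintype F), 2 ≤ n ∧ Fintype.card F = 4 ^ n ∧
      Nonempty (G ≃* Cfsg.PSU 3 F (2 ^ n))) ∨
  (∃ (F : Type) (_ : Field F) (_ : Fintype F), (Fintype.card F % 8 = 3 ∨ Fintype.card F % 8 = 5) ∧
      5 < Fintype.card F ∧ Nonempty (G ≃* Matrix.ProjectiveSpecialLinearGroup (Fin 2) F))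

/-- An elementary abelian subgroup of order at least eight in `S`. -/
def Rank3 {G : Type u} [Group G] (S : Sylow 2 G) : Prop :=
  ∃ E : Subgroup G, Cfsg.IsElementaryAbelian 2 E ∧ 8 ≤ Nat.card E ∧ E ≤ (S : Subgroup G)

theorem names_of_family {G : Type u} [Group G] (h : CfsgLib.Bender.RankOneFamily G) : Names G := by
  rcases CfsgLib.RankOneInter.Final.names_of_family h with h | h | h
  exacts [Or.inl h, Or.inr (Or.inl h), Or.inr (Or.inr (Or.inl h))]

variable {G : Type u} [Group G] [Finite G]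

/-- A simple group isomorphic to `L₂(q)` with Sylow 2-subgroups of order four. -/
theorem names_of_four {F : Type} [Field F] [Fintype F] (hodd : Odd (Fintype.card F)) (h3 : 3 < Fintype.card F)
    (e : G ≃* Matrix.ProjectiveSpecialLinearGroup (Fin 2) F) (S : Sylow 2 G)
    (hS : Nat.card (S : Subgroup G) = 4) : Names G := by
  haveI := Fact.mk Nat.prime_two
  have hn8 : ¬ 8 ∣ Nat.card G := fun hd => by
    obtain ⟨i, hi⟩ := hd
    have h := (S : Subgroup G).card_mul_index
    rw [hS, hi] at h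
    exact S.not_dvd_index ⟨i, by omega⟩
  have hc := CfsgLib.Classical.Two.card_PSL_two (F := F)
  rw [← Nat.card_congr e.toEquiv] at hc
  set q := Fintype.card F with hq
  by_cases h5 : q = 5
  · obtain ⟨ea⟩ := CfsgLib.Classical.nonempty_psl_five_equiv_alt (F := F) h5
    letI := Fintype.ofFinite (GaloisField 2 2)
    have hc4 : Fintype.card (GaloisField 2 2) = 4 := by
      rw [← Nat.card_eq_fintype_card, GaloisField.card 2 2 (by norm_num)]
      norm_num
    have h := CfsgLib.Classical.Two.card_PSL_two (F := GaloisField 2 2)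
    rw [hc4, show Nat.gcd 2 (4 - 1) = 1 by decide, one_mul] at h
    obtain ⟨e'⟩ := CfsgLib.Classical.Two.psl_two_equiv_alternating (F := GaloisField 2 2) (k := 5)
      (by norm_num) (by rw [hc4]) (by rw [h]; norm_num [Nat.factorial])
    exact Or.inl ⟨2, GaloisField 2 2, inferInstance, inferInstance, le_rfl, hc4, ⟨(e.trans ea).trans e'.symm⟩⟩
  refine Or.inr (Or.inr (Or.inr ⟨F, inferInstance, inferInstance, ?_, ?_, ⟨e⟩⟩))
  swap
  · show 5 < q
    obtain ⟨k, hk⟩ := hodd
    omega
  obtain ⟨k, hk⟩ := hodd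
  have h2 : Nat.gcd 2 (q - 1) = 2 := Nat.gcd_eq_left (by omega)
  rw [h2] at hc
  by_contra hno
  have hr : q % 8 = 1 ∨ q % 8 = 7 := by omega
  obtain ⟨m, hm⟩ : 16 ∣ q ^ 2 - 1 := by
    rw [show q ^ 2 - 1 = q ^ 2 - 1 ^ 2 by simp, Nat.sq_sub_sq]
    rcases hr with h | h
    · obtain ⟨a, ha⟩ : ∃ a, q = 8 * a + 1 := ⟨q / 8, by omega⟩
      exact ⟨(4 * a + 1) * a, by rw [ha, show 8 * a + 1 - 1 = 8 * a by omega]; ring⟩
    · obtain ⟨a, ha⟩ : ∃ a, q = 8 * a + 7 := ⟨q / 8, by omega⟩
      exact ⟨(a + 1) * (4 * a + 3), by rw [ha, show 8 * a + 7 - 1 = 8 * a + 6 by omega]; ring⟩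
  rw [hm] at hc
  exact hn8 ⟨q * m, by linarith⟩

/-- A cyclic group of central elements has one involution. -/
theorem Cen.eq_of_cyclic {S : Sylow 2 G} {z e : G} (hz : Cen S z) (he : Cen S e)
    {C : Subgroup G} [IsCyclic C] (hle : (Subgroup.center ↥(S : Subgroup G)).map (S : Subgroup G).subtype ≤ C) :
    z = e := by
  have h := CfsgLib.Classical.TwoType.cyclic_involution_unique (H := C)
    (x := ⟨z, hle hz.mem_center⟩) (y := ⟨e, hle he.mem_center⟩)
    (by rw [← Subgroup.orderOf_coe]; exact hz.2.1) (by rw [← Subgroup.orderOf_coe]; exact he.2.1)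
  exact congrArg Subtype.val h

/-- The Sylow 2-subgroups in the case of 2-rank two. -/
theorem Herz.rank_two_types (hG : Herz G) (hr : ∀ S : Sylow 2 G, ¬ Rank3 S) (S : Sylow 2 G) {F : Type} [Field F]
    [Fintype F] (hF : Fintype.card F = 16) (P : Sylow 2 (Cfsg.PSU 3 F 4)) :
    Nonempty ((S : Subgroup G) ≃* DihedralGroup 2) ∨ Nonempty ((S : Subgroup G) ≃* (P : Subgroup (Cfsg.PSU 3 F 4))) := by
  classical
  haveI := Fact.mk Nat.prime_two
  haveI := hG.simple
  have h2 : Cfsg.PRankLE 2 2 G := by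
    intro A hAc hA2
    have hAel : Cfsg.IsElementaryAbelian 2 A := ⟨hAc, hA2⟩
    have hp := CfsgLib.Signalizer.elementary_isPGroup hAel
    obtain ⟨S, hS⟩ := hp.exists_le_sylow
    obtain ⟨i, hi⟩ := hp.exists_card_eq
    by_contra hlt
    refine hr S ⟨A, hAel, ?_, hS⟩
    rw [hi] at hlt ⊢
    have h3 : 3 ≤ i := by
      by_contra h
      exact hlt (Nat.pow_le_pow_right two_pos (by omega))
    exact (show 8 = 2 ^ 3 by norm_num) ▸ Nat.pow_le_pow_right two_pos h3
  obtain ⟨z, e, hz, he, hez⟩ := hG.exists_two_cen S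
  rcases Cfsg.Agent.S0516.result hG.nonabelian h2 S hF P with ⟨n, hn, ⟨ε⟩⟩ | h | h | h
  · -- dihedral, hence four
    have hn2 : n = 2 := by
      by_contra hne
      haveI : NeZero n := ⟨by omega⟩
      have hcentral : ∀ {w : G} (hw : Cen S w), ∀ v, v * ε ⟨w, hw.1⟩ = ε ⟨w, hw.1⟩ * v := fun {w} hw v => by
        obtain ⟨⟨s, hs⟩, rfl⟩ := ε.surjective v
        rw [← map_mul, ← map_mul]
        exact congrArg ε (Subtype.ext (hw.2.2 s hs))
      have hkey : ∀ {w : G} (hw : Cen S w), ∃ i : ZMod n, i + i = 0 ∧ i ≠ 0 ∧ ε ⟨w, hw.1⟩ = DihedralGroup.r i := by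
        intro w hw
        have hc := hcentral hw
        rcases hi : ε ⟨w, hw.1⟩ with i | i
        · refine ⟨i, ?_, fun e0 => ?_, rfl⟩
          · have h := hc (DihedralGroup.sr 0)
            rw [hi, DihedralGroup.sr_mul_r, DihedralGroup.r_mul_sr, DihedralGroup.sr.injEq] at h
            linear_combination h
          · rw [e0, ← DihedralGroup.one_def, ← map_one ε] at hi
            exact involution_ne_one hw.2.1 (congrArg Subtype.val (ε.injective hi))
        · exfalso
          have h := hc (DihedralGroup.r 1)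
          rw [hi, DihedralGroup.r_mul_sr, DihedralGroup.sr_mul_r, DihedralGroup.sr.injEq] at h
          have h2 : ((2 : ℕ) : ZMod n) = 0 := by push_cast; linear_combination -h
          rw [ZMod.natCast_eq_zero_iff] at h2
          have := Nat.le_of_dvd two_pos h2
          omega
      obtain ⟨i, hi, hi0, hiz⟩ := hkey hz
      obtain ⟨j, hj, hj0, hje⟩ := hkey he
      have huniq : ∀ k : ZMod n, k + k = 0 → k ≠ 0 → 2 * k.val = n := by
        intro k hk hk0
        have h1 : n ∣ k.val + k.val := by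
          rw [← ZMod.natCast_eq_zero_iff, Nat.cast_add, ZMod.natCast_val, ZMod.cast_id]; exact hk
        have h2 := ZMod.val_lt k
        have h3 : k.val ≠ 0 := fun h => hk0 ((ZMod.val_eq_zero k).1 h)
        obtain ⟨c, hc⟩ := h1
        have hcl : c < 2 := by
          by_contra hc2
          have := Nat.mul_le_mul_left n (Nat.le_of_not_lt hc2)
          omega
        interval_cases c <;> omega
      have hij : i = j := ZMod.val_injective n (by have := huniq i hi hi0; have := huniq j hj hj0; omega)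
      rw [hij, ← hje] at hiz
      exact hez (congrArg Subtype.val (ε.injective hiz)).symm
    subst hn2
    exact Or.inl ⟨ε⟩
  · exfalso
    obtain ⟨m, f, hf, hS⟩ := CfsgLib.TwoGroups.SemiDihedral.exists_model h
    refine hez (Cen.eq_of_cyclic hz he (C := zpowers (f (CfsgLib.TwoGroups.SemiDihedral.rot
      (CfsgLib.TwoGroups.SemiDihedral.h m)))) ?_).symm
    rintro _ ⟨s, hs, rfl⟩
    obtain ⟨v, hv⟩ := hS.ge s.2
    have hvc : v ∈ center (CfsgLib.TwoGroups.SemiDihedral m) := mem_center_iff.2 fun v' => hf (by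
      rw [map_mul, map_mul, hv]
      exact congrArg Subtype.val (mem_center_iff.1 hs ⟨f v', hS ▸ ⟨v', rfl⟩⟩))
    rw [CfsgLib.TwoGroups.SemiDihedral.center_eq] at hvc
    obtain ⟨i, rfl⟩ := hvc
    exact ⟨i, (map_zpow f _ i).symm.trans hv⟩
  · exfalso
    obtain ⟨m, f, -, hf, hS⟩ := CfsgLib.TwoGroups.WreathTwo.exists_model h
    refine hez (Cen.eq_of_cyclic hz he (C := zpowers (f (CfsgLib.TwoGroups.WreathTwo.u 1 1))) ?_).symm
    rintro _ ⟨s, hs, rfl⟩
    obtain ⟨v, hv⟩ := hS.ge s.2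
    have hvc : v ∈ center (CfsgLib.TwoGroups.WreathTwo m) := mem_center_iff.2 fun v' => hf (by
      rw [map_mul, map_mul, hv]
      exact congrArg Subtype.val (mem_center_iff.1 hs ⟨f v', hS ▸ ⟨v', rfl⟩⟩))
    rw [CfsgLib.TwoGroups.WreathTwo.center_eq] at hvc
    obtain ⟨i, rfl⟩ := hvc
    exact ⟨i, (map_zpow f _ i).symm.trans hv⟩
  · exact Or.inr h

/-- The case of 2-rank two. -/
theorem Herz.rank_two (hG : Herz G) (hU : U34Goal.{u}) (hr : ∀ S : Sylow 2 G, ¬ Rank3 S) : Names G := by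
  classical
  haveI := Fact.mk Nat.prime_two
  haveI := hG.simple
  obtain ⟨S⟩ := (inferInstance : Nonempty (Sylow 2 G))
  letI := Fintype.ofFinite (GaloisField 2 4)
  have hF : Fintype.card (GaloisField 2 4) = 16 := by
    rw [← Nat.card_eq_fintype_card, GaloisField.card 2 4 (by norm_num)]; norm_num
  obtain ⟨P⟩ : Nonempty (Sylow 2 (Cfsg.PSU 3 (GaloisField 2 4) 4)) := inferInstance
  rcases hG.rank_two_types hr S hF P with ⟨⟨ε⟩⟩ | h
  · have hn : 2 ≤ 2 := le_rfl
    have hS4 : Nat.card (S : Subgroup G) = 4 := by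
      rw [Nat.card_congr ε.toEquiv, Nat.card_eq_fintype_card, DihedralGroup.card]
    haveI : Group.IsPerfect G := ⟨((inferInstance : (commutator G).Normal).eq_bot_or_eq_top).resolve_left fun h =>
      hG.nonabelian ⟨⟨fun a b => mem_center_iff.1 (((commutator_eq_bot_iff_center_eq_top G).1 h) ▸ mem_top b) a⟩⟩⟩
    have eO : G ⧸ Cfsg.oddCore G ≃* G :=
      (QuotientGroup.quotientMulEquivOfEq hG.oddCore_eq_bot).trans QuotientGroup.quotientBot
    rcases CfsgLib.GW.Final.gwStatement G S 2 hn ⟨ε⟩ with ⟨F, iF, iFt, hodd, h3, ⟨e'⟩⟩ | ⟨⟨e'⟩⟩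
    · exact names_of_four hodd h3 (eO.symm.trans e') S hS4
    · exfalso
      have h := (S : Subgroup G).card_mul_index
      rw [hS4, Nat.card_congr (eO.symm.trans e').toEquiv, nat_card_alternatingGroup, Nat.card_fin] at h
      norm_num [Nat.factorial] at h
      exact S.not_dvd_index ⟨315, by omega⟩
  · obtain ⟨e'⟩ := hU G (GaloisField 2 4) inferInstance inferInstance hF S P h
    refine Or.inr (Or.inr (Or.inl ⟨2, GaloisField 2 4, inferInstance, inferInstance, le_rfl, ?_, ⟨?_⟩⟩))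
    · rw [hF]; norm_num
    · exact e'

end CfsgLib.CentralInter
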