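import Cfsg.Agent.Lib.Recog.CentralIntersections.Basic
import Cfsg.Agent.Lib.Recog.CentralIntersections.RankTwo
import Cfsg.Agent.Lib.Recog.CentralIntersections.Line

/-!
Owner: helper16. S3185: a 2-central involution `z` in two Sylow subgroups, in rank at least three: the centraliser.

* `pr z`: the map of `C(z)` onto its quotient by the odd core, injective on `S`.
* `MultiData`: a line of that quotient with the elements of `N(S) ∩ C(z)` moving it.
* `Herz.exists_multiData`.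
-/

set_option autoImplicit false
set_option linter.style.haveILetI false
set_option linter.unusedSectionVars false

namespace CfsgLib.CentralInter

open Subgroup
open CfsgLib.Signalizer (involution_sq involution_inv involution_ne_one orderOf_eq_two_of orderOf_conj)
open CfsgLib.CentralMeet (mem_smul_sylow conj_mem_smul)
open CfsgLib.RankOneInter (SmallMeet)

universe u

variable {G : Type u} [Group G] [Finite G]

/-- The centraliser of an element. -/
abbrev Cz (z : G) : Subgroup G := centralizer ({z} : Set G)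

/-- The quotient of `C(z)` by its odd core. -/
abbrev Lz (z : G) : Type u := ↥(Cz z) ⧸ Cfsg.oddCore ↥(Cz z)

/-- The projection. -/
abbrev pr (z : G) : ↥(Cz z) →* Lz z := QuotientGroup.mk' _

/-- `z` in `C(z)`. -/
def zC (z : G) : ↥(Cz z) := ⟨z, mem_centralizer_singleton_iff.2 rfl⟩

/-- The data of a multi 2-central involution. -/
structure MultiData (S : Sylow 2 G) (z : G) : Prop where
  cen : Cen S z
  multi : ∃ T : Sylow 2 G, T ≠ S ∧ Cen T z
  small : SmallMeet ↥(Cz z)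
  rank : ∀ U : Sylow 2 G, Rank3 U
  comm : ∀ s : ↥(Cz z), (s : G) ∈ (S : Subgroup G) → ∀ o ∈ Cfsg.oddCore ↥(Cz z), s * o = o * s

theorem Rank3.all {S : Sylow 2 G} (h : Rank3 S) (U : Sylow 2 G) : Rank3 U := by
  haveI := Fact.mk Nat.prime_two
  obtain ⟨g, rfl⟩ := MulAction.exists_smul_eq G S U
  obtain ⟨A, hA, h8, hAS⟩ := h
  refine ⟨A.map (MulAut.conj g).toMonoidHom, ⟨?_, ?_⟩, ?_, ?_⟩
  · haveI := hA.1
    infer_instance
  · rintro _ ⟨a, ha, rfl⟩
    rw [← map_pow, hA.2 a ha, map_one]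
  · rwa [card_map_of_injective (MulAut.conj g).injective]
  · rintro _ ⟨a, ha, rfl⟩
    exact conj_mem_smul (hAS ha)

theorem Herz.smallMeet_centralizer (hG : Herz G) {S : Sylow 2 G} {z : G} (hz : Cen S z) : SmallMeet ↥(Cz z) := by
  haveI := Fact.mk Nat.prime_two
  intro P P' x y hx hy hne hc hxP hyP hxP' hyP'
  have hzin : ∀ R : Sylow 2 ↥(Cz z), zC z ∈ (R : Subgroup ↥(Cz z)) := by
    intro R
    have hzc : ∀ g : ↥(Cz z), g * zC z = zC z * g := fun g => Subtype.ext (mem_centralizer_singleton_iff.1 g.2)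
    have hp : IsPGroup 2 (zpowers (zC z)) := IsPGroup.of_card (n := 1) (by
      rw [Nat.card_zpowers, ← Subgroup.orderOf_coe, pow_one]; exact hz.2.1)
    have hn : zC z ∈ normalizer ((R : Subgroup ↥(Cz z)) : Set ↥(Cz z)) := by
      rw [mem_normalizer_iff]
      intro w
      rw [← hzc w, mul_inv_cancel_right]
    have h' : zC z ∈ zpowers (zC z) ⊓ normalizer (R : Set ↥(Cz z)) := ⟨mem_zpowers _, hn⟩
    rw [hp.inf_normalizer_sylow R] at h'
    exact h'.2
  obtain ⟨U, hU⟩ := (P.isPGroup'.map (Cz z).subtype).exists_le_sylow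
  obtain ⟨U', hU'⟩ := (P'.isPGroup'.map (Cz z).subtype).exists_le_sylow
  obtain ⟨w, hw, hwP, hwP', hwz, hwc⟩ : ∃ w : ↥(Cz z), orderOf w = 2 ∧ w ∈ (P : Subgroup ↥(Cz z)) ∧
      w ∈ (P' : Subgroup ↥(Cz z)) ∧ (w : G) ≠ z ∧ (w : G) * z = z * w := by
    by_cases hxz : (x : G) = z
    · exact ⟨y, hy, hyP, hyP', fun h => hne (Subtype.ext (hxz.trans h.symm)), mem_centralizer_singleton_iff.1 y.2⟩
    · exact ⟨x, hx, hxP, hxP', hxz, mem_centralizer_singleton_iff.1 x.2⟩
  have e : U = U' := hG.eq_of_pair hz (by rw [Subgroup.orderOf_coe]; exact hw) hwz hwc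
    (hU ⟨_, hzin P, rfl⟩) (hU ⟨_, hwP, rfl⟩) (hU' ⟨_, hzin P', rfl⟩) (hU' ⟨_, hwP', rfl⟩)
  have hp : IsPGroup 2 ((U : Subgroup G).subgroupOf (Cz z)) :=
    U.isPGroup'.comap_of_injective (Cz z).subtype (Cz z).subtype_injective
  have h1 := P.is_maximal' hp fun v hv => mem_subgroupOf.2 (hU ⟨v, hv, rfl⟩)
  have h2 := P'.is_maximal' hp fun v hv => mem_subgroupOf.2 (e ▸ hU' ⟨v, hv, rfl⟩)
  exact Sylow.ext (h1.symm.trans h2)

theorem Herz.exists_multiData (hG : Herz G) {S T : Sylow 2 G} {z : G} (hz : Cen S z) (hTS : T ≠ S)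
    (hzT : z ∈ (T : Subgroup G)) (hr : ∀ U : Sylow 2 G, Rank3 U) : MultiData S z := by
  haveI := Fact.mk Nat.prime_two
  have hsm := hG.smallMeet_centralizer hz
  refine ⟨hz, ⟨T, hTS, hG.cen_of_mem hz hzT⟩, hsm, hr, fun s hs o ho => ?_⟩
  obtain ⟨A, hA, hA8, hAS⟩ := hr S
  have hAC : A ≤ Cz z := hAS.trans hz.le_centralizer
  set A' := A.subgroupOf (Cz z) with hA'
  have hA'el : Cfsg.IsElementaryAbelian 2 A' := by
    refine ⟨⟨⟨fun a b => Subtype.ext (Subtype.ext ?_)⟩⟩, fun a ha => Subtype.ext (hA.2 _ (mem_subgroupOf.1 ha))⟩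
    exact CfsgLib.Signalizer.elementary_comm hA (mem_subgroupOf.1 a.2) (mem_subgroupOf.1 b.2)
  exact hsm.commute_odd hA'el (by rwa [Nat.card_congr (subgroupOfEquivOfLe hAC).toEquiv])
    (S := S.subtype hz.le_centralizer) (fun a ha => hAS (mem_subgroupOf.1 ha))
    (CfsgLib.ZStar.odd_card_oddCore _) le_rfl (fun a ha => hAS (mem_subgroupOf.1 ha))
    (normalizer_eq_top (H := Cfsg.oddCore ↥(Cz z)) ▸ le_top) s hs o ho

namespace MultiData

variable {S : Sylow 2 G} {z : G} (h : MultiData S z)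
include h

theorem le_C : (S : Subgroup G) ≤ Cz z := h.cen.le_centralizer

/-- An element of `S` in `C(z)`. -/
theorem mem_C {s : G} (hs : s ∈ (S : Subgroup G)) : s ∈ Cz z := h.le_C hs

/-- `S` as a Sylow subgroup of the quotient. -/
noncomputable def sylL : Sylow 2 (Lz z) :=
  (S.subtype h.le_C).mapSurjective (f := pr z) (QuotientGroup.mk'_surjective _)

theorem mem_sylL {s : ↥(Cz z)} (hs : (s : G) ∈ (S : Subgroup G)) : pr z s ∈ (h.sylL : Subgroup (Lz z)) :=
  ⟨s, hs, rfl⟩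

theorem exists_of_mem_sylL {y : Lz z} (hy : y ∈ (h.sylL : Subgroup (Lz z))) :
    ∃ s : ↥(Cz z), (s : G) ∈ (S : Subgroup G) ∧ pr z s = y := by
  obtain ⟨s, hs, he⟩ := hy
  exact ⟨s, hs, he⟩

theorem inj {s t : ↥(Cz z)} (hs : (s : G) ∈ (S : Subgroup G)) (ht : (t : G) ∈ (S : Subgroup G))
    (he : pr z s = pr z t) : s = t := by
  haveI := Fact.mk Nat.prime_two
  have ho : s⁻¹ * t ∈ Cfsg.oddCore ↥(Cz z) := QuotientGroup.eq.1 he
  have hm : ((s⁻¹ * t : ↥(Cz z)) : G) ∈ (S : Subgroup G) := mul_mem (inv_mem hs) ht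
  obtain ⟨k, hk⟩ := S.isPGroup' ⟨_, hm⟩
  have h1 : orderOf (s⁻¹ * t) ∣ 2 ^ k := orderOf_dvd_of_pow_eq_one (Subtype.ext (have e := congrArg Subtype.val hk; e))
  exact inv_mul_eq_one.1 (orderOf_eq_one_iff.1 (Nat.eq_one_of_dvd_coprimes
    ((Nat.coprime_two_left.2 (CfsgLib.ZStar.odd_card_oddCore _)).pow_left k) h1
    (Subgroup.orderOf_dvd_natCard _ ho)))

/-- A 2-element of `C(z)` over `S` lies in `S`. -/
theorem mem_of_pr {x : ↥(Cz z)} {k : ℕ} (hx : x ^ 2 ^ k = 1) (hπ : pr z x ∈ (h.sylL : Subgroup (Lz z))) :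
    (x : G) ∈ (S : Subgroup G) := by
  haveI := Fact.mk Nat.prime_two
  obtain ⟨s, hs, he⟩ := h.exists_of_mem_sylL hπ
  set o := s⁻¹ * x with ho'
  have ho : o ∈ Cfsg.oddCore ↥(Cz z) := QuotientGroup.eq.1 he
  obtain ⟨l, hl⟩ := S.isPGroup' ⟨_, hs⟩
  have hl' : s ^ 2 ^ l = 1 := Subtype.ext (have e := congrArg Subtype.val hl; e)
  have hc : Commute s o := h.comm s hs o ho
  have h1 : o ^ 2 ^ (k + l) = 1 := by
    have h2 := hc.mul_pow (2 ^ (k + l))
    rw [ho', mul_inv_cancel_left, pow_add 2 k l, pow_mul, hx, one_pow, mul_comm (2 ^ k), pow_mul, hl', one_pow,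
      one_mul] at h2
    rw [ho', pow_add, mul_comm]
    exact h2.symm
  have h3 : o = 1 := orderOf_eq_one_iff.1 (Nat.eq_one_of_dvd_coprimes
    ((Nat.coprime_two_left.2 (CfsgLib.ZStar.odd_card_oddCore _)).pow_left (k + l))
    (orderOf_dvd_of_pow_eq_one h1) (Subgroup.orderOf_dvd_natCard _ ho))
  rw [← inv_mul_eq_one.1 h3]
  exact hs

/-- An element of `C(z)` normalising the image of `S` normalises `S`. -/
theorem mem_normalizer_of_pr {c : ↥(Cz z)} (hc : pr z c • h.sylL = h.sylL) :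
    (c : G) ∈ normalizer ((S : Subgroup G) : Set G) := by
  haveI := Fact.mk Nat.prime_two
  have hle : (S : Subgroup G).map (MulAut.conj (c : G)).toMonoidHom ≤ (S : Subgroup G) := by
    rintro _ ⟨s, hs, rfl⟩
    obtain ⟨k, hk⟩ := S.isPGroup' ⟨s, hs⟩
    refine h.mem_of_pr (x := c * ⟨s, h.mem_C hs⟩ * c⁻¹) (k := k) ?_ ?_
    · rw [conj_pow, show (⟨s, h.mem_C hs⟩ : ↥(Cz z)) ^ 2 ^ k = 1 from Subtype.ext (have e := congrArg Subtype.val hk; e),
        mul_one, mul_inv_cancel]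
    · rw [map_mul, map_mul, map_inv, ← hc, mem_smul_sylow]
      simpa [mul_assoc] using h.mem_sylL (s := ⟨s, h.mem_C hs⟩) hs
  have he := eq_of_le_of_card_ge hle (le_of_eq (card_map_of_injective (MulAut.conj (c : G)).injective).symm)
  rw [mem_normalizer_iff]
  intro x
  constructor
  · intro hx; exact hle ⟨x, hx, rfl⟩
  · intro hx
    rw [← he] at hx
    obtain ⟨y, hy, e⟩ := hx
    simp only [MulEquiv.coe_toMonoidHom, MulAut.conj_apply] at e
    rwa [← mul_left_cancel (mul_right_cancel e)]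

theorem smallMeet_L : SmallMeet (Lz z) :=
  h.small.quotient _ (CfsgLib.ZStar.odd_card_oddCore _)

theorem pr_zC_order : orderOf (pr z (zC z)) = 2 := by
  refine orderOf_eq_two_of (fun e => involution_ne_one h.cen.2.1 ?_) ?_
  · exact congrArg Subtype.val (h.inj h.cen.1 (one_mem _) (e.trans (map_one _).symm))
  · rw [← map_mul, show zC z * zC z = 1 from Subtype.ext (involution_sq h.cen.2.1), map_one]

omit h in
theorem pr_zC_central (g : Lz z) : g * pr z (zC z) = pr z (zC z) * g := by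
  obtain ⟨c, rfl⟩ := QuotientGroup.mk'_surjective _ g
  rw [← map_mul, ← map_mul]
  exact congrArg _ (Subtype.ext (mem_centralizer_singleton_iff.1 c.2))

theorem exists_two_sylL : ∃ T : Sylow 2 (Lz z), T ≠ h.sylL := by
  haveI := Fact.mk Nat.prime_two
  obtain ⟨T, hTS, hzT⟩ := h.multi
  refine ⟨(T.subtype hzT.le_centralizer).mapSurjective (f := pr z) (QuotientGroup.mk'_surjective _), fun e => hTS ?_⟩
  refine Sylow.ext (eq_of_le_of_card_ge (fun t ht => ?_) ?_)
  · obtain ⟨k, hk⟩ := T.isPGroup' ⟨t, ht⟩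
    refine h.mem_of_pr (x := ⟨t, hzT.le_centralizer ht⟩) (k := k) (Subtype.ext (have e := congrArg Subtype.val hk; e)) ?_
    rw [← e, Sylow.coe_mapSurjective]
    exact ⟨⟨t, hzT.le_centralizer ht⟩, ht, rfl⟩
  · exact le_of_eq (S.card_eq_multiplicity.trans T.card_eq_multiplicity.symm)

theorem exists_line (hG : Herz G) : ∃ q M, Line (pr z (zC z)) h.sylL q M := by
  haveI := Fact.mk Nat.prime_two
  obtain ⟨a, b, ha, hb, hab⟩ := hG.exists_two_cen S
  obtain ⟨e, he, hez⟩ : ∃ e, Cen S e ∧ e ≠ z := by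
    by_cases haz : a = z
    · exact ⟨b, hb, fun hbz => hab (hbz.trans haz.symm)⟩
    · exact ⟨a, ha, haz⟩
  obtain ⟨A, hA, hA8, hAS⟩ := h.rank S
  have hAC : A ≤ Cz z := hAS.trans h.le_C
  set A' := (A.subgroupOf (Cz z)).map (pr z) with hA'
  have hinj : Function.Injective fun a : A.subgroupOf (Cz z) => (⟨pr z (a : ↥(Cz z)), mem_map_of_mem _ a.2⟩ : A') :=
    fun a b hab => Subtype.ext (h.inj (hAS (mem_subgroupOf.1 a.2)) (hAS (mem_subgroupOf.1 b.2))
      (congrArg Subtype.val hab))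
  have hA'el : Cfsg.IsElementaryAbelian 2 A' := by
    refine ⟨⟨⟨?_⟩⟩, ?_⟩
    · rintro ⟨_, a, ha, rfl⟩ ⟨_, b, hb, rfl⟩
      refine Subtype.ext ?_
      show pr z a * pr z b = pr z b * pr z a
      rw [← map_mul, ← map_mul, show a * b = b * a from Subtype.ext
        (CfsgLib.Signalizer.elementary_comm hA (mem_subgroupOf.1 ha) (mem_subgroupOf.1 hb))]
    · rintro _ ⟨a, ha, rfl⟩
      rw [← map_pow, show a ^ 2 = 1 from Subtype.ext (hA.2 _ (mem_subgroupOf.1 ha)), map_one]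
  have hA'8 : 8 ≤ Nat.card A' := by
    refine hA8.trans ?_
    rw [← Nat.card_congr (subgroupOfEquivOfLe hAC).toEquiv]
    exact Nat.card_le_card_of_injective _ hinj
  have hA'S : A' ≤ (h.sylL : Subgroup (Lz z)) := by
    rintro _ ⟨a, ha, rfl⟩
    exact h.mem_sylL (hAS (mem_subgroupOf.1 ha))
  set e' : ↥(Cz z) := ⟨e, h.mem_C he.1⟩ with he'
  refine CfsgLib.CentralInter.exists_line h.smallMeet_L (CfsgLib.Core.pPrimeCore_quotient_pPrimeCore 2 _)
    h.pr_zC_order pr_zC_central (e := pr z e') (h.mem_sylL he.1) (orderOf_eq_two_of (fun h1 => ?_) ?_)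
    (fun h1 => hez (congrArg Subtype.val (h.inj (s := e') (t := zC z) he.1 h.cen.1 h1))) (fun y hy => ?_)
    hA'el hA'8 hA'S h.exists_two_sylL
  · exact involution_ne_one he.2.1
      (congrArg Subtype.val (h.inj (s := e') (t := 1) he.1 (one_mem _) (h1.trans (map_one _).symm)))
  · rw [← map_mul, show e' * e' = 1 from Subtype.ext (involution_sq he.2.1), map_one]
  · obtain ⟨s, hs, rfl⟩ := h.exists_of_mem_sylL hy
    rw [← map_mul, ← map_mul, show s * e' = e' * s from Subtype.ext (he.2.2 _ hs)]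

end MultiData

end CfsgLib.CentralInter
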