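import Cfsg.Agent.Lib.Recog.CentralIntersections.QuatFive
import Cfsg.Agent.Lib.Invol.RankOneInter.Defs
import Cfsg.Agent.Lib.Invol.CentralMeet.Basic
import Cfsg.Agent.Lib.Classical.SL2Pair

/-!
Owner: helper16. S3185: a central involution of a Sylow 2-subgroup other than the central one excludes the grid: such an
involution, corrected inside a factor, would fix a second Sylow subgroup over the other factor.
-/

set_option autoImplicit false
set_option linter.style.haveILetI false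
set_option linter.unusedSectionVars false

namespace CfsgLib.CentralInter

open Subgroup
open QuatFive
open scoped MatrixGroups
open CfsgLib.Signalizer (involution_sq involution_inv involution_ne_one orderOf_eq_two_of orderOf_conj)
open CfsgLib.CentralMeet (mem_smul_sylow conj_mem_smul)
open CfsgLib.RankOneInter (SmallMeet Grid)

universe u

theorem card_SL25 : Nat.card SL(2, ZMod 5) = 120 := by
  haveI : Fact (Nat.Prime 5) := ⟨by norm_num⟩
  rw [CfsgLib.Classical.Two.card_SL_two, ZMod.card]; norm_num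

theorem neg_one_ne_one : (-1 : SL(2, ZMod 5)) ≠ 1 := by
  intro h
  have := congrArg (fun s : SL(2, ZMod 5) => s 0 0) h
  revert this
  simp
  decide

theorem isPGroup_Q8 : IsPGroup 2 Q8 := IsPGroup.of_card (n := 3) (by rw [card_Q8]; norm_num)

theorem eq_Q8 {P : Subgroup SL(2, ZMod 5)} (hP : IsPGroup 2 P) (h : Q8 ≤ P) : P = Q8 := by
  haveI := Fact.mk Nat.prime_two
  refine (eq_of_le_of_card_ge h ?_).symm
  obtain ⟨k, hk⟩ := hP.exists_card_eq
  have hd := P.card_subgroup_dvd_card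
  rw [card_SL25, hk] at hd
  rw [card_Q8, hk]
  have hk3 : k ≤ 3 := by
    by_contra h
    have : 2 ^ 4 ∣ 120 := (pow_dvd_pow 2 (by omega)).trans hd
    norm_num at this
  exact (Nat.pow_le_pow_right two_pos hk3).trans (le_of_eq (by norm_num))

/-- The Sylow subgroup `Q8`. -/
noncomputable def sylQ8 : Sylow 2 SL(2, ZMod 5) :=
  ⟨Q8, isPGroup_Q8, fun hP h => eq_Q8 hP h⟩

theorem card_normalizer_Q8 : 24 ≤ Nat.card (normalizer ((Q8 : Subgroup SL(2, ZMod 5)) : Set SL(2, ZMod 5))) := by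
  haveI : Fact (Nat.Prime 5) := ⟨by norm_num⟩
  set N := normalizer ((Q8 : Subgroup SL(2, ZMod 5)) : Set SL(2, ZMod 5))
  have hW : W ∈ N := by
    have hle : Q8.map (MulAut.conj W).toMonoidHom ≤ Q8 := by
      rintro _ ⟨q, hq, rfl⟩
      exact mono_conj_W hq
    have he := eq_of_le_of_card_ge hle (by rw [card_map_of_injective (MulAut.conj W).injective])
    rw [mem_normalizer_iff]
    refine fun x => ⟨fun hx => mono_conj_W hx, fun hx => ?_⟩
    rw [← he] at hx
    obtain ⟨y, hy, e⟩ := hx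
    simp only [MulEquiv.coe_toMonoidHom, MulAut.conj_apply] at e
    rwa [← mul_left_cancel (mul_right_cancel e)]
  have h8 : 8 ∣ Nat.card N := card_Q8 ▸ card_dvd_of_le le_normalizer
  have h3 : 3 ∣ Nat.card N := by
    rw [← orderOf_eq_prime (p := 3) (hp := ⟨Nat.prime_three⟩) W_pow W_ne]
    exact Subgroup.orderOf_dvd_natCard N hW
  exact Nat.le_of_dvd Nat.card_pos (Nat.Coprime.mul_dvd_of_dvd_of_dvd (by norm_num : Nat.Coprime 8 3) h8 h3)

variable {L : Type u} [Group L] [Finite L]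

/-- A central involution `e ≠ z` of a Sylow subgroup excludes the grid. -/
theorem noGrid (hsm : SmallMeet L) {z : L} (hz : orderOf z = 2) (hzc : ∀ g : L, g * z = z * g)
    {S₁ : Sylow 2 L} {e₁ : L} (he₁ : e₁ ∈ (S₁ : Subgroup L)) (he₂ : orderOf e₁ = 2) (hne₁ : e₁ ≠ z)
    (hec : ∀ s ∈ (S₁ : Subgroup L), s * e₁ = e₁ * s) (hgrid : Grid L) : False := by
  classical
  haveI := Fact.mk Nat.prime_two
  obtain ⟨G₁, hG₁, -, Z, hZn, hZdef, ⟨f⟩⟩ := hgrid
  haveI := hZn
  haveI := hG₁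
  -- the map from the two factors
  set ι : SL(2, ZMod 5) × SL(2, ZMod 5) →* L :=
    G₁.subtype.comp (f.symm.toMonoidHom.comp (QuotientGroup.mk' Z)) with hι
  have hZmem : ∀ p : SL(2, ZMod 5) × SL(2, ZMod 5), p ∈ Z ↔ p = 1 ∨ p = (-1, -1) := by
    intro p
    rw [hZdef]
    constructor
    · rintro ⟨i, rfl⟩
      have h2 : ((-1, -1) : SL(2, ZMod 5) × SL(2, ZMod 5)) ^ (2 : ℤ) = 1 := by
        rw [zpow_two]; exact Prod.ext (neg_one_mul _ |>.trans (neg_neg _)) (neg_one_mul _ |>.trans (neg_neg _))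
      rcases Int.even_or_odd i with ⟨k, rfl⟩ | ⟨k, rfl⟩
      · left
        show ((-1, -1) : SL(2, ZMod 5) × SL(2, ZMod 5)) ^ (k + k) = 1
        rw [← two_mul, zpow_mul, h2, one_zpow]
      · right
        show ((-1, -1) : SL(2, ZMod 5) × SL(2, ZMod 5)) ^ (2 * k + 1) = _
        rw [zpow_add, zpow_mul, h2, one_zpow, one_mul, zpow_one]
    · rintro (rfl | rfl)
      · exact one_mem _
      · exact mem_zpowers _
  have hker : ∀ p, ι p = 1 → p = 1 ∨ p = (-1, -1) := fun p hp => (hZmem p).1 ((QuotientGroup.eq_one_iff p).1 (by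
    have h1 : f.symm (QuotientGroup.mk' Z p) = 1 := Subtype.ext hp
    exact f.symm.map_eq_one_iff.1 h1))
  have hιZ : ι (-1, -1) = 1 := by
    show ((f.symm (QuotientGroup.mk' Z (-1, -1)) : G₁) : L) = 1
    rw [show QuotientGroup.mk' Z (-1, -1) = 1 from (QuotientGroup.eq_one_iff _).2 ((hZmem _).2 (Or.inr rfl)),
      map_one, Subgroup.coe_one]
  have hsurj : ∀ x ∈ G₁, ∃ p, ι p = x := fun x hx => by
    obtain ⟨p, hp⟩ := QuotientGroup.mk'_surjective Z (f ⟨x, hx⟩)
    exact ⟨p, by show ((f.symm (QuotientGroup.mk' Z p) : G₁) : L) = x; rw [hp, f.symm_apply_apply]⟩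
  have hmemG : ∀ p, ι p ∈ G₁ := fun p => (f.symm (QuotientGroup.mk' Z p)).2
  have hneg1 : ∀ a : SL(2, ZMod 5), (a, a) = ((-1, -1) : SL(2, ZMod 5) × SL(2, ZMod 5)) → a = -1 :=
    fun a h => congrArg Prod.fst h
  -- commuting images
  have hcomm : ∀ p p', ι p * ι p' = ι p' * ι p → p.1 * p'.1 = p'.1 * p.1 ∧ p.2 * p'.2 = p'.2 * p.2 ∨
      (p.1 * p'.1 = -(p'.1 * p.1) ∧ p.2 * p'.2 = -(p'.2 * p.2)) := by
    intro p p' h
    rcases hker (p * p' * (p' * p)⁻¹) (by rw [map_mul, map_inv, map_mul, map_mul, h, mul_inv_cancel]) with h1 | h1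
    · rw [mul_inv_eq_one] at h1
      exact Or.inl ⟨congrArg Prod.fst h1, congrArg Prod.snd h1⟩
    · rw [mul_inv_eq_iff_eq_mul] at h1
      refine Or.inr ⟨?_, ?_⟩
      · have := congrArg Prod.fst h1; simpa using this
      · have := congrArg Prod.snd h1; simpa using this
  have hcommQ : ∀ p, (∀ q ∈ Q8, ι p * ι (q, 1) = ι (q, 1) * ι p) → p.1 = 1 ∨ p.1 = -1 := by
    intro p h
    have key : ∀ q ∈ Q8, p.1 * q = q * p.1 := fun q hq => by
      rcases hcomm p (q, 1) (h q hq) with ⟨h1, -⟩ | ⟨-, h2⟩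
      · exact h1
      · exfalso
        simp only [mul_one, one_mul] at h2
        refine neg_one_ne_one (mul_right_cancel (b := p.2) ?_)
        rw [neg_one_mul, one_mul]
        exact h2.symm
    exact centralizer_Q8 (key I I_mem) (key J J_mem)
  have hcommQ' : ∀ p, (∀ q ∈ Q8, ι p * ι (1, q) = ι (1, q) * ι p) → p.2 = 1 ∨ p.2 = -1 := by
    intro p h
    have key : ∀ q ∈ Q8, p.2 * q = q * p.2 := fun q hq => by
      rcases hcomm p (1, q) (h q hq) with ⟨-, h1⟩ | ⟨h2, -⟩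
      · exact h1
      · exfalso
        simp only [mul_one, one_mul] at h2
        refine neg_one_ne_one (mul_right_cancel (b := p.1) ?_)
        rw [neg_one_mul, one_mul]
        exact h2.symm
    exact centralizer_Q8 (key I I_mem) (key J J_mem)
  -- the central involution
  set c := ι (-1, 1) with hcdef
  have hc1 : c ≠ 1 := fun h => by
    rcases hker _ h with h1 | h1
    · exact neg_one_ne_one (congrArg Prod.fst h1)
    · exact neg_one_ne_one (congrArg Prod.snd h1).symm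
  have hcsq : c * c = 1 := by
    rw [hcdef, ← map_mul, show ((-1, 1) : SL(2, ZMod 5) × SL(2, ZMod 5)) * (-1, 1) = 1 from
      Prod.ext (neg_one_mul _ |>.trans (neg_neg _)) (one_mul 1), map_one]
  have hc2 : orderOf c = 2 := orderOf_eq_two_of hc1 hcsq
  have hcases : ∀ p : SL(2, ZMod 5) × SL(2, ZMod 5), (p.1 = 1 ∨ p.1 = -1) → (p.2 = 1 ∨ p.2 = -1) →
      ι p = 1 ∨ ι p = c := by
    rintro ⟨a, b⟩ (ha | ha) (hb | hb) <;> dsimp only at ha hb <;> subst ha hb
    · exact Or.inl (map_one ι)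
    · refine Or.inr ?_
      rw [hcdef, ← mul_one (ι (1, -1)), ← hcsq, hcdef, ← mul_assoc, ← map_mul,
        show ((1, -1) : SL(2, ZMod 5) × SL(2, ZMod 5)) * (-1, 1) = (-1, -1) from Prod.ext (one_mul _) (mul_one _),
        hιZ, one_mul]
    · exact Or.inr rfl
    · exact Or.inl hιZ
  have hcG : ∀ p, ι p * c = c * ι p := fun p => by
    rw [hcdef, ← map_mul, ← map_mul]
    congr 1
    exact Prod.ext (mul_neg_one _ |>.trans (neg_one_mul _).symm) ((mul_one _).trans (one_mul _).symm)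
  have hcL : ∀ g : L, g * c = c * g := by
    intro g
    obtain ⟨p, hp⟩ := hsurj _ (hG₁.conj_mem c (hmemG _) g)
    have hp' : ∀ p', ι p * ι p' = ι p' * ι p := fun p' => by
      obtain ⟨p'', hp''⟩ := hsurj _ (hG₁.conj_mem _ (hmemG p') g⁻¹)
      have h := congrArg (fun w => g * w * g⁻¹) (hcG p'')
      rw [hp'', inv_inv] at h
      rw [hp]
      simpa [mul_assoc] using h.symm
    rcases hcases p (hcommQ p fun q _ => hp' _) (hcommQ' p fun q _ => hp' _) with h | h
    · exfalso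
      rw [h] at hp
      exact hc1 (conj_eq_one_iff.1 hp.symm)
    · rw [h] at hp
      nth_rewrite 2 [hp]
      group
  have hmemall : ∀ {x : L}, orderOf x = 2 → (∀ g : L, g * x = x * g) → ∀ T : Sylow 2 L, x ∈ (T : Subgroup L) := by
    intro x hx hxc T
    have hp : IsPGroup 2 (zpowers x) := IsPGroup.of_card (n := 1) (by rw [Nat.card_zpowers, hx, pow_one])
    have hn : x ∈ normalizer ((T : Subgroup L) : Set L) := by
      rw [mem_normalizer_iff]
      intro y
      rw [← hxc y, mul_inv_cancel_right]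
    have h' : x ∈ zpowers x ⊓ normalizer (T : Set L) := ⟨mem_zpowers x, hn⟩
    rw [hp.inf_normalizer_sylow T] at h'
    exact h'.2
  -- a 2-group of `SL × SL` over `Q8 × Q8`
  have hproj : ∀ (T : Sylow 2 L), (∀ q ∈ Q8, ∀ q' ∈ Q8, ι (q, q') ∈ (T : Subgroup L)) →
      ∀ p, ι p ∈ (T : Subgroup L) → p.1 ∈ Q8 ∧ p.2 ∈ Q8 := by
    intro T hT p hp
    set P := (T : Subgroup L).comap ι with hP
    have hPp : IsPGroup 2 P := T.isPGroup'.comap_of_ker_isPGroup ι (by
      refine IsPGroup.to_le (IsPGroup.of_card (p := 2) (n := 1) (G := zpowers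
        ((-1, -1) : SL(2, ZMod 5) × SL(2, ZMod 5))) ?_) fun x hx => ?_
      · rw [Nat.card_zpowers, pow_one]
        refine orderOf_eq_two_of (fun h => neg_one_ne_one (congrArg Prod.fst h)) ?_
        exact Prod.ext (neg_one_mul _ |>.trans (neg_neg _)) (neg_one_mul _ |>.trans (neg_neg _))
      · rcases hker x hx with h | h
        · exact h ▸ one_mem _
        · exact h ▸ mem_zpowers _)
    constructor
    · have h := eq_Q8 (hPp.map (MonoidHom.fst _ _)) (fun q hq => ⟨(q, 1), hT q hq 1 (one_mem _), rfl⟩)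
      exact h ▸ ⟨p, hp, rfl⟩
    · have h := eq_Q8 (hPp.map (MonoidHom.snd _ _)) (fun q hq => ⟨(1, q), hT 1 (one_mem _) q hq, rfl⟩)
      exact h ▸ ⟨p, hp, rfl⟩
  obtain ⟨S₀, hS₀⟩ : ∃ S₀ : Sylow 2 L, (Q8.prod Q8).map ι ≤ (S₀ : Subgroup L) := by
    refine (IsPGroup.map ?_ ι).exists_le_sylow
    refine IsPGroup.of_card (n := 6) ?_
    rw [Nat.card_congr (Subgroup.prodEquiv _ _).toEquiv, Nat.card_prod, card_Q8]; norm_num
  have hS₀' : ∀ q ∈ Q8, ∀ q' ∈ Q8, ι (q, q') ∈ (S₀ : Subgroup L) := fun q hq q' hq' =>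
    hS₀ ⟨(q, q'), ⟨hq, hq'⟩, rfl⟩
  -- the conjugate of `Q8`
  set R : Subgroup SL(2, ZMod 5) := Q8.map (MulAut.conj U).toMonoidHom with hR
  have hR8 : Nat.card R = 8 := (card_map_of_injective (MulAut.conj U).injective).trans card_Q8
  have hRne : R ≠ Q8 := fun h => moved (h ▸ ⟨I, I_mem, rfl⟩)
  obtain ⟨T₀, hT₀⟩ : ∃ T₀ : Sylow 2 L, (Q8.prod R).map ι ≤ (T₀ : Subgroup L) := by
    refine (IsPGroup.map ?_ ι).exists_le_sylow
    refine IsPGroup.of_card (n := 6) ?_
    rw [Nat.card_congr (Subgroup.prodEquiv _ _).toEquiv, Nat.card_prod, card_Q8, hR8]; norm_num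
  have hzc' : c = z := by
    by_contra hne
    have e : S₀ = T₀ := hsm S₀ T₀ c z hc2 hz hne (hzc c) (hmemall hc2 hcL S₀) (hmemall hz hzc S₀)
      (hmemall hc2 hcL T₀) (hmemall hz hzc T₀)
    refine moved (hproj S₀ hS₀' (1, U * I * U⁻¹) ?_).2
    exact e ▸ hT₀ ⟨(1, U * I * U⁻¹), ⟨one_mem _, ⟨I, I_mem, rfl⟩⟩, rfl⟩
  -- the conjugate of `e₁`
  obtain ⟨g₀, hg₀⟩ := MulAction.exists_smul_eq L S₁ S₀
  subst hg₀
  set S := g₀ • S₁ with hS
  set e := g₀ * e₁ * g₀⁻¹ with he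
  have heS : e ∈ (S : Subgroup L) := conj_mem_smul he₁
  have he2 : orderOf e = 2 := (orderOf_conj g₀ e₁).trans he₂
  have hee : e * e = 1 := involution_sq he2
  have hei : e⁻¹ = e := involution_inv he2
  have hez : e ≠ z := fun h => hne₁ (by
    have h' := congrArg (fun w => g₀⁻¹ * w * g₀) h
    simp only [he] at h'
    rw [show g₀⁻¹ * (g₀ * e₁ * g₀⁻¹) * g₀ = e₁ by group, mul_assoc, ← hzc g₀, inv_mul_cancel_left] at h'
    exact h')
  have hecS : ∀ s ∈ (S : Subgroup L), s * e = e * s := by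
    intro s hs
    have h := congrArg (fun w => g₀ * w * g₀⁻¹) (hec _ (mem_smul_sylow.1 hs))
    simpa [he, mul_assoc] using h
  -- the involution on the second factor
  have hψ : ∀ b, ∃ y, e * ι (1, b) * e⁻¹ = ι (1, y) := by
    intro b
    obtain ⟨p, hp⟩ := hsurj _ (hG₁.conj_mem _ (hmemG (1, b)) e)
    have h1 : p.1 = 1 ∨ p.1 = -1 := hcommQ p fun q hq => by
      have hq1 : ι (q, 1) * ι (1, b) = ι (1, b) * ι (q, 1) := by
        rw [← map_mul, ← map_mul, Prod.mk_mul_mk, Prod.mk_mul_mk, one_mul, mul_one, one_mul, mul_one]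
      have hq2 : ι (q, 1) * e = e * ι (q, 1) := hecS _ (hS₀' q hq 1 (one_mem _))
      rw [hp]
      have hq3 : ι (q, 1) * e⁻¹ = e⁻¹ * ι (q, 1) := by rw [hei, hq2]
      calc e * ι (1, b) * e⁻¹ * ι (q, 1) = e * (ι (1, b) * ι (q, 1)) * e⁻¹ := by
            rw [mul_assoc _ e⁻¹, ← hq3]; group
        _ = e * ι (q, 1) * (ι (1, b) * e⁻¹) := by rw [← hq1]; group
        _ = ι (q, 1) * (e * ι (1, b) * e⁻¹) := by rw [← hq2]; group
    rcases h1 with h1 | h1
    · exact ⟨p.2, by rw [← hp, ← h1]⟩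
    · refine ⟨-p.2, ?_⟩
      rw [← hp, ← mul_one (ι (1, -p.2)), ← hιZ, ← map_mul, Prod.mk_mul_mk, one_mul, neg_mul_neg, mul_one, ← h1]
  choose ψ hψ' using hψ
  have hι2 : ∀ {a b : SL(2, ZMod 5)}, ι (1, a) = ι (1, b) → a = b := fun {a b} h => by
    rcases hker ((1, a) * (1, b)⁻¹) (by rw [map_mul, map_inv, h, mul_inv_cancel]) with h1 | h1
    · exact mul_inv_eq_one.1 (congrArg Prod.snd h1)
    · exact absurd (by simpa using congrArg Prod.fst h1) neg_one_ne_one.symm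
  have hψmul : ∀ a b, ψ (a * b) = ψ a * ψ b := fun a b => hι2 (by
    rw [← hψ', show ((1, a * b) : SL(2, ZMod 5) × SL(2, ZMod 5)) = (1, a) * (1, b) by simp, map_mul,
      show ((1, ψ a * ψ b) : SL(2, ZMod 5) × SL(2, ZMod 5)) = (1, ψ a) * (1, ψ b) by simp, map_mul, ← hψ', ← hψ']
    group)
  have hψψ : ∀ a, ψ (ψ a) = a := fun a => hι2 (by
    rw [← hψ', ← hψ', hei, show e * (e * ι (1, a) * e) * e = (e * e) * ι (1, a) * (e * e) by group, hee,
      one_mul, mul_one])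
  let ψe : SL(2, ZMod 5) ≃* SL(2, ZMod 5) :=
    { toFun := ψ, invFun := ψ, left_inv := hψψ, right_inv := hψψ, map_mul' := hψmul }
  have hψQ : ∀ q ∈ Q8, ψ q = q := fun q hq => hι2 (by
    rw [← hψ', ← hecS _ (hS₀' 1 (one_mem _) q hq), mul_inv_cancel_right])
  -- the five Sylow subgroups
  set R' : Subgroup SL(2, ZMod 5) := R.map ψe.toMonoidHom with hR'
  have hR'ne : R' ≠ Q8 := by
    intro h
    refine hRne (eq_of_le_of_card_ge (fun r hr => ?_) (by rw [hR8, card_Q8]))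
    have h1 : ψ r ∈ Q8 := h ▸ ⟨r, hr, rfl⟩
    have h2 := hψQ _ h1
    rw [hψψ] at h2
    exact h2.symm ▸ h1
  have hmk : ∀ P : Subgroup SL(2, ZMod 5), Nat.card P = 8 → ∃ T : Sylow 2 SL(2, ZMod 5), (T : Subgroup _) = P := by
    intro P hP
    obtain ⟨T, hT⟩ := (IsPGroup.of_card (p := 2) (n := 3) (G := P) (by rw [hP]; norm_num)).exists_le_sylow
    refine ⟨T, (eq_of_le_of_card_ge hT ?_).symm⟩
    rw [hP, ← card_Q8]
    exact le_of_eq (T.card_eq_multiplicity.trans sylQ8.card_eq_multiplicity.symm)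
  obtain ⟨TR, hTR⟩ := hmk R hR8
  obtain ⟨TR', hTR'⟩ := hmk R' ((card_map_of_injective ψe.injective).trans hR8)
  have hQR : ∀ q ∈ Q8, q ∈ R → q = 1 ∨ q = -1 := by
    intro q hq hqR
    by_contra hno
    have hqq : q * q = -1 := by
      have kd : ∀ a d : ZMod 5, a * d = 1 → a ≠ 1 → a ≠ 4 → a * a = -1 ∧ d * d = -1 := by decide
      have k4 : ∀ a d : ZMod 5, a * d = 1 → (a = 1 → d = 1) ∧ (a = 4 → d = 4) := by decide
      have hdet := det_entry q
      rcases mem_Q8.1 hq with ⟨h1, h2⟩ | ⟨h1, h2⟩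
      · rw [h1, zero_mul, sub_zero] at hdet
        have hne1 : q 0 0 ≠ 1 := fun e => hno (Or.inl (ext_entry (by simpa using e) (by simpa using h1)
          (by simpa using h2) (by simpa using (k4 _ _ hdet).1 e)))
        have hne4 : q 0 0 ≠ 4 := fun e => hno (Or.inr (ext_entry (by simp [e]; decide) (by simpa using h1)
          (by simpa using h2) (by simp [(k4 _ _ hdet).2 e]; decide)))
        obtain ⟨hA, hB⟩ := kd _ _ hdet hne1 hne4
        refine ext_entry ?_ ?_ ?_ ?_ <;> rw [mul_entry] <;> simp [h1, h2, hA, hB]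
      · rw [h1, h2, zero_mul, zero_sub, neg_eq_iff_eq_neg] at hdet
        refine ext_entry ?_ ?_ ?_ ?_ <;> rw [mul_entry] <;> simp [h1, h2, hdet, mul_comm (q 1 0) (q 0 1)]
    set y := ι (I, q) with hy
    have hyy : y * y = 1 := by rw [hy, ← map_mul, Prod.mk_mul_mk, I_sq, hqq, hιZ]
    have hy1 : y ≠ 1 := fun h => by
      rcases hker _ h with h1 | h1
      · exact I_ne.1 (congrArg Prod.fst h1)
      · exact I_ne.2 (congrArg Prod.fst h1)
    have hyz : y ≠ z := fun h => by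
      rw [← hzc', hcdef, hy] at h
      rcases hker ((I, q) * (-1, 1)⁻¹) (by rw [map_mul, map_inv, h, mul_inv_cancel]) with h1 | h1
      · have h2 := congrArg Prod.fst h1
        simp only [Prod.fst_mul, Prod.fst_inv, Prod.fst_one, mul_inv_eq_one] at h2
        exact I_ne.2 h2
      · have h2 := congrArg Prod.fst h1
        simp only [Prod.fst_mul, Prod.fst_inv, mul_inv_eq_iff_eq_mul, neg_mul_neg, one_mul] at h2
        exact I_ne.1 h2
    have e' : S = T₀ := hsm S T₀ y z (orderOf_eq_two_of hy1 hyy) hz hyz (hzc y)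
      (hS₀' I I_mem q hq) (hmemall hz hzc S) (hT₀ ⟨(I, q), ⟨I_mem, hqR⟩, rfl⟩) (hmemall hz hzc T₀)
    refine moved (hproj S hS₀' (1, U * I * U⁻¹) ?_).2
    exact e' ▸ hT₀ ⟨(1, U * I * U⁻¹), ⟨one_mem _, ⟨I, I_mem, rfl⟩⟩, rfl⟩
  obtain ⟨q, hq, hqR'⟩ : ∃ q ∈ Q8, q • TR = TR' := by
    have h5 : Nat.card (Sylow 2 SL(2, ZMod 5)) ≤ 5 := by
      rw [sylQ8.card_eq_index_normalizer]
      have h := (normalizer (sylQ8 : Set SL(2, ZMod 5))).card_mul_index
      rw [card_SL25] at h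
      have h24 : 24 ≤ Nat.card (normalizer (sylQ8 : Set SL(2, ZMod 5))) := card_normalizer_Q8
      by_contra hlt
      have := Nat.mul_le_mul h24 (Nat.succ_le_of_lt (not_le.1 hlt))
      rw [h] at this
      omega
    by_contra hno
    push Not at hno
    -- the orbit has four elements and avoids two
    set O := MulAction.orbit Q8 TR with hO
    have hO4 : 4 ≤ Nat.card O := by
      have h := (MulAction.stabilizer Q8 TR).card_mul_index
      rw [MulAction.index_stabilizer, card_Q8] at h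
      have hst : Nat.card (MulAction.stabilizer Q8 TR) ≤ 2 := by
        refine (Nat.card_le_card_of_injective (α := MulAction.stabilizer Q8 TR) (β := {q : SL(2, ZMod 5) // q = 1 ∨ q = -1})
          (fun s => ⟨(s.1 : SL(2, ZMod 5)), hQR _ (s : Q8).2 ?_⟩) (fun s t h => ?_)).trans ?_
        · have hs : ((s : Q8) : SL(2, ZMod 5)) • TR = TR := MulAction.mem_stabilizer_iff.1 s.2
          have hp : IsPGroup 2 (zpowers ((s : Q8) : SL(2, ZMod 5))) :=
            isPGroup_Q8.to_le (zpowers_le.2 (s : Q8).2)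
          have h' : ((s : Q8) : SL(2, ZMod 5)) ∈ zpowers ((s : Q8) : SL(2, ZMod 5)) ⊓
              normalizer (TR : Set SL(2, ZMod 5)) := ⟨mem_zpowers _, Sylow.smul_eq_iff_mem_normalizer.1 hs⟩
          rw [hp.inf_normalizer_sylow TR] at h'
          exact hTR ▸ h'.2
        · exact Subtype.ext (Subtype.ext (Subtype.mk.inj h))
        · refine (Nat.card_le_card_of_surjective (fun b : Bool => (bif b then ⟨1, Or.inl rfl⟩ else ⟨-1, Or.inr rfl⟩ :
            {q : SL(2, ZMod 5) // q = 1 ∨ q = -1})) fun w => ?_).trans (le_of_eq (by simp))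
          rcases w.2 with hw | hw
          · exact ⟨true, Subtype.ext hw.symm⟩
          · exact ⟨false, Subtype.ext hw.symm⟩
      change Nat.card (MulAction.stabilizer Q8 TR) * Nat.card O = 8 at h
      by_contra hlt
      have := Nat.mul_le_mul hst (Nat.le_of_lt_succ (not_le.1 hlt))
      omega
    let g : O ⊕ Bool → Sylow 2 SL(2, ZMod 5) := Sum.elim Subtype.val fun b => bif b then sylQ8 else TR'
    have hg : Function.Injective g := by
      have h1 : ∀ (o : O), (o : Sylow 2 SL(2, ZMod 5)) ≠ sylQ8 := by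
        rintro ⟨_, ⟨q, rfl⟩⟩ h
        have h' : ((q : SL(2, ZMod 5))) • TR = sylQ8 := h
        have hq' : (q : SL(2, ZMod 5)) • sylQ8 = sylQ8 :=
          Sylow.smul_eq_iff_mem_normalizer.2 (le_normalizer q.2)
        have h3 : TR = sylQ8 := smul_left_cancel _ (h'.trans hq'.symm)
        exact hRne (hTR.symm.trans (congrArg (fun T : Sylow 2 SL(2, ZMod 5) => (T : Subgroup SL(2, ZMod 5))) h3))
      have h2 : ∀ (o : O), (o : Sylow 2 SL(2, ZMod 5)) ≠ TR' := by
        rintro ⟨_, ⟨q, rfl⟩⟩ h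
        exact hno q q.2 h
      have h3 : sylQ8 ≠ TR' := fun h =>
        hR'ne (hTR'.symm.trans (congrArg (fun T : Sylow 2 SL(2, ZMod 5) => (T : Subgroup SL(2, ZMod 5))) h.symm))
      rintro (a | ⟨⟩ | ⟨⟩) (b | ⟨⟩ | ⟨⟩) hab <;>
        first
          | rfl
          | exact congrArg Sum.inl (Subtype.ext hab)
          | exact absurd hab (h1 _)
          | exact absurd hab.symm (h1 _)
          | exact absurd hab (h2 _)
          | exact absurd hab.symm (h2 _)
          | exact absurd hab h3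
          | exact absurd hab.symm h3
    have := (Nat.card_le_card_of_injective g hg).trans h5
    rw [Nat.card_sum, Nat.card_eq_fintype_card (α := Bool), Fintype.card_bool] at this
    omega
  -- the corrected involution
  set v := ι (1, q) with hv
  set u := v⁻¹ * e with hu
  have hvS : v ∈ (S : Subgroup L) := hS₀' 1 (one_mem _) q hq
  have huS : u ∈ (S : Subgroup L) := mul_mem (inv_mem hvS) heS
  have hve : v * e = e * v := hecS v hvS
  have huR : ∀ r ∈ R, ∃ r' ∈ R, u * ι (1, r) * u⁻¹ = ι (1, r') := by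
    intro r hr
    have h1 : ψ r ∈ (TR' : Subgroup SL(2, ZMod 5)) := hTR'.symm ▸ ⟨r, hr, rfl⟩
    rw [← hqR', mem_smul_sylow] at h1
    refine ⟨q⁻¹ * ψ r * q, hTR ▸ h1, ?_⟩
    rw [hu, show v⁻¹ * e * ι (1, r) * (v⁻¹ * e)⁻¹ = v⁻¹ * (e * ι (1, r) * e⁻¹) * v by group, hψ', hv,
      ← map_inv, ← map_mul, ← map_mul, Prod.inv_mk, Prod.mk_mul_mk, Prod.mk_mul_mk]
    simp
  have huQ : ∀ a ∈ Q8, u * ι (a, 1) * u⁻¹ = ι (a, 1) := by
    intro a ha
    have h2 := hecS _ (hS₀' a ha 1 (one_mem _))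
    rw [hu, show v⁻¹ * e * ι (a, 1) * (v⁻¹ * e)⁻¹ = v⁻¹ * (e * ι (a, 1) * e⁻¹) * v by group, ← h2,
      mul_inv_cancel_right, hv, ← map_inv, ← map_mul, ← map_mul, Prod.inv_mk, Prod.mk_mul_mk, Prod.mk_mul_mk]
    simp
  set P := (Q8.prod R).map ι with hP
  have huN : zpowers u ≤ normalizer (P : Set L) := by
    rw [zpowers_le, mem_normalizer_iff]
    have hle : P.map (MulAut.conj u).toMonoidHom ≤ P := by
      rintro _ ⟨_, ⟨⟨a, r⟩, ⟨ha, hr⟩, rfl⟩, rfl⟩
      obtain ⟨r', hr', he'⟩ := huR r hr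
      refine ⟨(a, r'), ⟨ha, hr'⟩, ?_⟩
      rw [MulEquiv.coe_toMonoidHom, MulAut.conj_apply,
        show ((a, r) : SL(2, ZMod 5) × SL(2, ZMod 5)) = (a, 1) * (1, r) by simp, map_mul,
        show u * (ι (a, 1) * ι (1, r)) * u⁻¹ = (u * ι (a, 1) * u⁻¹) * (u * ι (1, r) * u⁻¹) by group,
        huQ a ha, he', ← map_mul]
      simp
    have heq := eq_of_le_of_card_ge hle (le_of_eq (card_map_of_injective (MulAut.conj u).injective).symm)
    intro x
    constructor
    · intro hx; exact hle ⟨x, hx, rfl⟩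
    · intro hx
      rw [← heq] at hx
      obtain ⟨y, hy, e'⟩ := hx
      simp only [MulEquiv.coe_toMonoidHom, MulAut.conj_apply] at e'
      rwa [← mul_left_cancel (mul_right_cancel e')]
  have hPp : IsPGroup 2 P := T₀.isPGroup'.to_le hT₀
  obtain ⟨T, hT⟩ := (IsPGroup.to_sup_of_normal_right' (S.isPGroup'.to_le (zpowers_le.2 huS)) hPp huN).exists_le_sylow
  have huT : u ∈ (T : Subgroup L) := hT (mem_sup_left (mem_zpowers u))
  have hTne : T ≠ S := fun h => moved (hproj S hS₀' (1, U * I * U⁻¹)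
    (h ▸ hT (mem_sup_right ⟨(1, U * I * U⁻¹), ⟨one_mem _, ⟨I, I_mem, rfl⟩⟩, rfl⟩))).2
  have hsingle : ∀ x : L, x * x = 1 → x ≠ 1 → x ≠ z → x ∈ (S : Subgroup L) → x ∈ (T : Subgroup L) → False :=
    fun x hx hx1 hxz hxS hxT => hTne (hsm T S x z (orderOf_eq_two_of hx1 hx) hz hxz (hzc x) hxT
      (hmemall hz hzc T) hxS (hmemall hz hzc S))
  -- `e` is no image of `Q8 × Q8`
  have hnot : ∀ a ∈ Q8, ∀ b ∈ Q8, e ≠ ι (a, b) := by
    intro a ha b hb h
    rcases hcases (a, b)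
      (hcommQ (a, b) fun r hr => by rw [← h]; exact (hecS _ (hS₀' r hr 1 (one_mem _))).symm)
      (hcommQ' (a, b) fun r hr => by rw [← h]; exact (hecS _ (hS₀' 1 (one_mem _) r hr)).symm) with h1 | h1
    · exact involution_ne_one he2 (h.trans h1)
    · exact hez ((h.trans h1).trans hzc')
  have hu1 : ∀ w ∈ Q8, ∀ x : L, (x = 1 ∨ x = z) → u * ι (w, 1) ≠ x := by
    intro w hw x hx h
    obtain ⟨p, hp⟩ : ∃ p : SL(2, ZMod 5), p ∈ Q8 ∧ x = ι (p, 1) := by
      rcases hx with rfl | rfl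
      · exact ⟨1, one_mem _, (map_one ι).symm⟩
      · exact ⟨-1, Or.inl ⟨by simp, by simp⟩, hzc'.symm.trans rfl⟩
    refine hnot (p * w⁻¹) (mul_mem hp.1 (inv_mem hw)) q hq ?_
    rw [hu, hp.2] at h
    calc e = v * (v⁻¹ * e * ι (w, 1)) * (ι (w, 1))⁻¹ := by group
      _ = v * ι (p, 1) * (ι (w, 1))⁻¹ := by rw [h]
      _ = _ := by rw [hv, ← map_inv, ← map_mul, ← map_mul]; simp
  have hu0 : u ≠ 1 := fun h => hu1 1 (one_mem _) 1 (Or.inl rfl) (by rw [Prod.mk_one_one, map_one, mul_one]; exact h)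
  have huz : u ≠ z := fun h => hu1 1 (one_mem _) z (Or.inr rfl) (by rw [Prod.mk_one_one, map_one, mul_one]; exact h)
  have huu : u * u = v⁻¹ * v⁻¹ := by
    rw [hu, show v⁻¹ * e * (v⁻¹ * e) = v⁻¹ * (e * v⁻¹) * e by group,
      show e * v⁻¹ = v⁻¹ * e from (Commute.inv_left (show Commute v e from hve)).eq.symm, mul_assoc, mul_assoc,
      hee, mul_one]
  have hqcases : q * q = 1 ∨ q * q = -1 := by
    have kd : ∀ a d : ZMod 5, a * d = 1 → (a * a = 1 ∧ d * d = 1) ∨ (a * a = -1 ∧ d * d = -1) := by decide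
    have hdet := det_entry q
    rcases mem_Q8.1 hq with ⟨h1, h2⟩ | ⟨h1, h2⟩
    · rw [h1, zero_mul, sub_zero] at hdet
      rcases kd _ _ hdet with ⟨hA, hB⟩ | ⟨hA, hB⟩
      · exact Or.inl (by refine ext_entry ?_ ?_ ?_ ?_ <;> rw [mul_entry] <;> simp [h1, h2, hA, hB])
      · exact Or.inr (by refine ext_entry ?_ ?_ ?_ ?_ <;> rw [mul_entry] <;> simp [h1, h2, hA, hB])
    · rw [h1, h2, zero_mul, zero_sub, neg_eq_iff_eq_neg] at hdet
      exact Or.inr (by
        refine ext_entry ?_ ?_ ?_ ?_ <;> rw [mul_entry] <;> simp [h1, h2, hdet, mul_comm (q 1 0) (q 0 1)])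
  have hv2 : v⁻¹ * v⁻¹ = (ι (1, q * q))⁻¹ := by
    rw [← mul_inv_rev, hv, ← map_mul]; simp
  rcases hqcases with hq2 | hq2
  · exact hsingle u (by rw [huu, hv2, hq2, Prod.mk_one_one, map_one, inv_one]) hu0 huz huS huT
  · have hsq : u * u = z := by
      rw [huu, hv2, hq2, ← hzc', inv_eq_iff_mul_eq_one, hcdef, ← map_mul, Prod.mk_mul_mk, one_mul, mul_one, hιZ]
    have hua : u * ι (I, 1) = ι (I, 1) * u := mul_inv_eq_iff_eq_mul.1 (huQ I I_mem)
    refine hsingle (u * ι (I, 1)) ?_ (hu1 I I_mem 1 (Or.inl rfl)) (hu1 I I_mem z (Or.inr rfl))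
      (mul_mem huS (hS₀' I I_mem 1 (one_mem _))) (mul_mem huT (hT (mem_sup_right ⟨(I, 1), ⟨I_mem, one_mem _⟩, rfl⟩)))
    rw [show u * ι (I, 1) * (u * ι (I, 1)) = u * (ι (I, 1) * u) * ι (I, 1) by group, ← hua,
      show u * (u * ι (I, 1)) * ι (I, 1) = (u * u) * (ι (I, 1) * ι (I, 1)) by group, hsq, ← map_mul, ← hzc',
      hcdef, ← map_mul, Prod.mk_mul_mk, Prod.mk_mul_mk, I_sq, neg_mul_neg, mul_one, mul_one]
    exact map_one ι

end CfsgLib.CentralInter
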