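import Cfsg.Agent.Lib.Recog.CentralIntersections.Multi
import Cfsg.Agent.Lib.Recog.CentralIntersections.Linear

/-!
Owner: helper16. S3185: the normaliser of `S` is transitive on the central involutions, and there are seven of them.

* `cenGroup hG S`: the identity with the central involutions.
* `MultiData.card_cenGroup`, `MultiData.torus`: twice `q`, and the elements fixing `z`.
* `MultiData.fused`, `MultiData.q_eq_four`.
-/

set_option autoImplicit false
set_option linter.style.haveILetI false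
set_option linter.unusedSectionVars false

namespace CfsgLib.CentralInter

open Subgroup
open CfsgLib.Signalizer (involution_sq involution_inv involution_ne_one orderOf_eq_two_of orderOf_conj)
open CfsgLib.CentralMeet (mem_smul_sylow conj_mem_smul)

universe u

variable {G : Type u} [Group G] [Finite G]

/-- The identity with the central involutions of `S`. -/
def cenGroup (hG : Herz G) (S : Sylow 2 G) : Subgroup G where
  carrier := {x | x = 1 ∨ Cen S x}
  one_mem' := Or.inl rfl
  mul_mem' := by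
    intro a b ha hb
    rcases ha with rfl | ha
    · rwa [one_mul]
    rcases hb with rfl | hb
    · rw [mul_one]; exact Or.inr ha
    by_cases hab : a = b
    · subst hab; exact Or.inl (involution_sq hb.2.1)
    · exact Or.inr (hG.cen_mul ha hb hab)
  inv_mem' := by
    intro a ha
    rcases ha with rfl | ha
    · exact Or.inl inv_one
    · exact Or.inr (by rw [involution_inv ha.2.1]; exact ha)

theorem cenGroup_le (hG : Herz G) (S : Sylow 2 G) : cenGroup hG S ≤ (S : Subgroup G) := by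
  rintro x (rfl | hx)
  exacts [one_mem _, hx.1]

theorem cenGroup_sq (hG : Herz G) {S : Sylow 2 G} {x : G} (hx : x ∈ cenGroup hG S) : x * x = 1 := by
  rcases hx with rfl | hx
  exacts [one_mul 1, involution_sq hx.2.1]

theorem cenGroup_central (hG : Herz G) {S : Sylow 2 G} {x : G} (hx : x ∈ cenGroup hG S) :
    ∀ s ∈ (S : Subgroup G), s * x = x * s := by
  rcases hx with rfl | hx
  exacts [fun s _ => (mul_one s).trans (one_mul s).symm, hx.2.2]

theorem Cen.conj_normalizer {S : Sylow 2 G} {z n : G} (h : Cen S z)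
    (hn : n ∈ normalizer ((S : Subgroup G) : Set G)) : Cen S (n * z * n⁻¹) := by
  have := h.conj n
  rwa [Sylow.smul_eq_iff_mem_normalizer.2 hn] at this

namespace MultiData

variable {S : Sylow 2 G} {z : G} (h : MultiData S z) {q : ℕ} {M : Subgroup (Lz z)}
include h

/-- The map of the central involutions into the quotient modulo `O₂`. -/
theorem exists_psi (hG : Herz G) [(Cfsg.pCore 2 (Lz z)).Normal] (hL : Line (pr z (zC z)) h.sylL q M) :
    ∃ ψ : ↥(cenGroup hG S) →* Lz z ⧸ Cfsg.pCore 2 (Lz z),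
      (∀ x, ψ x = QuotientGroup.mk' _ (pr z ⟨x, h.mem_C (cenGroup_le hG S x.2)⟩)) ∧
      (∀ x, ψ x = 1 → (x : G) = 1 ∨ (x : G) = z) ∧ Nat.card ψ.range = q ∧
      ∃ c ∈ normalizer ((S : Subgroup G) : Set G), c * z * c⁻¹ = z ∧
        ∀ x y, ψ x ≠ 1 → ψ y ≠ 1 → ∃ i : ℕ, ∃ hx : c ^ i * (x : G) * (c ^ i)⁻¹ ∈ cenGroup hG S,
          ψ ⟨_, hx⟩ = ψ y := by
  classical
  haveI := Fact.mk Nat.prime_two
  set W := Cfsg.pCore 2 (Lz z) with hW
  set inc : ↥(cenGroup hG S) →* ↥(Cz z) :=
    { toFun := fun x => ⟨x, h.mem_C (cenGroup_le hG S x.2)⟩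
      map_one' := Subtype.ext rfl
      map_mul' := fun x y => Subtype.ext rfl }
  set ψ : ↥(cenGroup hG S) →* Lz z ⧸ W := (QuotientGroup.mk' W).comp ((pr z).comp inc) with hψ
  have hψM : ∀ x, pr z (inc x) ∈ M := fun x => (hL.sq_iff _ (h.mem_sylL (s := inc x) (cenGroup_le hG S x.2))).1 (by
    rw [← map_mul, show inc x * inc x = 1 from Subtype.ext (cenGroup_sq hG x.2), map_one]
    exact one_mem _)
  have hker : ∀ x, ψ x = 1 → (x : G) = 1 ∨ (x : G) = z := by
    intro x hx
    rcases hL.core_sq _ ((QuotientGroup.eq_one_iff _).1 hx) (by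
      rw [← map_mul, show x * x = 1 from Subtype.ext (cenGroup_sq hG x.2), map_one]) with h1 | h1
    · exact Or.inl (congrArg Subtype.val (h.inj (s := inc x) (t := 1) (cenGroup_le hG S x.2) (one_mem _)
        (h1.trans (map_one _).symm)))
    · exact Or.inr (congrArg Subtype.val (h.inj (s := inc x) (t := zC z) (cenGroup_le hG S x.2) h.cen.1 h1))
  obtain ⟨g, hgodd, hgS, hgtr⟩ := hL.torus
  obtain ⟨c, hc⟩ := QuotientGroup.mk'_surjective (Cfsg.oddCore ↥(Cz z)) g
  have hc' : pr z c = g := hc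
  have hcN : (c : G) ∈ normalizer ((S : Subgroup G) : Set G) := h.mem_normalizer_of_pr (hc'.symm ▸ hgS)
  have hconjmem : ∀ (i : ℕ) {x : G}, x ∈ cenGroup hG S → (c : G) ^ i * x * ((c : G) ^ i)⁻¹ ∈ cenGroup hG S := by
    intro i x hx
    rcases hx with rfl | hx
    · rw [mul_one, mul_inv_cancel]; exact one_mem _
    · exact Or.inr (hx.conj_normalizer (pow_mem hcN i))
  obtain ⟨x₀, hx₀⟩ : ∃ x₀ : ↥(cenGroup hG S), ψ x₀ ≠ 1 := by
    obtain ⟨a, b, ha, hb, hab⟩ := hG.exists_two_cen S
    by_contra hno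
    push Not at hno
    have ha' := (hker ⟨a, Or.inr ha⟩ (hno _)).resolve_left (involution_ne_one ha.2.1)
    have hb' := (hker ⟨b, Or.inr hb⟩ (hno _)).resolve_left (involution_ne_one hb.2.1)
    exact hab (hb'.trans ha'.symm)
  have hmove : ∀ (x : ↥(cenGroup hG S)) (m : Lz z), ψ x ≠ 1 → m ∈ M → m ∉ W →
      ∃ i : ℕ, ψ ⟨_, hconjmem i x.2⟩ = QuotientGroup.mk' W m := by
    intro x m hx hm hmW
    obtain ⟨i, hi⟩ := hgtr _ (hψM x) (fun hW' => hx ((QuotientGroup.eq_one_iff _).2 hW')) m hm hmW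
    refine ⟨i, ?_⟩
    refine QuotientGroup.eq.2 ?_
    show (pr z (inc ⟨_, hconjmem i x.2⟩))⁻¹ * m ∈ W
    rw [show inc ⟨_, hconjmem i x.2⟩ = c ^ i * inc x * (c ^ i)⁻¹ from Subtype.ext (by simp [inc]), map_mul, map_mul,
      map_inv, map_pow, hc']
    exact hi
  have hrange : ψ.range = M.map (QuotientGroup.mk' W) := by
    refine le_antisymm ?_ ?_
    · rintro _ ⟨x, rfl⟩
      exact ⟨_, hψM x, rfl⟩
    · rintro _ ⟨m, hm, rfl⟩
      by_cases hmW : m ∈ W
      · exact ⟨1, by rw [map_one]; exact ((QuotientGroup.eq_one_iff m).2 hmW).symm⟩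
      · obtain ⟨i, hi⟩ := hmove x₀ m hx₀ hm hmW
        exact ⟨_, hi⟩
  refine ⟨ψ, fun x => rfl, hker, ?_, c, hcN, ?_, fun x y hx hy => ?_⟩
  · rw [hrange]
    have h1 := card_comap_mk (M.map (QuotientGroup.mk' W))
    rw [comap_map_eq_self (by rw [QuotientGroup.ker_mk']; exact hL.core_le_M), hL.card] at h1
    exact (Nat.eq_of_mul_eq_mul_right Nat.card_pos h1).symm
  · rw [mem_centralizer_singleton_iff.1 c.2, mul_inv_cancel_right]
  · obtain ⟨i, hi⟩ := hmove x (pr z (inc y)) hx (hψM y) (fun hW' => hy ((QuotientGroup.eq_one_iff _).2 hW'))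
    exact ⟨i, hconjmem i x.2, hi⟩

theorem card_cenGroup (hG : Herz G) (hL : Line (pr z (zC z)) h.sylL q M) :
    Nat.card ↥(cenGroup hG S) = q * 2 := by
  classical
  haveI : (Cfsg.pCore 2 (Lz z)).Normal := CfsgLib.HallGen.pCore_normal' 2
  obtain ⟨ψ, hψe, hker, hrange, -⟩ := h.exists_psi hG hL
  have h1 := ψ.ker.card_eq_card_quotient_mul_card_subgroup
  rw [Nat.card_congr (QuotientGroup.quotientKerEquivRange ψ).toEquiv, hrange] at h1
  rw [h1]
  congr 1
  have hzk : (⟨z, Or.inr h.cen⟩ : ↥(cenGroup hG S)) ∈ ψ.ker := by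
    rw [MonoidHom.mem_ker, hψe]
    exact (QuotientGroup.eq_one_iff _).2 hL.z_mem
  refine le_antisymm ?_ ?_
  · refine (Nat.card_le_card_of_injective (fun x : ψ.ker => decide (((x : ↥(cenGroup hG S)) : G) = 1))
      fun a b hab => Subtype.ext (Subtype.ext ?_)).trans (le_of_eq (by simp))
    simp only [decide_eq_decide] at hab
    rcases hker _ a.2 with ha | ha <;> rcases hker _ b.2 with hb | hb <;>
      first
        | exact ha.trans hb.symm
        | (exfalso; simp [ha, hb, involution_ne_one h.cen.2.1] at hab)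
  · haveI : Nontrivial ψ.ker := ⟨⟨⟨_, hzk⟩, 1, fun e =>
      involution_ne_one h.cen.2.1 (congrArg (fun w : ψ.ker => ((w : ↥(cenGroup hG S)) : G)) e)⟩⟩
    exact Finite.one_lt_card

/-- The elements of `N(S)` fixing `z` are transitive on the other central involutions modulo `z`. -/
theorem torus (hG : Herz G) (hL : Line (pr z (zC z)) h.sylL q M) {e f : G} (he : Cen S e) (hf : Cen S f)
    (hez : e ≠ z) (hfz : f ≠ z) : ∃ n ∈ normalizer ((S : Subgroup G) : Set G), n * z * n⁻¹ = z ∧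
      (n * e * n⁻¹ = f ∨ n * e * n⁻¹ = f * z) := by
  haveI : (Cfsg.pCore 2 (Lz z)).Normal := CfsgLib.HallGen.pCore_normal' 2
  obtain ⟨ψ, hψe, hker, -, c, hcN, hcz, htr⟩ := h.exists_psi hG hL
  obtain ⟨i, hx, hi⟩ := htr ⟨e, Or.inr he⟩ ⟨f, Or.inr hf⟩
    (fun h1 => (hker _ h1).elim (involution_ne_one he.2.1) hez)
    (fun h1 => (hker _ h1).elim (involution_ne_one hf.2.1) hfz)
  refine ⟨c ^ i, pow_mem hcN i, ?_, ?_⟩
  · have hcc : Commute c z := mul_inv_eq_iff_eq_mul.1 hcz
    rw [(hcc.pow_left i).eq, mul_inv_cancel_right]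
  · have h1 : ψ ((⟨f, Or.inr hf⟩ : ↥(cenGroup hG S))⁻¹ * ⟨_, hx⟩) = 1 := by
      rw [map_mul, map_inv, hi, inv_mul_cancel]
    rcases hker _ h1 with h2 | h2
    · exact Or.inl (inv_mul_eq_one.1 h2).symm
    · exact Or.inr (inv_mul_eq_iff_eq_mul.1 h2)

theorem fused (hG : Herz G) {e : G} (he : Cen S e) :
    ∃ n ∈ normalizer ((S : Subgroup G) : Set G), n * z * n⁻¹ = e := by
  classical
  haveI := Fact.mk Nat.prime_two
  obtain ⟨q, M, hL⟩ := h.exists_line hG
  set N := normalizer ((S : Subgroup G) : Set G) with hN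
  set A : Set G := {e | ∃ n ∈ N, n * z * n⁻¹ = e} with hA
  have hAcen : ∀ a ∈ A, Cen S a := by
    rintro _ ⟨n, hn, rfl⟩
    exact h.cen.conj_normalizer hn
  have hzA : z ∈ A := ⟨1, one_mem _, by group⟩
  have hAinv : ∀ n ∈ N, n * z * n⁻¹ = z → ∀ a ∈ A, n * a * n⁻¹ ∈ A := by
    rintro n hn - _ ⟨m, hm, rfl⟩
    exact ⟨n * m, mul_mem hn hm, by group⟩
  -- the orbit has odd size
  have hAodd : Odd (Nat.card A) := by
    letI : MulAction ↥N G := MulAction.compHom G ((MulAut.conj : G →* MulAut G).comp N.subtype)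
    have hsm : ∀ (n : ↥N) (x : G), n • x = (n : G) * x * (n : G)⁻¹ := fun n x => rfl
    have hAo : A = MulAction.orbit ↥N z := Set.ext fun a =>
      ⟨fun ⟨n, hn, e'⟩ => ⟨⟨n, hn⟩, (hsm _ _).trans e'⟩, fun ⟨n, e'⟩ => ⟨n, n.2, (hsm n z).symm.trans e'⟩⟩
    rw [hAo, Nat.card_coe_set_eq, ← MulAction.index_stabilizer]
    have hle : (S : Subgroup G).subgroupOf N ≤ MulAction.stabilizer ↥N z := fun s hs => by
      rw [MulAction.mem_stabilizer_iff, hsm, h.cen.2.2 _ (mem_subgroupOf.1 hs), mul_inv_cancel_right]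
    refine Odd.of_dvd_nat ?_ (index_dvd_of_le hle)
    rw [← Nat.not_even_iff_odd, even_iff_two_dvd]
    exact (S.subtype (le_normalizer : (S : Subgroup G) ≤ N)).not_dvd_index
  by_contra hno
  have heA : e ∉ A := hno
  have hez : e ≠ z := fun h1 => heA (h1 ▸ hzA)
  have hmz : ∀ {a : G}, Cen S a → a * z * z = a := fun {a} _ => by rw [mul_assoc, involution_sq h.cen.2.1, mul_one]
  have hmulne : ∀ {a : G}, Cen S a → a * z ≠ z := fun {a} ha h1 => involution_ne_one ha.2.1 (mul_eq_right.1 h1)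
  -- no pair lies in the orbit
  have hpair : ∀ a, Cen S a → a ≠ z → a ∈ A → a * z ∉ A := by
    intro a ha haz hmem hmem'
    obtain ⟨n, hn, hnz, hc⟩ := h.torus hG hL ha he haz hez
    have h1 := hAinv n hn hnz a hmem
    have h2 := hAinv n hn hnz _ hmem'
    have h3 : n * (a * z) * n⁻¹ = n * a * n⁻¹ * z := by
      conv_rhs => rw [← hnz]
      group
    rcases hc with h4 | h4
    · exact heA (h4 ▸ h1)
    · rw [h3, h4, hmz he] at h2
      exact heA h2
  -- the orbit is not `z` alone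
  obtain ⟨a, ha, haA, haz⟩ : ∃ a, Cen S a ∧ a ∈ A ∧ a ≠ z := by
    by_contra hno'
    push Not at hno'
    have hiso : ∀ g : G, g * z * g⁻¹ ∈ (S : Subgroup G) → g * z * g⁻¹ = z := fun g hg => by
      have hc := hG.conj_cen h.cen hg
      obtain ⟨n, hn, e'⟩ := Herz.fusion h.cen hc
      exact hno' _ hc ⟨n, hn, e'.symm⟩
    have h1 := CfsgLib.ZStar.mem_oddCore_of_sylow S h.cen.2.1 h.cen.1 hiso
    refine hG.centralizer_ne_top (involution_ne_one h.cen.2.1) (eq_top_iff.2 fun g _ => ?_)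
    have h2 := h1 g
    rw [hG.oddCore_eq_bot, mem_bot, mul_inv_eq_one, mul_inv_eq_iff_eq_mul] at h2
    exact mem_centralizer_singleton_iff.2 h2.symm
  -- hence the orbit has `q` elements
  haveI : (Cfsg.pCore 2 (Lz z)).Normal := CfsgLib.HallGen.pCore_normal' 2
  obtain ⟨ψ, hψe, hker, hrange, -⟩ := h.exists_psi hG hL
  have hqA : q = Nat.card A := by
    rw [← hrange]
    symm
    refine Nat.card_eq_of_bijective (fun a : A => ⟨ψ ⟨a, Or.inr (hAcen a a.2)⟩, _, rfl⟩) ⟨fun x y hxy => ?_, ?_⟩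
    · have hxy' : ψ ⟨(x : G), Or.inr (hAcen x x.2)⟩ = ψ ⟨(y : G), Or.inr (hAcen y y.2)⟩ := congrArg Subtype.val hxy
      have h1 : ψ ((⟨x, Or.inr (hAcen x x.2)⟩ : ↥(cenGroup hG S))⁻¹ * ⟨y, Or.inr (hAcen y y.2)⟩) = 1 := by
        rw [map_mul, map_inv, hxy', inv_mul_cancel]
      rcases hker _ h1 with h2 | h2
      · exact Subtype.ext (inv_mul_eq_one.1 h2)
      · exfalso
        have h3 : (y : G) = (x : G) * z := inv_mul_eq_iff_eq_mul.1 h2
        by_cases hxz : (x : G) = z
        · rw [hxz, involution_sq h.cen.2.1] at h3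
          exact involution_ne_one (hAcen y y.2).2.1 h3
        · exact hpair x (hAcen x x.2) hxz x.2 (h3 ▸ y.2)
    · rintro ⟨_, ⟨w, rfl⟩⟩
      by_cases hw : ψ w = 1
      · refine ⟨⟨z, hzA⟩, Subtype.ext ?_⟩
        show ψ _ = ψ w
        rw [hw, hψe]
        exact (QuotientGroup.eq_one_iff _).2 hL.z_mem
      have hwc : Cen S (w : G) := w.2.resolve_left fun h1 => hw (by
        rw [show w = 1 from Subtype.ext h1, map_one])
      have hwz : (w : G) ≠ z := fun h1 => hw (by
        rw [hψe]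
        refine (QuotientGroup.eq_one_iff _).2 ?_
        convert hL.z_mem using 3
        exact h1)
      obtain ⟨n, hn, hnz, hc⟩ := h.torus hG hL ha hwc haz hwz
      refine ⟨⟨_, hAinv n hn hnz a haA⟩, Subtype.ext ?_⟩
      show ψ _ = ψ w
      rcases hc with hc | hc
      · exact congrArg ψ (Subtype.ext hc)
      · rw [← mul_one (ψ w), ← show ψ ⟨z, Or.inr h.cen⟩ = 1 from (hψe _).trans ((QuotientGroup.eq_one_iff _).2 hL.z_mem),
          ← map_mul]
        exact congrArg ψ (Subtype.ext hc)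
  obtain ⟨n, hn, hqn⟩ := hL.pow
  rw [← hqA, hqn] at hAodd
  exact Nat.not_even_iff_odd.2 hAodd (Nat.even_pow.2 ⟨even_two, by omega⟩)

theorem q_eq_four (hG : Herz G) (hL : Line (pr z (zC z)) h.sylL q M) : q = 4 := by
  classical
  haveI := Fact.mk Nat.prime_two
  obtain ⟨n, hn, hq⟩ := hL.pow
  have hcard : Nat.card ↥(cenGroup hG S) = 2 ^ (n + 1) := by rw [h.card_cenGroup hG hL, hq, pow_succ]
  set E := cenGroup hG S with hE
  haveI : IsMulCommutative ↥E := ⟨⟨fun a b => Subtype.ext (cenGroup_central hG b.2 _ (cenGroup_le hG S a.2))⟩⟩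
  letI : CommGroup ↥E := { (inferInstance : Group ↥E) with mul_comm := fun a b => mul_comm' a b }
  set N := normalizer ((S : Subgroup G) : Set G) with hN
  have hconj : ∀ m ∈ N, ∀ x ∈ E, m * x * m⁻¹ ∈ E := fun m hm x hx => by
    rcases hx with rfl | hx
    · rw [mul_one, mul_inv_cancel]; exact one_mem _
    · exact Or.inr (hx.conj_normalizer hm)
  let endo : ↥N → AddMonoid.End (Additive ↥E) := fun m =>
    { toFun := fun x => Additive.ofMul ⟨(m : G) * (Additive.toMul x : ↥E) * (m : G)⁻¹,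
        hconj m m.2 _ (Additive.toMul x).2⟩
      map_zero' := congrArg Additive.ofMul (Subtype.ext (by simp))
      map_add' := fun x y => congrArg Additive.ofMul (Subtype.ext (by simp [mul_assoc])) }
  let endoHom : ↥N →* AddMonoid.End (Additive ↥E) :=
    { toFun := endo
      map_one' := AddMonoidHom.ext fun x => congrArg Additive.ofMul (Subtype.ext (by simp; rfl))
      map_mul' := fun a b => AddMonoidHom.ext fun x => congrArg Additive.ofMul (Subtype.ext (by
        show ((a * b : ↥N) : G) * _ * ((a * b : ↥N) : G)⁻¹ =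
          (a : G) * ((b : G) * _ * (b : G)⁻¹) * (a : G)⁻¹
        rw [Subgroup.coe_mul]
        group)) }
  let φ : ↥N →* (AddMonoid.End (Additive ↥E))ˣ := endoHom.toHomUnits
  haveI : Group.IsSolvable ↥N := by
    haveI : ((S : Subgroup G).subgroupOf N).Normal := Subgroup.normal_in_normalizer
    haveI : Group.IsNilpotent ↥((S : Subgroup G).subgroupOf N) :=
      (S.isPGroup'.comap_of_injective N.subtype N.subtype_injective).isNilpotent
    haveI : Group.IsSolvable (↥N ⧸ (S : Subgroup G).subgroupOf N) := by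
      refine CfsgLib.OddLocal.FTFinal.odd_order_solvable ?_
      rw [← Subgroup.index_eq_card, ← Nat.not_even_iff_odd, even_iff_two_dvd]
      exact (S.subtype (le_normalizer : (S : Subgroup G) ≤ N)).not_dvd_index
    exact (Group.isSolvable_iff_subgroup_quotient ((S : Subgroup G).subgroupOf N)).2 ⟨inferInstance, inferInstance⟩
  haveI : Group.IsSolvable φ.range := Group.isSolvable_of_surjective φ.rangeRestrict_surjective
  have hzE : z ∈ E := Or.inr h.cen
  have hle : 2 ^ n - 1 ≤ n + 1 := by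
    refine two_pow_le φ.range (fun v => congrArg Additive.ofMul (Subtype.ext (cenGroup_sq hG (Additive.toMul v).2)))
      (by omega) (by rw [← hcard]; exact Nat.card_congr Additive.toMul) (z := Additive.ofMul ⟨z, hzE⟩)
      (fun h0 => involution_ne_one h.cen.2.1 (congrArg (fun v : Additive ↥E => ((Additive.toMul v : ↥E) : G)) h0))
      (fun v hv => ?_) (fun v w hv0 hvz hw0 hwz => ?_)
    · have hvc : Cen S ((Additive.toMul v : ↥E) : G) := (Additive.toMul v).2.resolve_left fun h1 =>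
        hv (congrArg Additive.ofMul (Subtype.ext h1 : Additive.toMul v = 1))
      obtain ⟨m, hm, he⟩ := h.fused hG hvc
      exact ⟨φ ⟨m, hm⟩, ⟨_, rfl⟩, congrArg Additive.ofMul (Subtype.ext he)⟩
    · have hc : ∀ {u : Additive ↥E}, u ≠ 0 → Cen S ((Additive.toMul u : ↥E) : G) := fun {u} hu =>
        (Additive.toMul u).2.resolve_left fun h1 => hu (congrArg Additive.ofMul (Subtype.ext h1 : Additive.toMul u = 1))
      obtain ⟨m, hm, hmz, hc'⟩ := h.torus hG hL (hc hv0) (hc hw0)
        (fun h1 => hvz (congrArg Additive.ofMul (Subtype.ext h1 : Additive.toMul v = ⟨z, hzE⟩)))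
        (fun h1 => hwz (congrArg Additive.ofMul (Subtype.ext h1 : Additive.toMul w = ⟨z, hzE⟩)))
      refine ⟨φ ⟨m, hm⟩, ⟨_, rfl⟩, congrArg Additive.ofMul (Subtype.ext hmz), ?_⟩
      rcases hc' with h1 | h1
      · exact Or.inl (congrArg Additive.ofMul (Subtype.ext h1))
      · exact Or.inr (congrArg Additive.ofMul (Subtype.ext h1))
  have hlt : ∀ k : ℕ, k + 6 ≤ 2 ^ (k + 3) - 1 := by
    intro k
    induction k with
    | zero => norm_num
    | succ k ih => rw [show k + 1 + 3 = (k + 3) + 1 by ring, pow_succ]; omega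
  have hn2 : n = 2 := by
    by_contra hne
    obtain ⟨k, rfl⟩ : ∃ k, n = k + 3 := ⟨n - 3, by omega⟩
    have := hlt k
    omega
  rw [hq, hn2]; norm_num

end MultiData

end CfsgLib.CentralInter
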