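import Cfsg.Agent.Lib.Recog.CentralIntersections.Elementary
import Cfsg.Agent.Lib.Recog.UFourSylow.Final
import Cfsg.Agent.Lib.TwoGroups.StrongEmbedding

/-!
Owner: helper16. S3308: in a simple group whose central Sylow 2-intersections have 2-rank at most one the Sylow
2-subgroups either meet trivially or are elementary with a transitive normaliser.

* `NormalTransitive S`: elementary, and the normaliser is transitive on the nontrivial elements.
* `Herz.no_multi_unitary`: no 2-central involution lies in two Sylow subgroups in the `U₃(4)` case.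
* `Herz.sylow_shape`.
-/

set_option autoImplicit false
set_option linter.style.haveILetI false
set_option linter.unusedSectionVars false

namespace CfsgLib.CentralInter

open Subgroup
open CfsgLib.Signalizer (involution_sq involution_inv involution_ne_one orderOf_eq_two_of orderOf_conj)

universe u

variable {G : Type u} [Group G] [Finite G]

/-- An elementary subgroup of order at least three with a transitive normaliser. -/
structure NormalTransitive (S : Subgroup G) : Prop where
  sq : ∀ x ∈ S, x * x = 1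
  big : 3 ≤ Nat.card S
  trans : ∀ a ∈ S, ∀ b ∈ S, a ≠ 1 → b ≠ 1 → ∃ n ∈ normalizer (S : Set G), n * a * n⁻¹ = b

theorem Herz.no_multi_unitary (hG : Herz G) {S : Sylow 2 G} {F : Type} [Field F] [Fintype F]
    (hF : Fintype.card F = 16) (P : Sylow 2 (Cfsg.PSU 3 F 4))
    (e : (S : Subgroup G) ≃* (P : Subgroup (Cfsg.PSU 3 F 4))) {z : G} (hz : Cen S z) {T : Sylow 2 G}
    (hzT : z ∈ (T : Subgroup G)) : T = S := by
  haveI := Fact.mk Nat.prime_two
  haveI := hG.simple
  haveI := Fintype.ofFinite G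
  have hF' : Fintype.card F = (2 ^ 2) ^ 2 := by rw [hF]; norm_num
  have hT : CfsgLib.USylow.UType ↥(S : Subgroup G) 2 :=
    (CfsgLib.USylow.uType_psu (n := 2) one_le_two hF' P).of_equiv e
  obtain ⟨a, ha, b, hb, ha2, hb2, hab⟩ := CfsgLib.USylow.exists_two_involutions hT le_rfl
  have hO := hG.oddCore_eq_bot
  have hc := CfsgLib.Recog.UFourSylow.no_central_involution hT
  have hone := CfsgLib.Recog.UFourSylow.one_class hT hO hc
  have hcl : ∀ w : G, orderOf w = 2 → CfsgLib.USylow.Closed ↥(centralizer ({w} : Set G)) :=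
    fun w hw => CfsgLib.Recog.UFourSylow.closed_centralizer hT hc hw
  have hzs : z ∈ CfsgLib.USylow.Zs S := (CfsgLib.USylow.mem_Zs hT).2 ⟨hz.1, involution_sq hz.2.1⟩
  rcases CfsgLib.UFour.twoNilp_or_loc hT hone hcl with h | h
  · let K : CfsgLib.InvCent.UnitarySylow.Ctx S :=
      ⟨h, (CfsgLib.InvCent.UnitarySylow.u34_sylow hF P).of_equiv e, CfsgLib.Recog.UFourSylow.not_isolated hO hc⟩
    obtain ⟨n, C⟩ := K.exists_Cycle
    exact (K.false_of_cycle C).elim
  obtain ⟨M, hM⟩ := CfsgLib.ZStar.exists_isPModular (p := 2) Nat.prime_two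
  haveI := hM.2.1.isPrime
  obtain ⟨x, A, f, L⟩ := h z hzs hz.2.1
  obtain ⟨χ, hχ, -, d, D, hd, hDv, hne, hlt, -⟩ := L.exists_small hM fun χ _ hχ =>
    CfsgLib.UFour.apply_ne_degree_of_simple (involution_ne_one hz.2.1) hχ
  have hsmall : CfsgLib.UFour.HasSmall z := ⟨M, hM, χ, hχ, d, D, hd, hDv, hne, by omega⟩
  have hCE := CfsgLib.UFour.centralizer_le_Zs hT hone hzs hz.2.1 (hcl z hz.2.1) hsmall
  have hzT' : Cen T z := hG.cen_of_mem hz hzT
  -- the involutions of the centre lie in `T`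
  have hmem : ∀ {w : G}, w ∈ CfsgLib.USylow.Zs S → orderOf w = 2 → w ∈ (T : Subgroup G) := by
    intro w hw hw2
    have hn : w ∈ normalizer ((T : Subgroup G) : Set G) := by
      refine centralizer_le_normalizer _ (mem_centralizer_iff.2 fun t ht => ?_)
      exact (mem_centralizer_iff.1 (hCE (hzT'.le_centralizer ht)) w hw).symm
    have hp : IsPGroup 2 (zpowers w) := IsPGroup.of_card (n := 1) (by rw [Nat.card_zpowers, hw2, pow_one])
    have h' : w ∈ zpowers w ⊓ normalizer (T : Set G) := ⟨mem_zpowers w, hn⟩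
    rw [hp.inf_normalizer_sylow T] at h'
    exact h'.2
  obtain ⟨w, hw, hw2, hwz⟩ : ∃ w ∈ CfsgLib.USylow.Zs S, orderOf w = 2 ∧ w ≠ z := by
    by_cases haz : a = z
    · exact ⟨b, hb, hb2, fun hbz => hab (haz.trans hbz.symm)⟩
    · exact ⟨a, ha, ha2, haz⟩
  have hwS := CfsgLib.USylow.Zs_le S hw
  exact hG.eq_of_pair hz hw2 hwz (hz.2.2 w hwS) hzT (hmem hw hw2) hz.1 hwS

theorem Herz.normalTransitive_four (hG : Herz G) {S : Sylow 2 G}
    (hS : Nat.card (S : Subgroup G) = 4) : NormalTransitive (S : Subgroup G) := by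
  classical
  haveI := Fact.mk Nat.prime_two
  obtain ⟨z, e, hz, he, hez⟩ := hG.exists_two_cen S
  have hze := hG.cen_mul hz he hez.symm
  have hlist : ∀ x ∈ (S : Subgroup G), x = 1 ∨ x = z ∨ x = e ∨ x = z * e := by
    intro x hx
    by_contra hno
    push Not at hno
    obtain ⟨h1, h2, h3, h4⟩ := hno
    have hinj : Function.Injective (![⟨1, one_mem _⟩, ⟨z, hz.1⟩, ⟨e, he.1⟩, ⟨z * e, hze.1⟩, ⟨x, hx⟩] :
        Fin 5 → (S : Subgroup G)) := by
      have z1 := involution_ne_one hz.2.1
      have e1 := involution_ne_one he.2.1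
      have ze1 := involution_ne_one hze.2.1
      have zze : z ≠ z * e := fun h => e1 (mul_eq_left.1 h.symm)
      have eze : e ≠ z * e := fun h => z1 (mul_eq_right.1 h.symm)
      intro i j hij
      have hij' := congrArg Subtype.val hij
      fin_cases i <;> fin_cases j <;>
        simp_all [eq_comm]
    have hle := Nat.card_le_card_of_injective _ hinj
    rw [hS, Nat.card_eq_fintype_card, Fintype.card_fin] at hle
    omega
  have hcen : ∀ x ∈ (S : Subgroup G), x ≠ 1 → Cen S x := by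
    intro x hx hx1
    rcases hlist x hx with rfl | rfl | rfl | rfl
    exacts [absurd rfl hx1, hz, he, hze]
  refine ⟨fun x hx => ?_, by omega, ?_⟩
  · by_cases hx1 : x = 1
    · rw [hx1, one_mul]
    · exact involution_sq (hcen x hx hx1).2.1
  set N := normalizer ((S : Subgroup G) : Set G) with hN
  -- the orbit of `z` has odd size and is not a point
  letI : MulAction ↥N G := MulAction.compHom G ((MulAut.conj : G →* MulAut G).comp N.subtype)
  have hsm : ∀ (n : ↥N) (x : G), n • x = (n : G) * x * (n : G)⁻¹ := fun n x => rfl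
  have horb : ∀ a ∈ (S : Subgroup G), a ≠ 1 → ∀ b ∈ (S : Subgroup G), b ≠ 1 → b ∈ MulAction.orbit ↥N a := by
    intro a ha ha1 b hb hb1
    have hsub : MulAction.orbit ↥N a ⊆ {x | x ∈ (S : Subgroup G) ∧ x ≠ 1} := by
      rintro _ ⟨n, rfl⟩
      show (n : G) * a * (n : G)⁻¹ ∈ _ ∧ _
      exact ⟨(mem_normalizer_iff.1 n.2 a).1 ha, fun h => ha1 (conj_eq_one_iff.1 h)⟩
    have hcard : Nat.card {x | x ∈ (S : Subgroup G) ∧ x ≠ 1} ≤ 3 := by
      refine (Nat.card_le_card_of_surjective (fun i : Fin 3 => (⟨![z, e, z * e] i, ?_, ?_⟩ :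
        {x | x ∈ (S : Subgroup G) ∧ x ≠ 1})) ?_).trans (by rw [Nat.card_eq_fintype_card, Fintype.card_fin])
      · fin_cases i
        exacts [hz.1, he.1, hze.1]
      · fin_cases i
        exacts [involution_ne_one hz.2.1, involution_ne_one he.2.1, involution_ne_one hze.2.1]
      · rintro ⟨x, hx, hx1⟩
        rcases hlist x hx with rfl | rfl | rfl | rfl
        exacts [absurd rfl hx1, ⟨0, rfl⟩, ⟨1, rfl⟩, ⟨2, rfl⟩]
    have hodd : Odd (Nat.card (MulAction.orbit ↥N a)) := by
      rw [Nat.card_coe_set_eq, ← MulAction.index_stabilizer]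
      have hle : (S : Subgroup G).subgroupOf N ≤ MulAction.stabilizer ↥N a := fun s hs => by
        rw [MulAction.mem_stabilizer_iff, hsm, (hcen a ha ha1).2.2 _ (mem_subgroupOf.1 hs), mul_inv_cancel_right]
      refine Odd.of_dvd_nat ?_ (index_dvd_of_le hle)
      rw [← Nat.not_even_iff_odd, even_iff_two_dvd]
      exact (S.subtype (le_normalizer : (S : Subgroup G) ≤ N)).not_dvd_index
    have hne1 : Nat.card (MulAction.orbit ↥N a) ≠ 1 := by
      intro h1
      have hfix : ∀ n ∈ N, n * a * n⁻¹ = a := fun n hn => by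
        rw [Nat.card_eq_one_iff_unique] at h1
        haveI := h1.1
        exact congrArg Subtype.val (Subsingleton.elim
          (⟨n * a * n⁻¹, ⟨n, hn⟩, rfl⟩ : MulAction.orbit ↥N a) ⟨a, MulAction.mem_orbit_self a⟩)
      have hiso : ∀ g : G, g * a * g⁻¹ ∈ (S : Subgroup G) → g * a * g⁻¹ = a := fun g hg => by
        obtain ⟨n, hn, he'⟩ := Herz.fusion (hcen a ha ha1) (hG.conj_cen (hcen a ha ha1) hg)
        rw [he', hfix n hn]
      have h2 := CfsgLib.ZStar.mem_oddCore_of_sylow S (hcen a ha ha1).2.1 ha hiso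
      refine hG.centralizer_ne_top ha1 (eq_top_iff.2 fun g _ => ?_)
      have h3 := h2 g
      rw [hG.oddCore_eq_bot, mem_bot, mul_inv_eq_one, mul_inv_eq_iff_eq_mul] at h3
      exact mem_centralizer_singleton_iff.2 h3.symm
    have hle3 : Nat.card {x | x ∈ (S : Subgroup G) ∧ x ≠ 1} ≤ Nat.card (MulAction.orbit ↥N a) := by
      obtain ⟨k, hk⟩ := hodd
      omega
    have heq : MulAction.orbit ↥N a = {x | x ∈ (S : Subgroup G) ∧ x ≠ 1} :=
      Set.eq_of_subset_of_ncard_le hsub (by rwa [← Nat.card_coe_set_eq, ← Nat.card_coe_set_eq]) (Set.toFinite _)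
    rw [heq]
    exact ⟨hb, hb1⟩
  intro a ha b hb ha1 hb1
  obtain ⟨n, hn⟩ := horb a ha ha1 b hb hb1
  exact ⟨n, n.2, hn⟩

/-- Trivial intersections, or elementary with a transitive normaliser. -/
theorem Herz.sylow_shape (hG : Herz G) (hmain : CfsgLib.AschCrit.Main.{u}) :
    (∀ S T : Sylow 2 G, S ≠ T → (S : Subgroup G) ⊓ (T : Subgroup G) = ⊥) ∨
      ∃ S : Sylow 2 G, NormalTransitive (S : Subgroup G) := by
  classical
  haveI := Fact.mk Nat.prime_two
  by_cases hm : ∃ (S T : Sylow 2 G) (z : G), Cen S z ∧ T ≠ S ∧ z ∈ (T : Subgroup G)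
  · obtain ⟨S, T, z, hz, hTS, hzT⟩ := hm
    refine Or.inr ⟨S, ?_⟩
    by_cases hr : ∃ U : Sylow 2 G, Rank3 U
    · obtain ⟨U, hU⟩ := hr
      have h := hG.exists_multiData hz hTS hzT hU.all
      obtain ⟨hsq, h8, hall, -, -⟩ := h.elementary hG
      refine ⟨hsq, by omega, fun a ha b hb ha1 hb1 => ?_⟩
      obtain ⟨n, hn, rfl⟩ := h.fused hG (hall a ha ha1)
      obtain ⟨m, hm, rfl⟩ := h.fused hG (hall b hb hb1)
      exact ⟨m * n⁻¹, mul_mem hm (inv_mem hn), by group⟩
    · letI := Fintype.ofFinite (GaloisField 2 4)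
      have hF : Fintype.card (GaloisField 2 4) = 16 := by
        rw [← Nat.card_eq_fintype_card, GaloisField.card 2 4 (by norm_num)]; norm_num
      obtain ⟨P⟩ : Nonempty (Sylow 2 (Cfsg.PSU 3 (GaloisField 2 4) 4)) := inferInstance
      rcases hG.rank_two_types (fun U hU => hr ⟨U, hU⟩) S hF P with ⟨⟨ε⟩⟩ | ⟨⟨ε⟩⟩
      · exact hG.normalTransitive_four (by
          rw [Nat.card_congr ε.toEquiv, Nat.card_eq_fintype_card, DihedralGroup.card])
      · exact absurd (hG.no_multi_unitary hF P ε hz hzT) hTS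
  · have hs : ∀ (S T : Sylow 2 G) (z : G), Cen S z → z ∈ (T : Subgroup G) → T = S := fun S T z hz hzT => by
      by_contra hne
      exact hm ⟨S, T, z, hz, hne, hzT⟩
    refine Or.inl fun S T hne => ?_
    by_contra hbot
    obtain ⟨w, hw, hw1⟩ := (bot_or_exists_ne_one ((S : Subgroup G) ⊓ (T : Subgroup G))).resolve_left hbot
    obtain ⟨k, hk⟩ := S.isPGroup' ⟨w, hw.1⟩
    obtain ⟨i, hi⟩ := exists_pow_involution (congrArg Subtype.val hk) hw1
    obtain ⟨z, hz⟩ := hG.exists_cen S
    obtain ⟨g, hg⟩ := isConj_iff.1 (CfsgLib.TwoGroups.SE.isConj_involutions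
      (hG.stronglyEmbedded_of_single hmain hs S) hz.2.1 hi)
    have hx := hG.conj_cen hz (S := S) (g := g) (by rw [hg]; exact pow_mem hw.1 _)
    exact hne (hs S T _ hx (by rw [hg]; exact pow_mem hw.2 _)).symm

end CfsgLib.CentralInter
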