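import Cfsg.Agent.Lib.Recog.CentralIntersections.Socle
import Cfsg.Agent.Lib.Recog.CentralIntersections.SylowShape

/-!
Owner: helper16. S3308: no group with cyclic intersections has a self-centralising simple normal subgroup of index two
with elementary Sylow 2-subgroups whose normaliser is transitive: the outer involution would be isolated.
-/

set_option autoImplicit false
set_option linter.style.haveILetI false
set_option linter.unusedSectionVars false

namespace CfsgLib.CentralInter

open Subgroup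
open CfsgLib.Signalizer (involution_sq involution_ne_one orderOf_eq_two_of orderOf_conj)

universe u

variable {K : Type u} [Group K] [Finite K]

theorem Cyc.no_index_two (hC : Cyc K) {M : Subgroup K} [M.Normal] (hM : ¬ Group.IsSolvable M)
    (hMs : IsSimpleGroup M) (hMc : centralizer (M : Set K) = ⊥) (h2 : M.index = 2) (S : Sylow 2 M)
    (hS : NormalTransitive (S : Subgroup M)) : False := by
  classical
  haveI := Fact.mk Nat.prime_two
  set S' := (S : Subgroup M).map M.subtype with hS'
  obtain ⟨T₀, hT₀⟩ := (S.isPGroup'.map M.subtype).exists_le_sylow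
  set T := T₀ with hT
  have hTS : (T : Subgroup K) ⊓ M = S' := by
    obtain ⟨R, hR⟩ := hC.exists_sylow_inf (M := M) T
    have hle : (S : Subgroup M) ≤ R := fun x hx => by
      obtain ⟨y, hy, e⟩ := (hR ▸ ⟨hT₀ ⟨x, hx, rfl⟩, x.2⟩ : (x : K) ∈ (R : Subgroup M).map M.subtype)
      exact Subtype.ext e ▸ hy
    rw [← hR, Sylow.ext (S.is_maximal' R.isPGroup' hle)]
  have hS'sq : ∀ x ∈ S', x * x = 1 := by
    rintro _ ⟨x, hx, rfl⟩
    rw [← map_mul, hS.sq x hx, map_one]
  have htr : ∀ a ∈ S', ∀ b ∈ S', a ≠ 1 → b ≠ 1 →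
      ∃ n ∈ normalizer (S' : Set K) ⊓ M, n * a * n⁻¹ = b := by
    rintro _ ⟨a, ha, rfl⟩ _ ⟨b, hb, rfl⟩ ha1 hb1
    obtain ⟨n, hn, he⟩ := hS.trans a ha b hb (fun e => ha1 (by rw [e, map_one])) (fun e => hb1 (by rw [e, map_one]))
    exact ⟨n, ⟨le_normalizer_map _ ⟨n, hn, rfl⟩, n.2⟩, by rw [← he]; simp⟩
  set N := normalizer (S' : Set K) ⊓ M with hN
  -- `N` normalises `T`
  have hNT : ∀ n ∈ N, n • T = T := by
    intro n hn
    refine hC.sylow_ext hM ?_
    rw [hTS]
    ext x
    have h1 := (mem_normalizer_iff.1 (inv_mem hn.1) x)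
    rw [mem_inf, CfsgLib.CentralMeet.mem_smul_sylow, show x ∈ S' ↔ n⁻¹ * x * n ∈ S' by simpa using h1, ← hTS]
    refine ⟨fun hx => ⟨hx.1, ?_⟩, fun hx => ⟨hx.1, ?_⟩⟩
    · simpa using (inferInstance : M.Normal).conj_mem x hx.2 n⁻¹
    · simpa [mul_assoc] using (inferInstance : M.Normal).conj_mem _ hx.2 n
  have hNT' : ∀ n ∈ N, ∀ t ∈ (T : Subgroup K), n * t * n⁻¹ ∈ (T : Subgroup K) := fun n hn t ht =>
    by rw [← hNT n hn]; exact CfsgLib.CentralMeet.conj_mem_smul ht
  -- an element of `T` outside `M`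
  obtain ⟨y, hyT, hyM⟩ : ∃ y ∈ (T : Subgroup K), y ∉ M := by
    by_contra hno
    push Not at hno
    exact T.not_dvd_index ((dvd_of_eq h2.symm).trans (index_dvd_of_le (show (T : Subgroup K) ≤ M from hno)))
  have hsplit : ∀ t ∈ (T : Subgroup K), t ∈ S' ∨ y⁻¹ * t ∈ S' := by
    intro t ht
    rw [← hTS]
    by_cases htM : t ∈ M
    · exact Or.inl ⟨ht, htM⟩
    · refine Or.inr (mem_inf.2 ⟨mul_mem (inv_mem hyT) ht, ?_⟩)
      rw [Subgroup.mul_mem_iff_of_index_two h2]
      exact iff_of_false (fun h => hyM (inv_mem_iff.1 h)) htM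
  have hS'comm : ∀ a ∈ S', ∀ b ∈ S', a * b = b * a := by
    intro a ha b hb
    have hi : ∀ w ∈ S', w⁻¹ = w := fun w hw => inv_eq_of_mul_eq_one_right (hS'sq w hw)
    calc a * b = a⁻¹ * b⁻¹ := by rw [hi a ha, hi b hb]
      _ = (b * a)⁻¹ := (mul_inv_rev _ _).symm
      _ = b * a := hi _ (mul_mem hb ha)
  -- `y` centralises `S'`
  have hy2 : y * y ∈ S' := hTS.le (mem_inf.2 ⟨mul_mem hyT hyT, by rw [Subgroup.mul_mem_iff_of_index_two h2]⟩)
  have hyS : ∀ s ∈ S', y * s * y⁻¹ ∈ S' := fun s hs => by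
    rw [← hTS] at hs ⊢
    exact mem_inf.2 ⟨mul_mem (mul_mem hyT hs.1) (inv_mem hyT), (inferInstance : M.Normal).conj_mem s hs.2 y⟩
  obtain ⟨a, ha, ha1, hay⟩ : ∃ a ∈ S', a ≠ 1 ∧ y * a * y⁻¹ = a := by
    by_cases hall : ∀ s ∈ S', y * s * y⁻¹ = s
    · obtain ⟨a, ha, ha1⟩ := (bot_or_exists_ne_one S').resolve_left fun e => by
        have h3 := hS.big
        rw [(map_eq_bot_iff_of_injective _ M.subtype_injective).1 e, card_bot] at h3
        omega
      exact ⟨a, ha, ha1, hall a ha⟩
    · push Not at hall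
      obtain ⟨s, hs, hne⟩ := hall
      refine ⟨s * (y * s * y⁻¹), mul_mem hs (hyS s hs), fun e => hne ?_, ?_⟩
      · rw [← inv_eq_of_mul_eq_one_right e, inv_eq_of_mul_eq_one_right (hS'sq s hs)]
      · have h1 : y * (y * s * y⁻¹) * y⁻¹ = s := by
          rw [show y * (y * s * y⁻¹) * y⁻¹ = y * y * s * (y * y)⁻¹ by group,
            hS'comm _ hy2 s hs, mul_inv_cancel_right]
        rw [show y * (s * (y * s * y⁻¹)) * y⁻¹ = y * s * y⁻¹ * (y * (y * s * y⁻¹) * y⁻¹) by group, h1]
        exact hS'comm _ (hyS s hs) s hs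
  have hyc : ∀ s ∈ S', s * y = y * s := by
    intro s hs
    by_cases hs1 : s = 1
    · rw [hs1, one_mul, mul_one]
    obtain ⟨n, hn, he⟩ := htr a ha s hs ha1 hs1
    have ht := hNT' n hn y hyT
    obtain ⟨σ, hσ, hny⟩ : ∃ σ ∈ S', n * y * n⁻¹ = y * σ := by
      rcases hsplit _ ht with h | h
      · exfalso
        exact hyM (by simpa [mul_assoc] using (inferInstance : M.Normal).conj_mem _ ((hTS.ge h).2) n⁻¹)
      · exact ⟨_, h, by group⟩
    have h1 : n * y * n⁻¹ * s = s * (n * y * n⁻¹) := by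
      rw [← he, show n * y * n⁻¹ * (n * a * n⁻¹) = n * (y * a * y⁻¹ * y) * n⁻¹ by group, hay]
      group
    rw [hny, mul_assoc, hS'comm σ hσ s hs, ← mul_assoc, ← mul_assoc] at h1
    exact (mul_right_cancel h1).symm
  have hTcomm : ∀ t ∈ (T : Subgroup K), ∀ t' ∈ (T : Subgroup K), t * t' = t' * t := by
    have key : ∀ t ∈ (T : Subgroup K), ∀ s ∈ S', t * s = s * t := by
      intro t ht s hs
      rcases hsplit t ht with h | h
      · exact hS'comm t h s hs
      · have h1 := hS'comm _ h s hs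
        calc t * s = y * (y⁻¹ * t * s) := by group
          _ = y * (s * (y⁻¹ * t)) := by rw [h1]
          _ = y * s * (y⁻¹ * t) := by group
          _ = s * y * (y⁻¹ * t) := by rw [hyc s hs]
          _ = s * t := by group
    intro t ht t' ht'
    rcases hsplit t' ht' with h | h
    · exact key t ht t' h
    · have h1 := key t ht _ h
      have h2 : t * y = y * t := by
        rcases hsplit t ht with h' | h'
        · exact (key y hyT t h').symm
        · have h3 := key y hyT _ h'
          calc t * y = y * (y⁻¹ * t * y) := by group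
            _ = y * (y * (y⁻¹ * t)) := by rw [h3]
            _ = y * t := by group
      calc t * t' = t * y * (y⁻¹ * t') := by group
        _ = y * (t * (y⁻¹ * t')) := by rw [h2, mul_assoc]
        _ = y * (y⁻¹ * t' * t) := by rw [h1]
        _ = t' * t := by group
  haveI hTc : IsMulCommutative ↥(T : Subgroup K) := ⟨⟨fun p q => Subtype.ext (hTcomm p p.2 q q.2)⟩⟩
  letI : CommGroup ↥(T : Subgroup K) :=
    { (inferInstance : Group ↥(T : Subgroup K)) with mul_comm := fun p q => mul_comm' p q }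
  -- the orbit of `y` and its product
  letI : MulAction ↥N K := MulAction.compHom K ((MulAut.conj : K →* MulAut K).comp N.subtype)
  have hsm : ∀ (n : ↥N) (x : K), n • x = (n : K) * x * (n : K)⁻¹ := fun n x => rfl
  set O : Finset ↥(T : Subgroup K) :=
    (Set.toFinite {w : ↥(T : Subgroup K) | (w : K) ∈ MulAction.orbit ↥N y}).toFinset with hO
  have hOmem : ∀ w : ↥(T : Subgroup K), w ∈ O ↔ (w : K) ∈ MulAction.orbit ↥N y := fun w => by
    rw [hO, Set.Finite.mem_toFinset]; rfl
  have hOodd : Odd O.card := by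
    have h1 : O.card = Nat.card (MulAction.orbit ↥N y) := by
      rw [← Nat.card_eq_finsetCard]
      refine Nat.card_eq_of_bijective (fun w => ⟨_, (hOmem w.1).1 w.2⟩)
        ⟨fun p q e => Subtype.ext (Subtype.ext (by simpa using e)), ?_⟩
      rintro ⟨_, n, rfl⟩
      exact ⟨⟨⟨_, hNT' n n.2 y hyT⟩, (hOmem _).2 ⟨n, rfl⟩⟩, rfl⟩
    rw [h1, Nat.card_coe_set_eq, ← MulAction.index_stabilizer]
    have hS'N : S' ≤ N := le_inf le_normalizer (hTS ▸ inf_le_right)
    have hle : S'.subgroupOf N ≤ MulAction.stabilizer ↥N y := fun s hs => by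
      rw [MulAction.mem_stabilizer_iff, hsm, hyc _ (mem_subgroupOf.1 hs), mul_inv_cancel_right]
    refine Odd.of_dvd_nat ?_ (index_dvd_of_le hle)
    have h3 : (S'.subgroupOf N).index ∣ (S : Subgroup M).index := by
      have h4 : S'.relIndex N ∣ S'.relIndex M := by
        refine ⟨N.relIndex M, (relIndex_mul_relIndex _ _ _ hS'N inf_le_right).symm⟩
      rwa [hS', relIndex, relIndex, subgroupOf, subgroupOf,
        comap_map_eq_self_of_injective M.subtype_injective, ← subgroupOf, ← hS'] at h4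
    refine Odd.of_dvd_nat ?_ h3
    rw [← Nat.not_even_iff_odd, even_iff_two_dvd]
    exact S.not_dvd_index
  set x : ↥(T : Subgroup K) := ∏ w ∈ O, w with hx
  have hxfix : ∀ n ∈ N, n * (x : K) * n⁻¹ = x := by
    intro n hn
    let f : ↥(T : Subgroup K) →* ↥(T : Subgroup K) :=
      { toFun := fun w => ⟨n * w * n⁻¹, hNT' n hn w w.2⟩
        map_one' := Subtype.ext (by simp)
        map_mul' := fun p q => Subtype.ext (by simp [mul_assoc]) }
    have hf : Function.Injective f := fun p q e => Subtype.ext (by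
      simpa [f] using congrArg Subtype.val e)
    have himg : O.image f = O := by
      refine Finset.eq_of_subset_of_card_le (fun w hw => ?_) (by rw [Finset.card_image_of_injective _ hf])
      obtain ⟨v, hv, rfl⟩ := Finset.mem_image.1 hw
      obtain ⟨m, hm⟩ := (hOmem v).1 hv
      refine (hOmem _).2 ⟨⟨n, hn⟩ * m, ?_⟩
      show (⟨n, hn⟩ * m : ↥N) • y = n * (v : K) * n⁻¹
      rw [mul_smul, hsm]
      exact congrArg (fun w => n * w * n⁻¹) hm
    have h1 : f x = x := by
      rw [hx, map_prod]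
      conv_rhs => rw [← himg]
      rw [Finset.prod_image fun p _ q _ e => hf e]
    exact congrArg Subtype.val h1
  have hxM : (x : K) ∉ M := by
    intro hxM
    let g : ↥(T : Subgroup K) →* K ⧸ M := (QuotientGroup.mk' M).comp (T : Subgroup K).subtype
    have hg : ∀ w ∈ O, g w = g ⟨y, hyT⟩ := by
      intro w hw
      obtain ⟨n, hn⟩ := (hOmem w).1 hw
      show QuotientGroup.mk' M (w : K) = QuotientGroup.mk' M y
      rw [← hn]
      show QuotientGroup.mk' M ((n : K) * y * (n : K)⁻¹) = _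
      rw [map_mul, map_mul, map_inv, show QuotientGroup.mk' M (n : K) = 1 from
        (QuotientGroup.eq_one_iff _).2 n.2.2, one_mul, inv_one, mul_one]
    letI : CommGroup (K ⧸ M) :=
      { (inferInstance : Group (K ⧸ M)) with
        mul_comm := by
          haveI : IsCyclic (K ⧸ M) := isCyclic_of_prime_card (p := 2) (by rw [← index_eq_card, h2])
          exact fun p q => mul_comm' p q }
    have h1 : g x = g ⟨y, hyT⟩ ^ O.card := by
      rw [hx, map_prod, Finset.prod_congr rfl hg, Finset.prod_const]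
    have h2' : g ⟨y, hyT⟩ ^ 2 = 1 := by
      rw [← map_pow]
      exact (QuotientGroup.eq_one_iff _).2 (hTS.ge (by simpa [pow_two] using hy2)).2
    obtain ⟨k, hk⟩ := hOodd
    rw [hk, pow_succ, pow_mul, h2', one_pow, one_mul, show g x = 1 from (QuotientGroup.eq_one_iff _).2 hxM] at h1
    exact hyM ((QuotientGroup.eq_one_iff _).1 h1.symm)
  -- `x` is an involution
  have hx2 : orderOf (x : K) = 2 := by
    refine orderOf_eq_two_of (fun e => hxM (e ▸ one_mem M)) ?_
    by_contra hne
    have hb : (x : K) * x ∈ S' := hTS.le (mem_inf.2 ⟨mul_mem x.2 x.2, by rw [Subgroup.mul_mem_iff_of_index_two h2]⟩)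
    obtain ⟨b, hb', hb1, hbne⟩ : ∃ b ∈ S', b ≠ 1 ∧ b ≠ (x : K) * x := by
      by_contra hno
      push Not at hno
      have hsub : Nat.card S' ≤ Nat.card Bool := Nat.card_le_card_of_injective
        (fun s : S' => decide ((s : K) = 1)) fun p q hpq => Subtype.ext (by
          simp only [decide_eq_decide] at hpq
          by_cases hp : (p : K) = 1
          · rw [hp, hpq.1 hp]
          · rw [hno p p.2 hp, hno q q.2 (fun hq => hp (hpq.2 hq))])
      have h3 := hS.big
      rw [hS', card_map_of_injective M.subtype_injective, Nat.card_eq_fintype_card (α := Bool), Fintype.card_bool] at hsub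
      omega
    obtain ⟨n, hn, he⟩ := htr _ hb b hb' hne hb1
    refine hbne ?_
    rw [← he, show n * ((x : K) * x) * n⁻¹ = n * x * n⁻¹ * (n * x * n⁻¹) by group, hxfix n hn]
  -- and is isolated
  have hcenT : ∀ {t : K}, t ∈ (T : Subgroup K) → orderOf t = 2 → Cen T t := fun {t} ht ht2 =>
    ⟨ht, ht2, fun s hs => hTcomm s hs t ht⟩
  have hiso : ∀ g : K, g * (x : K) * g⁻¹ ∈ (T : Subgroup K) → g * (x : K) * g⁻¹ = x := by
    intro g hg
    obtain ⟨n, hn, he⟩ := Herz.fusion (hcenT x.2 hx2) (hcenT hg ((orderOf_conj g _).trans hx2))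
    rw [he]
    obtain ⟨m, t, hm, ht, rfl⟩ : ∃ m t, m ∈ M ∧ t ∈ (T : Subgroup K) ∧ n = m * t := by
      by_cases hnM : n ∈ M
      · exact ⟨n, 1, hnM, one_mem _, (mul_one n).symm⟩
      · refine ⟨n * y⁻¹, y, ?_, hyT, by group⟩
        rw [Subgroup.mul_mem_iff_of_index_two h2]
        exact iff_of_false hnM fun h => hyM (inv_mem_iff.1 h)
    have hmT : m ∈ normalizer ((T : Subgroup K) : Set K) :=
      (Subgroup.mul_mem_cancel_right _ (le_normalizer ht)).1 hn
    have hmS : m ∈ normalizer (S' : Set K) := by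
      rw [mem_normalizer_iff]
      intro w
      rw [← hTS, mem_inf, mem_inf, ← mem_normalizer_iff.1 hmT w]
      refine and_congr_right fun _ => ⟨fun hw => (inferInstance : M.Normal).conj_mem w hw m, fun hw => ?_⟩
      simpa [mul_assoc] using (inferInstance : M.Normal).conj_mem _ hw m⁻¹
    rw [show m * t * (x : K) * (m * t)⁻¹ = m * (t * x * t⁻¹) * m⁻¹ by group,
      hTcomm t ht x x.2, mul_inv_cancel_right]
    exact hxfix m ⟨hmS, hm⟩
  have h3 := CfsgLib.ZStar.mem_oddCore_of_sylow T hx2 x.2 hiso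
  have hOK : Cfsg.oddCore K = ⊥ := by
    have hdis : Cfsg.oddCore K ⊓ M = ⊥ := by
      rcases (inferInstance : ((Cfsg.oddCore K).subgroupOf M).Normal).eq_bot_or_eq_top with h | h
      · rwa [subgroupOf_eq_bot, disjoint_iff] at h
      · exfalso
        haveI := CfsgLib.OddLocal.FTFinal.odd_order_solvable (G := M)
          ((CfsgLib.ZStar.odd_card_oddCore K).of_dvd_nat (card_dvd_of_le (subgroupOf_eq_top.1 h)))
        exact hM inferInstance
    rw [← le_bot_iff, ← hMc]
    intro o ho
    refine mem_centralizer_iff.2 fun m hm => ?_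
    exact (commute_of_normal_of_disjoint _ M inferInstance inferInstance (disjoint_iff.2 hdis) o m ho hm).symm
  have h4 : (x : K) ∈ centralizer (M : Set K) := mem_centralizer_iff.2 fun m _ => by
    have h := h3 m
    rw [hOK, mem_bot, mul_inv_eq_one, mul_inv_eq_iff_eq_mul] at h
    exact h.symm
  rw [hMc, mem_bot] at h4
  exact involution_ne_one hx2 h4

end CfsgLib.CentralInter
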