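import Mathlib.LinearAlgebra.Matrix.SpecialLinearGroup
import Mathlib.GroupTheory.Sylow
import Mathlib.Data.ZMod.Basic

/-!
Owner: helper16. The quaternion subgroup of `SL(2,5)` of monomial matrices: what S3185 needs to exclude the grid.
-/

set_option autoImplicit false

namespace CfsgLib.CentralInter.QuatFive

open Matrix
open scoped MatrixGroups

/-- Monomial matrices. -/
def Mono (s : SL(2, ZMod 5)) : Prop := (s 0 1 = 0 ∧ s 1 0 = 0) ∨ (s 0 0 = 0 ∧ s 1 1 = 0)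

theorem mul_entry (x y : SL(2, ZMod 5)) (i j : Fin 2) : (x * y) i j = x i 0 * y 0 j + x i 1 * y 1 j := by
  rw [SpecialLinearGroup.coe_mul, Matrix.mul_apply, Fin.sum_univ_two]

theorem inv_entry (s : SL(2, ZMod 5)) :
    (s⁻¹ : SL(2, ZMod 5)) 0 0 = s 1 1 ∧ (s⁻¹ : SL(2, ZMod 5)) 0 1 = -s 0 1 ∧
      (s⁻¹ : SL(2, ZMod 5)) 1 0 = -s 1 0 ∧ (s⁻¹ : SL(2, ZMod 5)) 1 1 = s 0 0 := by
  rw [SpecialLinearGroup.coe_inv, Matrix.adjugate_fin_two]
  simp

theorem det_entry (s : SL(2, ZMod 5)) : s 0 0 * s 1 1 - s 0 1 * s 1 0 = 1 := by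
  have h := s.2
  rw [Matrix.det_fin_two] at h
  exact h

theorem ext_entry {x y : SL(2, ZMod 5)} (h00 : x 0 0 = y 0 0) (h01 : x 0 1 = y 0 1) (h10 : x 1 0 = y 1 0)
    (h11 : x 1 1 = y 1 1) : x = y := by
  refine Matrix.SpecialLinearGroup.ext _ _ fun i j => ?_
  fin_cases i <;> fin_cases j <;> assumption

/-- The quaternion subgroup. -/
def Q8 : Subgroup SL(2, ZMod 5) where
  carrier := {s | Mono s}
  one_mem' := Or.inl ⟨by simp, by simp⟩
  mul_mem' := by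
    intro x y hx hy
    simp only [Set.mem_ofPred_eq, Mono, mul_entry] at hx hy ⊢
    rcases hx with ⟨h1, h2⟩ | ⟨h1, h2⟩ <;> rcases hy with ⟨h3, h4⟩ | ⟨h3, h4⟩
    · exact Or.inl ⟨by simp [h1, h3], by simp [h2, h4]⟩
    · exact Or.inr ⟨by simp [h1, h3], by simp [h2, h4]⟩
    · exact Or.inr ⟨by simp [h1, h4], by simp [h2, h3]⟩
    · exact Or.inl ⟨by simp [h1, h4], by simp [h2, h3]⟩
  inv_mem' := by
    intro x hx
    obtain ⟨e1, e2, e3, e4⟩ := inv_entry x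
    simp only [Set.mem_ofPred_eq, Mono, e1, e2, e3, e4, neg_eq_zero] at hx ⊢
    tauto

theorem mem_Q8 {s : SL(2, ZMod 5)} : s ∈ Q8 ↔ Mono s := Iff.rfl

/-- The element `i`. -/
def I : SL(2, ZMod 5) := ⟨!![2, 0; 0, 3], by rw [Matrix.det_fin_two]; decide⟩

/-- The element `j`. -/
def J : SL(2, ZMod 5) := ⟨!![0, 1; 4, 0], by rw [Matrix.det_fin_two]; decide⟩

/-- An element of order three normalising `Q8`. -/
def W : SL(2, ZMod 5) := ⟨!![3, 4; 3, 1], by rw [Matrix.det_fin_two]; decide⟩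

/-- An element moving `Q8`. -/
def U : SL(2, ZMod 5) := ⟨!![1, 1; 0, 1], by rw [Matrix.det_fin_two]; decide⟩

theorem I_mem : I ∈ Q8 := Or.inl ⟨rfl, rfl⟩

theorem J_mem : J ∈ Q8 := Or.inr ⟨rfl, rfl⟩

theorem I_sq : I * I = -1 := by
  refine ext_entry ?_ ?_ ?_ ?_ <;> rw [mul_entry] <;> simp [I] <;> decide

theorem I_ne : I ≠ 1 ∧ I ≠ -1 := by
  constructor <;> intro h <;>
    · have := congrArg (fun s : SL(2, ZMod 5) => s 0 0) h
      revert this
      simp [I]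
      decide

theorem moved : U * I * U⁻¹ ∉ Q8 := by
  rw [mem_Q8, Mono]
  obtain ⟨e1, e2, e3, e4⟩ := inv_entry U
  simp only [mul_entry, e1, e2, e3, e4]
  simp [I, U]
  decide

theorem centralizer_Q8 {s : SL(2, ZMod 5)} (hi : s * I = I * s) (hj : s * J = J * s) : s = 1 ∨ s = -1 := by
  have key : ∀ a b c d : ZMod 5, a * d - b * c = 1 → b * 3 = 2 * b → c * 2 = 3 * c → b * 4 = c → a = d →
      (a = 1 ∧ b = 0 ∧ c = 0 ∧ d = 1) ∨ (a = -1 ∧ b = 0 ∧ c = 0 ∧ d = -1) := by decide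
  have h01 := congrArg (fun x : SL(2, ZMod 5) => x 0 1) hi
  have h10 := congrArg (fun x : SL(2, ZMod 5) => x 1 0) hi
  have j00 := congrArg (fun x : SL(2, ZMod 5) => x 0 0) hj
  have j01 := congrArg (fun x : SL(2, ZMod 5) => x 0 1) hj
  rw [mul_entry, mul_entry] at h01 h10 j00 j01
  simp [I, J] at h01 h10 j00 j01
  rcases key _ _ _ _ (det_entry s) h01 h10 j00 j01 with ⟨e1, e2, e3, e4⟩ | ⟨e1, e2, e3, e4⟩
  · exact Or.inl (ext_entry (by simpa using e1) (by simpa using e2) (by simpa using e3) (by simpa using e4))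
  · exact Or.inr (ext_entry (by simpa using e1) (by simpa using e2) (by simpa using e3) (by simpa using e4))

theorem mono_conj_W {q : SL(2, ZMod 5)} (hq : q ∈ Q8) : W * q * W⁻¹ ∈ Q8 := by
  have key : ∀ a b c d : ZMod 5, a * d - b * c = 1 → ((b = 0 ∧ c = 0) ∨ (a = 0 ∧ d = 0)) →
      (((3 * a + 4 * c) * (-4) + (3 * b + 4 * d) * 3 = 0 ∧ (3 * a + c) * 1 + (3 * b + d) * (-3) = 0) ∨
        ((3 * a + 4 * c) * 1 + (3 * b + 4 * d) * (-3) = 0 ∧ (3 * a + c) * (-4) + (3 * b + d) * 3 = 0)) := by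
    decide
  rw [mem_Q8, Mono] at hq ⊢
  have h := key _ _ _ _ (det_entry q) hq
  obtain ⟨e1, e2, e3, e4⟩ := inv_entry W
  simp only [mul_entry, e1, e2, e3, e4]
  simp [W]
  ring_nf at h ⊢
  exact h

theorem W_pow : W ^ 3 = 1 := by
  refine ext_entry ?_ ?_ ?_ ?_ <;> rw [pow_succ, pow_two, mul_entry, mul_entry, mul_entry] <;> simp [W] <;> decide

theorem W_ne : W ≠ 1 := by
  intro h
  have := congrArg (fun s : SL(2, ZMod 5) => s 0 0) h
  revert this
  simp [W]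
  decide

theorem card_Q8 : Nat.card Q8 = 8 := by
  classical
  let f : Bool × Bool × Bool → SL(2, ZMod 5) := fun p =>
    (bif p.1 then -1 else 1) * (bif p.2.1 then I else 1) * (bif p.2.2 then J else 1)
  have key : ∀ a b c d : ZMod 5, a * d - b * c = 1 → ((b = 0 ∧ c = 0) ∨ (a = 0 ∧ d = 0)) →
      (a, b, c, d) ∈ ([(1, 0, 0, 1), (4, 0, 0, 4), (2, 0, 0, 3), (3, 0, 0, 2), (0, 1, 4, 0), (0, 4, 1, 0),
        (0, 2, 2, 0), (0, 3, 3, 0)] : List (ZMod 5 × ZMod 5 × ZMod 5 × ZMod 5)) := by decide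
  let g : Q8 → {p : ZMod 5 × ZMod 5 × ZMod 5 × ZMod 5 // p ∈ ([(1, 0, 0, 1), (4, 0, 0, 4), (2, 0, 0, 3),
      (3, 0, 0, 2), (0, 1, 4, 0), (0, 4, 1, 0), (0, 2, 2, 0), (0, 3, 3, 0)] : List _)} := fun s =>
    ⟨(s.1 0 0, s.1 0 1, s.1 1 0, s.1 1 1), key _ _ _ _ (det_entry s.1) (mem_Q8.1 s.2)⟩
  refine le_antisymm ?_ ?_
  · refine (Nat.card_le_card_of_injective g fun s t h => ?_).trans (le_of_eq ?_)
    · simp only [g, Subtype.mk.injEq, Prod.mk.injEq] at h
      exact Subtype.ext (ext_entry h.1 h.2.1 h.2.2.1 h.2.2.2)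
    · rw [Nat.card_eq_fintype_card]; decide
  · have hmem : ∀ p, f p ∈ Q8 := fun p => by
      have hneg : (-1 : SL(2, ZMod 5)) ∈ Q8 := Or.inl ⟨by simp, by simp⟩
      refine mul_mem (mul_mem ?_ ?_) ?_ <;> cases p.1 <;> cases p.2.1 <;> cases p.2.2 <;>
        simp [hneg, I_mem, J_mem, one_mem]
    have hinj : Function.Injective fun p => (⟨f p, hmem p⟩ : Q8) := by
      intro p q h
      have h00 := congrArg (fun s : Q8 => s.1 0 0) h
      have h01 := congrArg (fun s : Q8 => s.1 0 1) h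
      rcases p with ⟨a, b, c⟩
      rcases q with ⟨a', b', c'⟩
      cases a <;> cases b <;> cases c <;> cases a' <;> cases b' <;> cases c' <;>
        first
          | rfl
          | (simp [f, mul_entry, I, J] at h00 h01 <;> revert h00 h01 <;> decide)
    have h := Nat.card_le_card_of_injective _ hinj
    simpa [Nat.card_eq_fintype_card] using h

end CfsgLib.CentralInter.QuatFive
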