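import Cfsg.Agent.Lib.Recog.CentralIntersections.Outer
import Cfsg.Agent.Lib.Recog.CentralIntersections.Main
import Cfsg.Agent.Lib.Invol.RankOneInter.TISingle
import Cfsg.Agent.Lib.Invol.CentralMeet.TIFacts

/-!
Owner: helper16. S3308: nonsolvable groups in which distinct Sylow 2-subgroups meet cyclically, modulo the radical:
a simple normal subgroup of odd index of one of the listed types.

* `Cyc.herz`: a simple group of this kind satisfies the hypothesis of S3185.
* `Cyc.odd_index`: the socle has odd index.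
* `Cyc.main`.
-/

set_option autoImplicit false
set_option linter.style.haveILetI false
set_option linter.unusedSectionVars false

namespace CfsgLib.CentralInter

open Subgroup
open CfsgLib.Signalizer (involution_sq involution_ne_one orderOf_eq_two_of orderOf_conj)

universe u v

theorem NormalTransitive.map {G : Type u} [Group G] {H : Type v} [Group H] {S : Subgroup G}
    (h : NormalTransitive S) (e : G ≃* H) : NormalTransitive (S.map e.toMonoidHom) := by
  refine ⟨?_, ?_, ?_⟩
  · rintro _ ⟨x, hx, rfl⟩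
    rw [← map_mul, h.sq x hx, map_one]
  · rw [card_map_of_injective (f := e.toMonoidHom) e.injective]
    exact h.big
  · rintro _ ⟨a, ha, rfl⟩ _ ⟨b, hb, rfl⟩ ha1 hb1
    obtain ⟨n, hn, he⟩ := h.trans a ha b hb (fun h' => ha1 (by rw [h', map_one]))
      (fun h' => hb1 (by rw [h', map_one]))
    refine ⟨e n, le_normalizer_map _ ⟨n, hn, rfl⟩, ?_⟩
    rw [← he]
    simp

theorem prankLE_of_isCyclic {X : Type u} [Group X] [Finite X] [IsCyclic X] : Cfsg.PRankLE 2 1 X := by
  intro A _ hA2
  rw [pow_one]
  refine Nat.le_of_dvd two_pos ?_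
  rw [← IsCyclic.exponent_eq_card]
  exact Monoid.exponent_dvd_of_forall_pow_eq_one fun a => Subtype.ext (hA2 a a.2)

theorem Cyc.herz {X : Type u} [Group X] [Finite X] (hC : Cyc X) (hs : IsSimpleGroup X)
    (hns : ¬ Group.IsSolvable X) : Herz X :=
  ⟨hs, fun h => hns (Group.isSolvable_of_comm fun a b => h.is_comm.comm a b), fun S T hne _ => by
    haveI := hC S T hne
    exact prankLE_of_isCyclic⟩

variable {Q : Type u} [Group Q] [Finite Q]

theorem Cyc.odd_index (hC : Cyc Q) (hns : ¬ Group.IsSolvable Q)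
    (hR : ∀ N : Subgroup Q, N.Normal → Group.IsSolvable N → N = ⊥) (hmain : CfsgLib.AschCrit.Main.{u})
    {M : Subgroup Q} [M.Normal] (hMs : IsSimpleGroup M) (hM : ¬ Group.IsSolvable M)
    (hMc : centralizer (M : Set Q) = ⊥) : Odd M.index := by
  classical
  haveI := Fact.mk Nat.prime_two
  have hMev : Even (Nat.card M) := by
    by_contra h
    exact hM (CfsgLib.OddLocal.FTFinal.odd_order_solvable (Nat.not_even_iff_odd.1 h))
  rcases ((hC.of_injective M.subtype M.subtype_injective).herz hMs hM).sylow_shape hmain with hti | ⟨S, hS⟩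
  · -- trivial intersections
    have hO : Cfsg.oddCore Q = ⊥ :=
      hR _ inferInstance (CfsgLib.OddLocal.FTFinal.odd_order_solvable (CfsgLib.ZStar.odd_card_oddCore Q))
    have hO2 : Cfsg.pCore 2 Q = ⊥ := by
      haveI : (Cfsg.pCore 2 Q).Normal := CfsgLib.HallGen.pCore_normal' 2
      obtain ⟨P⟩ := (inferInstance : Nonempty (Sylow 2 Q))
      haveI := (P.isPGroup'.to_le (CfsgLib.HallGen.pCore_le_sylow P)).isNilpotent
      exact hR _ inferInstance inferInstance
    have hsingle : ∀ x ∈ M, orderOf x = 2 → ∀ S T : Sylow 2 Q, x ∈ (S : Subgroup Q) → x ∈ (T : Subgroup Q) →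
        S = T := by
      intro x hx hx2 S T hxS hxT
      obtain ⟨S₀, hS₀⟩ := hC.exists_sylow_inf (M := M) S
      obtain ⟨T₀, hT₀⟩ := hC.exists_sylow_inf (M := M) T
      refine hC.sylow_ext hM ?_
      rw [← hS₀, ← hT₀]
      congr 2
      by_contra hne
      obtain ⟨a, ha, hax⟩ := (hS₀.ge ⟨hxS, hx⟩ : x ∈ (S₀ : Subgroup M).map M.subtype)
      obtain ⟨b, hb, hbx⟩ := (hT₀.ge ⟨hxT, hx⟩ : x ∈ (T₀ : Subgroup M).map M.subtype)
      have hab : a = b := M.subtype_injective (hax.trans hbx.symm)
      have h1 : a ∈ (S₀ : Subgroup M) ⊓ (T₀ : Subgroup M) := ⟨ha, hab ▸ hb⟩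
      rw [hti S₀ T₀ fun e => hne (by rw [e]), mem_bot] at h1
      rw [h1, map_one] at hax
      exact involution_ne_one hx2 hax.symm
    obtain ⟨hQti, -⟩ := CfsgLib.RankOneInter.sylow_ti_of_single hO hO2 M hMev hsingle
    have hK : CfsgLib.CentralMeet.TIGroup Q := by
      refine ⟨⟨fun A B hAB => (hQti A B hAB).le.trans bot_le, fun A => ?_⟩, hO, hO2, hQti⟩
      obtain ⟨u, hu, hu1⟩ := (bot_or_exists_ne_one (A : Subgroup Q)).resolve_left
        (A.ne_bot_of_dvd_card (even_iff_two_dvd.1 (by
          rw [← card_top (G := Q)]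
          exact even_iff_two_dvd.2 ((even_iff_two_dvd.1 hMev).trans (card_dvd_of_le le_top)))))
      refine ⟨u, hu, fun h => hu1 ?_⟩
      rwa [show CfsgLib.CentralMeet.meetGen A = ⊥ from
        le_bot_iff.1 (iSup₂_le fun B hB => (hQti A B (Ne.symm hB)).le), mem_bot] at h
    obtain ⟨J, hJn, hJodd, hfam, -, -, -⟩ := hK.exists_family
    haveI := hJn
    haveI hJs := CfsgLib.RankOneInter.Final.isSimple_of_family hfam
    have hJM : J ≤ M := by
      rcases (inferInstance : (M.subgroupOf J).Normal).eq_bot_or_eq_top with h | h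
      · exfalso
        rw [subgroupOf_eq_bot] at h
        have hJ1 : J ≤ ⊥ := hMc ▸ fun j hj => mem_centralizer_iff.2 fun m hm =>
          (commute_of_normal_of_disjoint M J inferInstance inferInstance h m j hm hj).eq
        haveI := hJs.toNontrivial
        exact J.nontrivial_iff_ne_bot.1 inferInstance (le_bot_iff.1 hJ1)
      · exact subgroupOf_eq_top.1 h
    exact hJodd.of_dvd_nat (index_dvd_of_le hJM)
  · -- elementary Sylow subgroups
    rw [← Nat.not_even_iff_odd]
    intro hev
    obtain ⟨c, hc⟩ := exists_prime_orderOf_dvd_card' (G := Q ⧸ M) 2 (by rw [← index_eq_card]; exact hev.two_dvd)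
    set K := (zpowers c).comap (QuotientGroup.mk' M) with hK
    have hMK : M ≤ K := fun m hm => by
      rw [hK, mem_comap, show QuotientGroup.mk' M m = 1 from (QuotientGroup.eq_one_iff _).2 hm]
      exact one_mem _
    set M₀ := M.subgroupOf K with hM₀
    have h2 : M₀.index = 2 := by
      have h4 : M.relIndex K * K.index = M.index := relIndex_mul_index hMK
      have h5 : K.index = (zpowers c).index := index_comap_of_surjective _ (QuotientGroup.mk'_surjective M)
      have h6 : Nat.card (zpowers c) * (zpowers c).index = M.index := by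
        rw [card_mul_index, ← index_eq_card]
      rw [Nat.card_zpowers, hc, ← h5, ← h4] at h6
      exact (Nat.eq_of_mul_eq_mul_right (Nat.pos_of_ne_zero index_ne_zero_of_finite) h6).symm
    let e : ↥M ≃* ↥M₀ := (subgroupOfEquivOfLe hMK).symm
    have hM₀c : centralizer (M₀ : Set K) = ⊥ := by
      rw [eq_bot_iff]
      intro k hk
      have h1 : (k : Q) ∈ centralizer (M : Set Q) := mem_centralizer_iff.2 fun m hm => by
        have h2 := mem_centralizer_iff.1 hk ⟨m, hMK hm⟩ (mem_subgroupOf.2 hm)
        exact congrArg Subtype.val h2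
      rw [hMc, mem_bot] at h1
      exact mem_bot.2 (Subtype.ext h1)
    haveI := hMs
    refine (hC.of_injective K.subtype K.subtype_injective).no_index_two (M := M₀) (fun h => hM ?_)
      e.symm.isSimpleGroup hM₀c h2 (S.mapSurjective (f := e.toMonoidHom) e.surjective) ?_
    · haveI := h
      exact Group.isSolvable_of_isSolvable_injective (f := e.toMonoidHom) e.injective
    · exact hS.map e

/-- The structure modulo the radical. -/
theorem Cyc.main (hC : Cyc Q) (hns : ¬ Group.IsSolvable Q)
    (hR : ∀ N : Subgroup Q, N.Normal → Group.IsSolvable N → N = ⊥) (hmain : CfsgLib.AschCrit.Main.{u})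
    (hU : U34Goal.{u}) :
    ∃ M : Subgroup Q, M.Normal ∧ Odd M.index ∧ IsSimpleGroup M ∧ ¬ IsMulCommutative M ∧
      (Names ↥M ∨ Cfsg.IsJ1 ↥M) := by
  obtain ⟨M, hMn, hMs, hM, hMc⟩ := hC.exists_socle hns hR
  haveI := hMn
  have hH := (hC.of_injective M.subtype M.subtype_injective).herz hMs hM
  exact ⟨M, hMn, hC.odd_index hns hR hmain hMs hM hMc, hMs, hH.nonabelian, hH.classify hmain hU⟩

end CfsgLib.CentralInter
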