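import Cfsg.Agent.Lib.Recog.CentralIntersections.Basic
import Mathlib.GroupTheory.Transfer

/-!
Owner: helper16. S3308: groups without solvable normal subgroup in which distinct Sylow 2-subgroups meet cyclically.

* `Cyc G`: distinct Sylow 2-subgroups meet cyclically; `Cyc.of_injective`: it passes to subgroups.
* `Cyc.no_commuting`: two nonsolvable subgroups do not commute.
* `Cyc.exists_socle`: a simple normal subgroup with trivial centraliser.
* `Cyc.sylow_ext`: a Sylow subgroup is determined by its meet with that subgroup.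
-/

set_option autoImplicit false
set_option linter.style.haveILetI false
set_option linter.unusedSectionVars false

namespace CfsgLib.CentralInter

open Subgroup
open scoped commutatorElement

universe u v

/-- Distinct Sylow 2-subgroups meet cyclically. -/
def Cyc (G : Type u) [Group G] : Prop :=
  ∀ S T : Sylow 2 G, S ≠ T → IsCyclic ↥((S : Subgroup G) ⊓ (T : Subgroup G))

theorem Cyc.of_injective {G : Type u} [Group G] [Finite G] (hC : Cyc G) {K : Type v} [Group K] (f : K →* G)
    (hf : Function.Injective f) : Cyc K := by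
  haveI := Fact.mk Nat.prime_two
  intro U V hne
  obtain ⟨S, hS⟩ := (U.isPGroup'.map f).exists_le_sylow
  obtain ⟨T, hT⟩ := (V.isPGroup'.map f).exists_le_sylow
  have hp : IsPGroup 2 ((S : Subgroup G).comap f) := S.isPGroup'.comap_of_injective f hf
  have hST : S ≠ T := by
    intro e
    have h1 := U.is_maximal' hp fun x hx => hS ⟨x, hx, rfl⟩
    have h2 := V.is_maximal' hp fun x hx => e ▸ hT ⟨x, hx, rfl⟩
    exact hne (Sylow.ext (h1.symm.trans h2))
  haveI := hC S T hST
  refine isCyclic_of_injective ((f.comp ((U : Subgroup K) ⊓ (V : Subgroup K)).subtype).codRestrict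
    ((S : Subgroup G) ⊓ (T : Subgroup G)) fun x => ⟨hS ⟨x, x.2.1, rfl⟩, hT ⟨x, x.2.2, rfl⟩⟩) fun a b hab => ?_
  exact Subtype.ext (hf (congrArg Subtype.val hab))

/-- A nonsolvable group has no cyclic Sylow 2-subgroup. -/
theorem not_isCyclic_sylow {X : Type u} [Group X] [Finite X] (hns : ¬ Group.IsSolvable X) (P : Sylow 2 X) :
    ¬ IsCyclic (P : Subgroup X) := by
  intro hP
  haveI := Fact.mk Nat.prime_two
  have hev : Even (Nat.card X) := by
    by_contra h
    exact hns (CfsgLib.OddLocal.FTFinal.odd_order_solvable (Nat.not_even_iff_odd.1 h))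
  have hmin : (Nat.card X).minFac = 2 := (Nat.minFac_eq_two_iff _).2 (even_iff_two_dvd.1 hev)
  set τ := MonoidHom.transferSylow P (hP.normalizer_le_centralizer hmin) with hτ
  have hodd : Odd (Nat.card τ.ker) := by
    rw [← Nat.not_even_iff_odd, even_iff_two_dvd]
    exact MonoidHom.not_dvd_card_ker_transferSylow P _
  haveI := CfsgLib.OddLocal.FTFinal.odd_order_solvable hodd
  letI : CommGroup ↥(P : Subgroup X) := hP.commGroup
  exact hns (Group.isSolvable_of_ker_le_range τ.ker.subtype τ (by simp))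

namespace Cyc

variable {G : Type u} [Group G] [Finite G] (hC : Cyc G)
include hC

theorem no_commuting {A B : Subgroup G} (hA : ¬ Group.IsSolvable A) (hB : ¬ Group.IsSolvable B)
    (hc : ∀ a ∈ A, ∀ b ∈ B, a * b = b * a) : False := by
  haveI := Fact.mk Nat.prime_two
  obtain ⟨P₁⟩ := (inferInstance : Nonempty (Sylow 2 A))
  obtain ⟨g, hg⟩ : ∃ g : A, g • P₁ ≠ P₁ := by
    by_contra hall
    push Not at hall
    haveI : (P₁ : Subgroup A).Normal := normalizer_eq_top_iff.1 (eq_top_iff.2 fun g _ =>
      Sylow.smul_eq_iff_mem_normalizer.1 (hall g))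
    haveI := P₁.isPGroup'.isNilpotent
    have hodd : Odd (Nat.card (A ⧸ (P₁ : Subgroup A))) := by
      rw [← Nat.not_even_iff_odd, even_iff_two_dvd, ← Subgroup.index_eq_card]
      exact P₁.not_dvd_index
    haveI := CfsgLib.OddLocal.FTFinal.odd_order_solvable hodd
    exact hA (Group.isSolvable_of_ker_le_range (P₁ : Subgroup A).subtype (QuotientGroup.mk' (P₁ : Subgroup A))
      (le_of_eq (by rw [QuotientGroup.ker_mk', range_subtype])))
  obtain ⟨Q⟩ := (inferInstance : Nonempty (Sylow 2 B))
  set Q' := (Q : Subgroup B).map B.subtype with hQ'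
  have key : ∀ P : Sylow 2 A, ∃ S : Sylow 2 G, (P : Subgroup A).map A.subtype ≤ (S : Subgroup G) ∧
      Q' ≤ (S : Subgroup G) := fun P => by
    have hn : (P : Subgroup A).map A.subtype ≤ normalizer (Q' : Set G) := by
      refine le_trans (fun a ha => ?_) (centralizer_le_normalizer _)
      refine mem_centralizer_iff.2 fun b hb => (hc a ?_ b ?_).symm
      · exact map_subtype_le _ ha
      · exact map_subtype_le _ hb
    obtain ⟨S, hS⟩ := ((P.isPGroup'.map A.subtype).to_sup_of_normal_right' (Q.isPGroup'.map B.subtype)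
      hn).exists_le_sylow
    exact ⟨S, le_sup_left.trans hS, le_sup_right.trans hS⟩
  obtain ⟨S₁, hP₁, hQ₁⟩ := key P₁
  obtain ⟨S₂, hP₂, hQ₂⟩ := key (g • P₁)
  have hne : S₁ ≠ S₂ := by
    intro e
    have hp : IsPGroup 2 ((S₁ : Subgroup G).subgroupOf A) :=
      S₁.isPGroup'.comap_of_injective A.subtype A.subtype_injective
    have h1 := P₁.is_maximal' hp fun x hx => hP₁ ⟨x, hx, rfl⟩
    have h2 := (g • P₁).is_maximal' hp fun x hx => e ▸ hP₂ ⟨x, hx, rfl⟩
    exact hg (Sylow.ext (h2.symm.trans h1))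
  haveI := hC S₁ S₂ hne
  haveI : IsCyclic Q' := isCyclic_of_injective (Subgroup.inclusion (le_inf hQ₁ hQ₂)) (Subgroup.inclusion_injective _)
  exact not_isCyclic_sylow hB Q (isCyclic_of_injective
    ((Q : Subgroup B).equivMapOfInjective B.subtype B.subtype_injective).toMonoidHom (MulEquiv.injective _))

omit hC in
theorem exists_minimal_normal {X : Type u} [Group X] [Finite X] [Nontrivial X] :
    ∃ M : Subgroup X, M.Normal ∧ M ≠ ⊥ ∧ ∀ L : Subgroup X, L.Normal → L ≤ M → L = ⊥ ∨ L = M := by
  obtain ⟨M, ⟨hMn, hM⟩, hmin⟩ := Set.Finite.exists_minimal (s := {M : Subgroup X | M.Normal ∧ M ≠ ⊥})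
    (Set.toFinite _) ⟨⊤, inferInstance, top_ne_bot⟩
  refine ⟨M, hMn, hM, fun L hL hLM => ?_⟩
  by_cases hL1 : L = ⊥
  · exact Or.inl hL1
  · exact Or.inr (le_antisymm hLM (hmin ⟨hL, hL1⟩ hLM))

theorem exists_socle (hns : ¬ Group.IsSolvable G)
    (hR : ∀ N : Subgroup G, N.Normal → Group.IsSolvable N → N = ⊥) :
    ∃ M : Subgroup G, M.Normal ∧ IsSimpleGroup M ∧ ¬ Group.IsSolvable M ∧ centralizer (M : Set G) = ⊥ := by
  classical
  haveI : Nontrivial G := by
    by_contra h
    rw [not_nontrivial_iff_subsingleton] at h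
    exact hns inferInstance
  obtain ⟨M, hMn, hM, hmin⟩ := exists_minimal_normal (X := G)
  haveI := hMn
  have hMns : ¬ Group.IsSolvable M := fun h => hM (hR M hMn h)
  have hMc : centralizer (M : Set G) = ⊥ := by
    refine hR _ inferInstance (by_contra fun h => hC.no_commuting hMns h fun a ha b hb => ?_)
    exact mem_centralizer_iff.1 hb a ha
  refine ⟨M, hMn, ?_, hMns, hMc⟩
  haveI : Nontrivial M := M.nontrivial_iff_ne_bot.2 hM
  obtain ⟨K, hKn, hK, hKmin⟩ := exists_minimal_normal (X := M)
  haveI := hKn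
  set K' := K.map M.subtype with hK'
  have hKM : K' ≤ M := map_subtype_le _
  have hK'ne : K' ≠ ⊥ := fun e => hK ((map_eq_bot_iff_of_injective _ M.subtype_injective).1 e)
  -- a conjugate of `K` is `K` or commutes with it
  have hconj : ∀ g : G, K'.map (MulAut.conj g).toMonoidHom = K' ∨
      ∀ a ∈ K'.map (MulAut.conj g).toMonoidHom, ∀ b ∈ K', a * b = b * a := by
    intro g
    set L := (K'.map (MulAut.conj g).toMonoidHom).subgroupOf M with hL
    have hLM : K'.map (MulAut.conj g).toMonoidHom ≤ M := by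
      rintro _ ⟨k, hk, rfl⟩
      exact hMn.conj_mem k (hKM hk) g
    have hLn : L.Normal := ⟨fun l hl m => by
      obtain ⟨k, ⟨k₀, hk₀, rfl⟩, he⟩ := mem_subgroupOf.1 hl
      have hm' : g⁻¹ * (m : G) * g ∈ M := by simpa using hMn.conj_mem _ m.2 g⁻¹
      refine mem_subgroupOf.2 ⟨g⁻¹ * (m : G) * g * k₀ * (g⁻¹ * (m : G) * g)⁻¹,
        ⟨⟨_, hm'⟩ * k₀ * ⟨_, hm'⟩⁻¹, hKn.conj_mem k₀ hk₀ _, rfl⟩, ?_⟩
      simp only [MulEquiv.coe_toMonoidHom, MulAut.conj_apply, coe_subtype, coe_mul, coe_inv] at he ⊢
      rw [← he]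
      group⟩
    haveI := hLn
    rcases hKmin (L ⊓ K) inferInstance inf_le_right with h | h
    · right
      intro a ha b hb
      obtain ⟨b, hb, rfl⟩ := hb
      have h1 : ⁅(⟨a, hLM ha⟩ : M), b⁆ ∈ L ⊓ K :=
        commutator_le_inf L K (commutator_mem_commutator (mem_subgroupOf.2 ha) hb)
      rw [h, mem_bot, commutatorElement_eq_one_iff_mul_comm] at h1
      exact congrArg Subtype.val h1
    · left
      refine (eq_of_le_of_card_ge (fun k hk => ?_) (le_of_eq ?_)).symm
      · obtain ⟨k, hk, rfl⟩ := hk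
        exact mem_subgroupOf.1 ((h.symm.le.trans inf_le_left) hk)
      · exact card_map_of_injective (MulAut.conj g).injective
  by_cases hKs : Group.IsSolvable K'
  · exfalso
    -- then all conjugates commute
    have hab : ∀ a ∈ K', ∀ b ∈ K', a * b = b * a := by
      intro a ha b hb
      obtain ⟨a, ha, rfl⟩ := ha
      obtain ⟨b, hb, rfl⟩ := hb
      haveI : Group.IsSolvable K := Group.isSolvable_of_isSolvable_injective (f :=
        (K.equivMapOfInjective M.subtype M.subtype_injective).toMonoidHom) (MulEquiv.injective _)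
      haveI : Nontrivial K := K.nontrivial_iff_ne_bot.2 hK
      have hlt := Group.IsSolvable.commutator_lt_top_of_nontrivial K
      rcases hKmin ((commutator K).map K.subtype) inferInstance (map_subtype_le _) with h | h
      · have h1 := mem_map_of_mem K.subtype
          (commutator_mem_commutator (mem_top (⟨a, ha⟩ : K)) (mem_top (⟨b, hb⟩ : K)))
        rw [← _root_.commutator_def, h, mem_bot] at h1
        exact congrArg Subtype.val (commutatorElement_eq_one_iff_mul_comm.1 h1)
      · refine absurd ?_ hlt.ne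
        exact eq_top_iff.2 fun x _ => by
          obtain ⟨y, hy, e⟩ := (h.symm.le : K ≤ _) x.2
          exact Subtype.ext e ▸ hy
    set J := Subgroup.normalClosure (K' : Set G) with hJ
    have hgen : ∀ x ∈ Group.conjugatesOfSet (K' : Set G), ∀ y ∈ Group.conjugatesOfSet (K' : Set G),
        x * y = y * x := by
      intro x hx y hy
      obtain ⟨a, ha, hax⟩ := Group.mem_conjugatesOfSet_iff.1 hx
      obtain ⟨g, rfl⟩ := isConj_iff.1 hax
      obtain ⟨b, hb, hby⟩ := Group.mem_conjugatesOfSet_iff.1 hy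
      obtain ⟨g', rfl⟩ := isConj_iff.1 hby
      have h1 : g'⁻¹ * g * a * (g'⁻¹ * g)⁻¹ * b = b * (g'⁻¹ * g * a * (g'⁻¹ * g)⁻¹) := by
        rcases hconj (g'⁻¹ * g) with h | h
        · exact hab _ (h ▸ ⟨a, ha, rfl⟩) _ hb
        · exact h _ ⟨a, ha, rfl⟩ _ hb
      have h2 := congrArg (fun w => g' * w * g'⁻¹) h1
      simpa [mul_assoc] using h2
    haveI : IsMulCommutative J := Subgroup.isMulCommutative_closure hgen
    have hJne : J ≠ ⊥ := fun e => hK'ne (le_bot_iff.1 (fun x hx => e ▸ subset_normalClosure hx))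
    letI : CommGroup J := { (inferInstance : Group J) with mul_comm := fun a b => mul_comm' a b }
    exact hJne (hR J inferInstance inferInstance)
  · -- `K` is normal in `G`
    have hn : K'.Normal := ⟨fun k hk g => by
      rcases hconj g with h | h
      · exact h.le ⟨k, hk, rfl⟩
      · exfalso
        refine hC.no_commuting (A := K'.map (MulAut.conj g).toMonoidHom) (fun hs => hKs ?_) hKs h
        haveI := hs
        exact Group.isSolvable_of_isSolvable_injective (f :=
          (K'.equivMapOfInjective (MulAut.conj g).toMonoidHom (MulAut.conj g).injective).toMonoidHom) (MulEquiv.injective _)⟩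
    have hKtop : K = ⊤ := by
      rcases hmin K' hn hKM with h | h
      · exact absurd h hK'ne
      · exact eq_top_iff.2 fun x _ => by
          obtain ⟨y, hy, e⟩ := (h.symm.le : M ≤ K') x.2
          exact Subtype.ext e ▸ hy
    exact ⟨fun L hL => hKmin L hL (hKtop ▸ le_top) |>.imp_right (·.trans hKtop)⟩

/-- A Sylow subgroup is determined by its meet with a nonsolvable normal subgroup. -/
theorem sylow_ext {M : Subgroup G} [M.Normal] (hM : ¬ Group.IsSolvable M) {T T' : Sylow 2 G}
    (h : (T : Subgroup G) ⊓ M = (T' : Subgroup G) ⊓ M) : T = T' := by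
  haveI := Fact.mk Nat.prime_two
  by_contra hne
  haveI := hC T T' hne
  haveI : IsCyclic ↥((T : Subgroup G) ⊓ M) :=
    isCyclic_of_injective (Subgroup.inclusion (le_inf inf_le_left (h.le.trans inf_le_left)))
      (Subgroup.inclusion_injective _)
  obtain ⟨P, hP⟩ := (T.isPGroup'.comap_of_injective M.subtype M.subtype_injective).exists_le_sylow
  obtain ⟨R, hR⟩ := (P.isPGroup'.map M.subtype).exists_le_sylow
  obtain ⟨g, hg⟩ := MulAction.exists_smul_eq G T R
  have hsub : (P : Subgroup M).map M.subtype ≤ ((T : Subgroup G) ⊓ M).map (MulAut.conj g).toMonoidHom := by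
    intro x hx
    have h1 : x ∈ ((g • T : Sylow 2 G) : Subgroup G) := hg ▸ hR hx
    rw [CfsgLib.CentralMeet.mem_smul_sylow] at h1
    refine ⟨g⁻¹ * x * g, ⟨h1, ?_⟩, by simp [mul_assoc]⟩
    simpa using (inferInstance : M.Normal).conj_mem _ (map_subtype_le _ hx) g⁻¹
  haveI : IsCyclic ↥(((T : Subgroup G) ⊓ M).map (MulAut.conj g).toMonoidHom) :=
    isCyclic_of_surjective (((T : Subgroup G) ⊓ M).equivMapOfInjective _ (MulAut.conj g).injective).toMonoidHom
      (MulEquiv.surjective _)
  haveI : IsCyclic ↥((P : Subgroup M).map M.subtype) :=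
    isCyclic_of_injective (Subgroup.inclusion hsub) (Subgroup.inclusion_injective _)
  exact not_isCyclic_sylow hM P (isCyclic_of_injective
    ((P : Subgroup M).equivMapOfInjective M.subtype M.subtype_injective).toMonoidHom (MulEquiv.injective _))

/-- A Sylow subgroup meets a normal subgroup in a Sylow subgroup of it. -/
theorem exists_sylow_inf {M : Subgroup G} [M.Normal] (T : Sylow 2 G) :
    ∃ S : Sylow 2 M, (S : Subgroup M).map M.subtype = (T : Subgroup G) ⊓ M := by
  haveI := Fact.mk Nat.prime_two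
  obtain ⟨S, hS⟩ := (T.isPGroup'.comap_of_injective M.subtype M.subtype_injective).exists_le_sylow
  have hle : (T : Subgroup G) ⊓ M ≤ (S : Subgroup M).map M.subtype := fun x hx =>
    ⟨⟨x, hx.2⟩, hS (show (⟨x, hx.2⟩ : M) ∈ (T : Subgroup G).comap M.subtype from hx.1), rfl⟩
  refine ⟨S, le_antisymm ?_ hle⟩
  obtain ⟨R, hR⟩ := (S.isPGroup'.map M.subtype).exists_le_sylow
  obtain ⟨g, hg⟩ := MulAction.exists_smul_eq G T R
  have hsub : (S : Subgroup M).map M.subtype ≤ ((T : Subgroup G) ⊓ M).map (MulAut.conj g).toMonoidHom := by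
    intro x hx
    have h1 : x ∈ ((g • T : Sylow 2 G) : Subgroup G) := hg ▸ hR hx
    rw [CfsgLib.CentralMeet.mem_smul_sylow] at h1
    refine ⟨g⁻¹ * x * g, ⟨h1, ?_⟩, by simp [mul_assoc]⟩
    simpa using (inferInstance : M.Normal).conj_mem _ (map_subtype_le _ hx) g⁻¹
  have h1 := card_le_of_le hsub
  rw [card_map_of_injective (f := (MulAut.conj g).toMonoidHom) (MulAut.conj g).injective] at h1
  exact (eq_of_le_of_card_ge hle h1).ge

end Cyc

end CfsgLib.CentralInter
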